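import Cfsg.Agent.JankoTwo.Module

/-!
The Hermitian product of two vectors of the icosian Leech lattice is even, so every minimal vector
gives a reflection of the lattice.
-/

set_option autoImplicit false

namespace Cfsg.Agent.JankoTwo

open Cfsg.Spor Quaternion

theorem star_mem_icosians {a : ℍ[ℝ]} (ha : a ∈ icosians) : star a ∈ icosians := by
  obtain ⟨x, rfl⟩ := exists_q ha
  rw [← q_conj]; exact q_mem _

theorem icoH_mem : icoH ∈ icosians := q_hI ▸ q_mem _

theorem two_mul_comm (a : ℍ[ℝ]) : 2 * a = a * 2 := by rw [two_mul, mul_two]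

/-- Twice an icosian. -/
def Ev (z : ℍ[ℝ]) : Prop := ∃ a ∈ icosians, z = 2 * a

theorem ev_add {x y : ℍ[ℝ]} (hx : Ev x) (hy : Ev y) : Ev (x + y) := by
  obtain ⟨a, ha, rfl⟩ := hx; obtain ⟨b, hb, rfl⟩ := hy
  exact ⟨a + b, add_mem ha hb, (mul_add 2 a b).symm⟩

theorem ev_mul_left {x c : ℍ[ℝ]} (hc : c ∈ icosians) (hx : Ev x) : Ev (c * x) := by
  obtain ⟨a, ha, rfl⟩ := hx
  exact ⟨c * a, mul_mem hc ha, by rw [← mul_assoc, ← two_mul_comm, mul_assoc]⟩

theorem ev_two_mul {c x : ℍ[ℝ]} (hc : c ∈ icosians) (hx : x ∈ icosians) : Ev (2 * c * x) :=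
  ⟨c * x, mul_mem hc hx, mul_assoc 2 c x⟩

theorem ev_star {x : ℍ[ℝ]} (hx : Ev x) : Ev (star x) := by
  obtain ⟨a, ha, rfl⟩ := hx
  refine ⟨star a, star_mem_icosians ha, ?_⟩
  rw [star_mul, show star (2 : ℍ[ℝ]) = 2 from star_ofNat 2, ← two_mul_comm]

theorem icoH_mul_star : icoH * star icoH = 2 := by
  rw [← q_hI, ← q_conj, ← q_mul, h_mul_conj, q_ofInt, Int.cast_ofNat]

theorem star_mul_icoH : star icoH * icoH = 2 := by
  rw [← q_hI, ← q_conj, ← q_mul, h_conj_mul, q_ofInt, Int.cast_ofNat]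

noncomputable def gA : Fin 3 → ℍ[ℝ] := ![star icoH, star icoH, star icoH]
noncomputable def gB : Fin 3 → ℍ[ℝ] := ![icoH, icoH, 0]
noncomputable def gC : Fin 3 → ℍ[ℝ] := ![0, icoH, icoH]
noncomputable def gD : Fin 3 → ℍ[ℝ] := ![1, 1, 1]

theorem decomp_v {v : Fin 3 → ℍ[ℝ]} (hv : v ∈ icoLeech) :
    ∃ a ∈ icosians, ∃ b ∈ icosians, ∃ c ∈ icosians, ∃ e ∈ icosians,
      v = (fun t => c * gA t) + (fun t => b * gB t) + (fun t => a * gC t) +
        (fun t => 2 * e * gD t) := by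
  obtain ⟨a, ha, h1⟩ := hv.2.1
  obtain ⟨b, hb, h2⟩ := hv.2.2.1
  obtain ⟨c, hc, h3⟩ := hv.2.2.2
  have hv1 : v 1 = v 0 - a * icoH := by rw [← h1]; abel
  have hv2 : v 2 = v 0 - a * icoH - b * icoH := by rw [← hv1, ← h2]; abel
  rw [hv1, hv2] at h3
  refine ⟨-a, neg_mem ha, b, hb, c, hc, a * icoH - v 0,
    sub_mem (mul_mem ha icoH_mem) (hv.1 0), ?_⟩
  funext t
  fin_cases t
  · simp [gA, gB, gC, gD, ← h3, two_mul]; abel
  · simp [gA, gB, gC, gD, ← h3, hv1, two_mul]; abel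
  · simp [gA, gB, gC, gD, ← h3, hv2, two_mul]; abel

theorem ev_gen {v g : Fin 3 → ℍ[ℝ]} (hv : v ∈ icoLeech) (hA : Ev (qip gA g)) (hB : Ev (qip gB g))
    (hC : Ev (qip gC g)) (hD : qip gD g ∈ icosians) : Ev (qip v g) := by
  obtain ⟨a, ha, b, hb, c, hc, e, he, rfl⟩ := decomp_v hv
  simp only [qip_add_left, qip_smul_left]
  exact ev_add (ev_add (ev_add (ev_mul_left hc hA) (ev_mul_left hb hB)) (ev_mul_left ha hC))
    (ev_two_mul he hD)

theorem qip3 (x y : Fin 3 → ℍ[ℝ]) :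
    qip x y = x 0 * star (y 0) + x 1 * star (y 1) + x 2 * star (y 2) := by
  simp [qip, Fin.sum_univ_three]

theorem ev_two_smul {x : ℍ[ℝ]} (hx : x ∈ icosians) : Ev (x + x) := ⟨x, hx, (two_mul x).symm⟩

/-- The Hermitian product on the lattice takes values in twice the icosians. -/
theorem qip_even {v w : Fin 3 → ℍ[ℝ]} (hv : v ∈ icoLeech) (hw : w ∈ icoLeech) : Ev (qip v w) := by
  have hh := icoH_mem
  have hs := star_mem_icosians icoH_mem
  have h1 : (1 : ℍ[ℝ]) ∈ icosians := one_mem _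
  have e2 : Ev 2 := ⟨1, h1, (mul_one 2).symm⟩
  have AA : Ev (qip gA gA) := by
    have : qip gA gA = 2 + 2 + 2 := by simp [qip3, gA, star_mul_icoH]
    rw [this]; exact ev_add (ev_add e2 e2) e2
  have AB : Ev (qip gA gB) := by
    have : qip gA gB = star icoH * star icoH + star icoH * star icoH := by simp [qip3, gA, gB]
    rw [this]; exact ev_two_smul (mul_mem hs hs)
  have AC : Ev (qip gA gC) := by
    have : qip gA gC = star icoH * star icoH + star icoH * star icoH := by simp [qip3, gA, gC]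
    rw [this]; exact ev_two_smul (mul_mem hs hs)
  have BB : Ev (qip gB gB) := by
    have : qip gB gB = 2 + 2 := by simp [qip3, gB, icoH_mul_star]
    rw [this]; exact ev_add e2 e2
  have CC : Ev (qip gC gC) := by
    have : qip gC gC = 2 + 2 := by simp [qip3, gC, icoH_mul_star]
    rw [this]; exact ev_add e2 e2
  have BC : Ev (qip gB gC) := by
    have : qip gB gC = 2 := by simp [qip3, gB, gC, icoH_mul_star]
    rw [this]; exact e2
  have BA : Ev (qip gB gA) := star_qip gA gB ▸ ev_star AB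
  have CA : Ev (qip gC gA) := star_qip gA gC ▸ ev_star AC
  have CB : Ev (qip gC gB) := star_qip gB gC ▸ ev_star BC
  have mem : ∀ x y : Fin 3 → ℍ[ℝ], (∀ t, x t ∈ icosians) → (∀ t, y t ∈ icosians) →
      qip x y ∈ icosians := fun x y hx hy => by
    exact sum_mem fun t _ => mul_mem (hx t) (star_mem_icosians (hy t))
  have mA : ∀ t, gA t ∈ icosians := fun t => by fin_cases t <;> simpa [gA] using hs
  have mB : ∀ t, gB t ∈ icosians := fun t => by fin_cases t <;> simp [gB, hh, zero_mem]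
  have mC : ∀ t, gC t ∈ icosians := fun t => by fin_cases t <;> simp [gC, hh, zero_mem]
  have mD : ∀ t, gD t ∈ icosians := fun t => by fin_cases t <;> simp [gD, h1]
  have wA := ev_gen hw AA BA CA (mem _ _ mD mA)
  have wB := ev_gen hw AB BB CB (mem _ _ mD mB)
  have wC := ev_gen hw AC BC CC (mem _ _ mD mC)
  exact ev_gen hv (star_qip w gA ▸ ev_star wA) (star_qip w gB ▸ ev_star wB)
    (star_qip w gC ▸ ev_star wC) (mem _ _ mD hw.1)

theorem qrefl_mem {r x : Fin 3 → ℍ[ℝ]} (hr : r ∈ icoLeech) (hx : x ∈ icoLeech) :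
    qrefl r x ∈ icoLeech := by
  obtain ⟨a, ha, he⟩ := qip_even hx hr
  have : qrefl r x = x - fun t => a * r t := by
    funext t
    simp only [qrefl, he, Pi.sub_apply, two_mul, ← two_smul ℝ, smul_smul]
    norm_num
  rw [this]
  exact icoLeech_sub hx (icoLeech_smul ha hr)

end Cfsg.Agent.JankoTwo
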