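import Cfsg.Agent.Compute.Perm

/-! Splitting long kernel checks into pieces of bounded size. -/

set_option autoImplicit false

namespace Cfsg.Agent.JankoTwo

open Cfsg.Agent.Compute

/-- `f` holds on `a, …, a + len - 1`. -/
noncomputable def allRange (a len : ℕ) (f : ℕ → Bool) : Bool :=
  allBelow len fun j => f (Nat.add a j)

theorem allBelow_zero (f : ℕ → Bool) : allBelow 0 f = true := rfl

theorem allBelow_of_eq {a n : ℕ} {f : ℕ → Bool} (h : a = n) (ha : allBelow a f = true) :
    allBelow n f = true := h ▸ ha

theorem allBelow_append {a b : ℕ} {f : ℕ → Bool} (h1 : allBelow a f = true)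
    (h2 : allRange a b f = true) : allBelow (a + b) f = true := by
  rw [allBelow_eq_true] at h1 ⊢
  have h3 := allBelow_eq_true.mp h2
  intro j hj
  by_cases hja : j < a
  · exact h1 j hja
  · have := h3 (j - a) (by omega)
    rwa [show Nat.add a (j - a) = j from Nat.add_sub_cancel' (by omega)] at this

theorem allBelow_step {a b c : ℕ} {f : ℕ → Bool} (h : a + b = c) (h1 : allBelow a f = true)
    (h2 : allRange a b f = true) : allBelow c f = true :=
  allBelow_of_eq h (allBelow_append h1 h2)

variable {G : Type*} [Group G] {Ω : Type*} [MulAction G Ω] (R : Rep G Ω)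

/-- The part of a level check not depending on the transversal. -/
noncomputable def levelHead (L : Level) (Ls : List Level) : Bool :=
  Nat.blt L.base R.n && Nat.blt 0 L.size && L.gens.all R.okb &&
    (topGens Ls).all (fun g => memB g L.gens && Nat.beq (R.act g L.base) L.base)

/-- The Schreier test at one transversal entry. -/
noncomputable def schreierAt (L : Level) (Ls : List Level) (j : ℕ) : Bool :=
  L.gens.all (fun s =>
    Nat.blt (L.pos (R.act (R.mul s (R.entry L j).u) L.base)) L.size &&
      Nat.beq (R.sift (L :: Ls) (R.mul s (R.entry L j).u)) R.one)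

theorem checkLevel_of_parts {L : Level} {Ls : List Level} (h1 : levelHead R L Ls = true)
    (h2 : allBelow L.size (R.checkEntry L) = true)
    (h3 : allBelow L.size (schreierAt R L Ls) = true) : R.checkLevel L Ls = true := by
  simp only [levelHead, Bool.and_eq_true] at h1
  simp only [Rep.checkLevel, Bool.and_eq_true]
  exact ⟨⟨h1, h2⟩, h3⟩

end Cfsg.Agent.JankoTwo
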