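import Cfsg.Agent.JankoTwo.ReflDefs
import Cfsg.Agent.JankoTwo.Chunks

/-! Kernel evaluation: signatures, generators, spanning tree. -/

set_option autoImplicit false
set_option maxHeartbeats 0

namespace Cfsg.Agent.JankoTwo

open Cfsg.Agent.Compute

theorem sigCheck_ok_0 : allRange 0 45 sigAt = true := by decide +kernel

theorem sigCheck_ok_45 : allRange 45 45 sigAt = true := by decide +kernel

theorem sigCheck_ok_90 : allRange 90 45 sigAt = true := by decide +kernel

theorem sigCheck_ok_135 : allRange 135 45 sigAt = true := by decide +kernel

theorem sigCheck_ok_180 : allRange 180 45 sigAt = true := by decide +kernel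

theorem sigCheck_ok_225 : allRange 225 45 sigAt = true := by decide +kernel

theorem sigCheck_ok_270 : allRange 270 45 sigAt = true := by decide +kernel

theorem sigCheck_ok : allBelow 315 sigAt = true := by
  refine allBelow_step (a := 270) (b := 45) (by norm_num) ?_ sigCheck_ok_270
  refine allBelow_step (a := 225) (b := 45) (by norm_num) ?_ sigCheck_ok_225
  refine allBelow_step (a := 180) (b := 45) (by norm_num) ?_ sigCheck_ok_180
  refine allBelow_step (a := 135) (b := 45) (by norm_num) ?_ sigCheck_ok_135
  refine allBelow_step (a := 90) (b := 45) (by norm_num) ?_ sigCheck_ok_90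
  refine allBelow_step (a := 45) (b := 45) (by norm_num) ?_ sigCheck_ok_45
  refine allBelow_step (a := 0) (b := 45) (by norm_num) ?_ sigCheck_ok_0
  exact allBelow_zero _

theorem nodup_sigs : nodupB reflSigs = true ∧ reflSigs.length = 315 := by decide +kernel

theorem genCheck0_0 : allRange 0 80 (genAt 0) = true := by decide +kernel

theorem genCheck0_80 : allRange 80 80 (genAt 0) = true := by decide +kernel

theorem genCheck0_160 : allRange 160 80 (genAt 0) = true := by decide +kernel

theorem genCheck0_240 : allRange 240 75 (genAt 0) = true := by decide +kernel

theorem genCheck0 : allBelow 315 (genAt 0) = true := by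
  refine allBelow_step (a := 240) (b := 75) (by norm_num) ?_ genCheck0_240
  refine allBelow_step (a := 160) (b := 80) (by norm_num) ?_ genCheck0_160
  refine allBelow_step (a := 80) (b := 80) (by norm_num) ?_ genCheck0_80
  refine allBelow_step (a := 0) (b := 80) (by norm_num) ?_ genCheck0_0
  exact allBelow_zero _

theorem genCheck1_0 : allRange 0 80 (genAt 1) = true := by decide +kernel

theorem genCheck1_80 : allRange 80 80 (genAt 1) = true := by decide +kernel

theorem genCheck1_160 : allRange 160 80 (genAt 1) = true := by decide +kernel

theorem genCheck1_240 : allRange 240 75 (genAt 1) = true := by decide +kernel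

theorem genCheck1 : allBelow 315 (genAt 1) = true := by
  refine allBelow_step (a := 240) (b := 75) (by norm_num) ?_ genCheck1_240
  refine allBelow_step (a := 160) (b := 80) (by norm_num) ?_ genCheck1_160
  refine allBelow_step (a := 80) (b := 80) (by norm_num) ?_ genCheck1_80
  refine allBelow_step (a := 0) (b := 80) (by norm_num) ?_ genCheck1_0
  exact allBelow_zero _

theorem genCheck2_0 : allRange 0 80 (genAt 2) = true := by decide +kernel

theorem genCheck2_80 : allRange 80 80 (genAt 2) = true := by decide +kernel

theorem genCheck2_160 : allRange 160 80 (genAt 2) = true := by decide +kernel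

theorem genCheck2_240 : allRange 240 75 (genAt 2) = true := by decide +kernel

theorem genCheck2 : allBelow 315 (genAt 2) = true := by
  refine allBelow_step (a := 240) (b := 75) (by norm_num) ?_ genCheck2_240
  refine allBelow_step (a := 160) (b := 80) (by norm_num) ?_ genCheck2_160
  refine allBelow_step (a := 80) (b := 80) (by norm_num) ?_ genCheck2_80
  refine allBelow_step (a := 0) (b := 80) (by norm_num) ?_ genCheck2_0
  exact allBelow_zero _

theorem genCheck3_0 : allRange 0 80 (genAt 3) = true := by decide +kernel

theorem genCheck3_80 : allRange 80 80 (genAt 3) = true := by decide +kernel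

theorem genCheck3_160 : allRange 160 80 (genAt 3) = true := by decide +kernel

theorem genCheck3_240 : allRange 240 75 (genAt 3) = true := by decide +kernel

theorem genCheck3 : allBelow 315 (genAt 3) = true := by
  refine allBelow_step (a := 240) (b := 75) (by norm_num) ?_ genCheck3_240
  refine allBelow_step (a := 160) (b := 80) (by norm_num) ?_ genCheck3_160
  refine allBelow_step (a := 80) (b := 80) (by norm_num) ?_ genCheck3_80
  refine allBelow_step (a := 0) (b := 80) (by norm_num) ?_ genCheck3_0
  exact allBelow_zero _

theorem genCheck_ok : genCheck = true := by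
  refine allBelow_eq_true.mpr fun k hk => ?_
  interval_cases k
  exacts [genCheck0, genCheck1, genCheck2, genCheck3]

theorem parentCheck_ok : parentCheck = true := by decide +kernel

theorem axisCodes_length : axisCodes.length = 315 := by decide +kernel

theorem genAxes_bounds :
    genCodes.length = 4 ∧ allBelow 4 (fun k => Nat.blt (genAxes.getD k 0) 315) = true := by
  decide +kernel

end Cfsg.Agent.JankoTwo
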