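import Cfsg.Agent.JankoTwo.Enum
import Cfsg.Agent.JankoTwo.Even
import Cfsg.Agent.JankoTwo.ReflCheck

/-!
The 315 reflections of the icosian Leech lattice.
-/

set_option autoImplicit false

namespace Cfsg.Agent.JankoTwo

open Cfsg.Spor Quaternion Cfsg.Agent.Compute

/-- The reflection in a minimal vector, as a permutation of the lattice. -/
noncomputable def reflPerm (r : icoLeech) (hr : qip (r : Fin 3 → ℍ[ℝ]) r = 4) :
    Equiv.Perm icoLeech :=
  Function.Involutive.toPerm (fun x => ⟨qrefl r x, qrefl_mem r.2 x.2⟩)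
    fun x => Subtype.ext (qrefl_qrefl hr x)

theorem reflPerm_apply (r : icoLeech) (hr : qip (r : Fin 3 → ℍ[ℝ]) r = 4) (x : icoLeech) :
    ((reflPerm r hr x : icoLeech) : Fin 3 → ℍ[ℝ]) = qrefl r x := rfl

theorem isIcoReflection_reflPerm (r : icoLeech) (hr : qip (r : Fin 3 → ℍ[ℝ]) r = 4) :
    IsIcoReflection (reflPerm r hr) := ⟨r, hr, fun _ => rfl⟩

theorem axI_mem {i : ℕ} (hi : i < 315) : axI i ∈ axesL := by
  have h : i < axisCodes.length := axisCodes_length.symm ▸ hi
  rw [axI, List.getD_eq_getElem _ _ h]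
  exact List.mem_map.mpr ⟨_, List.getElem_mem h, rfl⟩

theorem exists_axI {a : V3} (ha : a ∈ axesL) : ∃ i : Fin 315, a = axI i := by
  obtain ⟨p, hp, rfl⟩ := List.mem_map.mp ha
  obtain ⟨i, hi, rfl⟩ := List.getElem_of_mem hp
  exact ⟨⟨i, axisCodes_length ▸ hi⟩, by rw [axI, List.getD_eq_getElem _ _ hi]⟩

theorem four_q : (Ico.ofInt 4).q = 4 := by simp

theorem ip_eq_four {v : V3} : v.ip v = Ico.ofInt 4 ↔ qip v.q v.q = 4 :=
  ⟨fun h => by rw [← q_ip, h, four_q], fun h => q_inj (by rw [q_ip, h, four_q])⟩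

/-- The axis number `i`, in the lattice. -/
noncomputable def axP (i : Fin 315) : icoLeech := (axI i).pt (axis_spec (axI_mem i.2)).1

theorem axP_coe (i : Fin 315) : (axP i : Fin 3 → ℍ[ℝ]) = (axI i).q := rfl

theorem axP_norm (i : Fin 315) : qip (axP i : Fin 3 → ℍ[ℝ]) (axP i) = 4 :=
  ip_eq_four.mp (axis_spec (axI_mem i.2)).2

/-- The reflection number `i`. -/
noncomputable def refl315 (i : Fin 315) : Equiv.Perm icoLeech := reflPerm (axP i) (axP_norm i)

/-- The unit number `u`. -/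
noncomputable def unitQ (u : Fin 120) : ℍ[ℝ] := (unitI u).q

theorem unitQ_mem (u : Fin 120) : unitQ u ∈ icosians := q_mem _

theorem star_unitQ_mul (u : Fin 120) : star (unitQ u) * unitQ u = 1 := by
  rw [unitQ, ← q_conj, ← q_mul, (unit_conj_mul u.2).1, q_ofInt, Int.cast_one]

theorem unitQ_mul_star (u : Fin 120) : unitQ u * star (unitQ u) = 1 := by
  rw [unitQ, ← q_conj, ← q_mul, (unit_conj_mul u.2).2, q_ofInt, Int.cast_one]

theorem qrefl_unit {e : ℍ[ℝ]} (he : star e * e = 1) (r x : Fin 3 → ℍ[ℝ]) :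
    qrefl (fun t => e * r t) x = qrefl r x := by
  have h : qip x (fun t => e * r t) = qip x r * star e := by
    simp [qip, Finset.sum_mul, mul_assoc]
  funext t
  simp only [qrefl, h, smul_mul_assoc, mul_assoc]
  rw [← mul_assoc (star e) e, he, one_mul]

theorem refl_eq_of_unit (u : Fin 120) {i : Fin 315} {r : icoLeech}
    (hr : qip (r : Fin 3 → ℍ[ℝ]) r = 4)
    (h : (r : Fin 3 → ℍ[ℝ]) = fun t => unitQ u * (axP i : Fin 3 → ℍ[ℝ]) t) :
    reflPerm r hr = refl315 i := by
  ext x : 1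
  apply Subtype.ext
  rw [refl315, reflPerm_apply, reflPerm_apply, h, qrefl_unit (star_unitQ_mul u)]

/-- Every minimal vector is a unit multiple of an axis. -/
theorem exists_axis {r : Fin 3 → ℍ[ℝ]} (hr : r ∈ icoLeech) (h4 : qip r r = 4) :
    ∃ (u : Fin 120) (i : Fin 315), r = fun t => unitQ u * (axP i : Fin 3 → ℍ[ℝ]) t := by
  obtain ⟨v, hv, he⟩ := exists_v3 ⟨r, hr⟩
  have he' : v.q = r := he
  subst he'
  obtain ⟨u, hu, a, ha, rfl⟩ := min_vec hv (ip_eq_four.mpr h4)
  obtain ⟨i, rfl⟩ := exists_axI ha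
  exact ⟨⟨u, hu⟩, i, by rw [v3_q_smul]; rfl⟩

theorem reflPerm_eq_of_eq {r : icoLeech} {f : Equiv.Perm icoLeech}
    (hr : qip (r : Fin 3 → ℍ[ℝ]) r = 4)
    (hf : ∀ x : icoLeech, ((f x : icoLeech) : Fin 3 → ℍ[ℝ]) = qrefl r x) : f = reflPerm r hr := by
  ext x : 1
  exact Subtype.ext (hf x)

theorem isIcoReflection_iff {f : Equiv.Perm icoLeech} :
    IsIcoReflection f ↔ ∃ i, f = refl315 i := by
  constructor
  · rintro ⟨r, hr, hf⟩
    obtain ⟨u, i, hri⟩ := exists_axis r.2 hr
    exact ⟨i, (reflPerm_eq_of_eq hr hf).trans (refl_eq_of_unit u hr hri)⟩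
  · rintro ⟨i, rfl⟩
    exact isIcoReflection_reflPerm _ _

theorem q_refl {r v : V3} (hr : r.lat = true) (hv : v.lat = true) :
    (V3.refl r v).q = qrefl r.q v.q := by
  obtain ⟨a, ha, he⟩ := qip_even (lat_iff.mp hv) (lat_iff.mp hr)
  obtain ⟨y, rfl⟩ := exists_q ha
  have hy : (v.ip r).q = 2 * y.q := by rw [q_ip, he]
  have hh := q_half (evenB_of_double hy)
  funext t
  rw [V3.refl, v3_q_sub, v3_q_smul]
  simp only [qrefl, Pi.sub_apply]
  rw [← q_ip, hh, two_mul, ← two_smul ℝ, smul_smul]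
  norm_num

theorem twoE_lat : ∀ t : Fin 3, (twoE t).lat = true := by decide

theorem nodupB_spec {l : List ℕ} (h : nodupB l = true) : l.Nodup := by
  induction l with
  | nil => exact List.nodup_nil
  | cons a t ih =>
    rw [show nodupB (a :: t) = (!memB a t && nodupB t) from rfl, Bool.and_eq_true] at h
    refine List.nodup_cons.mpr ⟨fun hm => ?_, ih h.2⟩
    rw [memB_eq_true.mpr hm] at h
    simp at h

theorem refl315_injective : Function.Injective refl315 := by
  intro i j h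
  have key : ∀ t : Fin 3, (axI i).refl (twoE t) = (axI j).refl (twoE t) := by
    intro t
    apply v3_q_inj
    rw [q_refl (axis_spec (axI_mem i.2)).1 (twoE_lat t),
      q_refl (axis_spec (axI_mem j.2)).1 (twoE_lat t)]
    have := congrArg (fun f : Equiv.Perm icoLeech =>
      ((f ((twoE t).pt (twoE_lat t)) : icoLeech) : Fin 3 → ℍ[ℝ])) h
    simp only [refl315, reflPerm_apply, axP_coe] at this
    exact this
  have k0 : (axI i).refl (twoE 0) = (axI j).refl (twoE 0) := key 0
  have k1 : (axI i).refl (twoE 1) = (axI j).refl (twoE 1) := key 1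
  have k2 : (axI i).refl (twoE 2) = (axI j).refl (twoE 2) := key 2
  have hs : sigOf (axI i) = sigOf (axI j) := by simp only [sigOf, k0, k1, k2]
  have hi := allBelow_eq_true.mp sigCheck_ok i i.2
  have hj := allBelow_eq_true.mp sigCheck_ok j j.2
  unfold sigAt at hi hj
  rw [Nat.beq_eq] at hi hj
  have hl := nodup_sigs.2
  rw [List.getD_eq_getElem _ _ (by omega)] at hi hj
  exact Fin.ext ((List.Nodup.getElem_inj_iff (nodupB_spec nodup_sigs.1)).mp
    (by rw [← hi, ← hj, hs]))

theorem ncard_isIcoReflection : {f : Equiv.Perm icoLeech | IsIcoReflection f}.ncard = 315 := by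
  have h : {f : Equiv.Perm icoLeech | IsIcoReflection f} = Set.range refl315 := by
    ext f
    simp [isIcoReflection_iff, eq_comm]
  rw [h, Set.ncard_range_of_injective refl315_injective, Nat.card_fin]

theorem unitCodes_nodup : nodupB unitCodes = true ∧ unitCodes.length = 120 ∧
    allL unitCodes (fun c => Nat.beq (Ico.ofCode c).code c) = true := by decide +kernel

theorem unitQ_injective : Function.Injective unitQ := by
  intro u w h
  have h1 : unitI u = unitI w := q_inj h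
  obtain ⟨hn, hl, hc⟩ := unitCodes_nodup
  have h2 : ∀ k : Fin 120, (unitI k).code = unitCodes.getD k 0 := by
    intro k
    have hk : (k : ℕ) < unitCodes.length := hl.symm ▸ k.2
    rw [unitI, List.getD_eq_getElem _ _ hk]
    exact Nat.eq_of_beq_eq_true (allL_spec hc _ (List.getElem_mem hk))
  have h3 := h2 u
  rw [h1, h2 w, List.getD_eq_getElem _ _ (hl.symm ▸ w.2),
    List.getD_eq_getElem _ _ (hl.symm ▸ u.2)] at h3
  exact Fin.ext ((List.Nodup.getElem_inj_iff (nodupB_spec hn)).mp h3.symm)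

theorem axP_ne_zero (i : Fin 315) : ∃ t, (axP i : Fin 3 → ℍ[ℝ]) t ≠ 0 := by
  by_contra h
  push Not at h
  have := axP_norm i
  simp [qip, h] at this
  rw [four_eq] at this
  have := congrArg (·.re) this
  simp at this

theorem ncard_minimal :
    {r : Fin 3 → ℍ[ℝ] | r ∈ icoLeech ∧ qip r r = 4}.ncard = 37800 := by
  let g : Fin 120 × Fin 315 → Fin 3 → ℍ[ℝ] := fun p t => unitQ p.1 * (axP p.2 : Fin 3 → ℍ[ℝ]) t
  have hm : ∀ p, g p ∈ icoLeech := fun p => icoLeech_smul (unitQ_mem _) (axP p.2).2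
  have hn : ∀ p, qip (g p) (g p) = 4 := fun p => by
    rw [show g p = fun t => unitQ p.1 * (axP p.2 : Fin 3 → ℍ[ℝ]) t from rfl, qip_smul, axP_norm,
      show (4 : ℍ[ℝ]) = 2 * 2 by norm_num, ← mul_assoc, ← two_mul_comm, mul_assoc, mul_assoc,
      ← mul_assoc (unitQ p.1), ← two_mul_comm, mul_assoc, unitQ_mul_star, mul_one]
  have hinj : Function.Injective g := by
    rintro ⟨u, i⟩ ⟨w, j⟩ h
    have hij : i = j := by
      apply refl315_injective
      rw [← refl_eq_of_unit u (r := ⟨_, hm (u, i)⟩) (hn (u, i)) rfl,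
        ← refl_eq_of_unit w (r := ⟨_, hm (w, j)⟩) (hn (w, j)) rfl]
      congr 1
      exact Subtype.ext h
    subst hij
    obtain ⟨t, ht⟩ := axP_ne_zero i
    have hu : u = w := unitQ_injective (mul_right_cancel₀ ht (congrFun h t))
    rw [hu]
  have h : {r : Fin 3 → ℍ[ℝ] | r ∈ icoLeech ∧ qip r r = 4} = Set.range g := by
    ext r
    constructor
    · rintro ⟨h1, h2⟩
      obtain ⟨u, i, rfl⟩ := exists_axis h1 h2
      exact ⟨(u, i), rfl⟩
    · rintro ⟨p, rfl⟩
      exact ⟨hm p, hn p⟩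
  rw [h, Set.ncard_range_of_injective hinj, Nat.card_prod, Nat.card_fin, Nat.card_fin]

end Cfsg.Agent.JankoTwo
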