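import Cfsg.Agent.JankoTwo.Blocks
import Cfsg.Agent.LargeExtra.Quotient

/-!
The centraliser of a reflection in `J₂` is an extension of an extraspecial group of order 32 by
`A₅`.
-/

set_option autoImplicit false

namespace Cfsg.Agent.JankoTwo

open Cfsg.Spor Cfsg.Agent.Compute
open scoped commutatorElement

/-- Pointwise agreement on the base points 1, 2, 3. -/
noncomputable def agree3 (f g : ℕ → ℕ) : Bool :=
  allBelow 3 fun k => Nat.beq (f (Nat.succ k)) (g (Nat.succ k))

/-- The code of the central involution. -/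
noncomputable def zCode : ℕ := genCodes.getD 0 0

/-- The checks for being extraspecial. -/
noncomputable def esCheck : Bool :=
  Nat.beq (getField 9 zCode 0) 0 &&
  allBelow 5 (fun k => Nat.beq (blkIdx (getField 9 zCode (bP k))) k) &&
  allL kerWit (fun a =>
    (agree3 (fun x => app3 a (app3 a x)) (fun x => x) ||
      agree3 (fun x => app3 a (app3 a x)) (getField 9 zCode)) &&
    allL kerWit (fun b => agree3 (fun x => app3 a (app3 b x)) (fun x => app3 b (app3 a x)) ||
      agree3 (fun x => app3 a (app3 b x)) (fun x => getField 9 zCode (app3 b (app3 a x)))) &&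
    (agree3 (app3 a) (fun x => x) || agree3 (app3 a) (getField 9 zCode) ||
      anyL kerWit (fun b => !agree3 (fun x => app3 a (app3 b x)) (fun x => app3 b (app3 a x))))) &&
  !agree3 (getField 9 zCode) (fun x => x)

theorem esCheck_ok : esCheck = true := by decide +kernel

theorem Cg_fix0 {σ : Equiv.Perm (Fin 315)} (h : σ ∈ Cg) : σ 0 = 0 := by
  obtain ⟨b0, -⟩ := base_facts
  have h2 := MulAction.mem_stabilizer_iff.mp (Rep.next_fixes j2L0_ok h)
  rwa [b0, pt_eq (by norm_num : 0 < 315), Equiv.Perm.smul_def] at h2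

theorem Cg_le : Cg ≤ K315 := by
  rw [K315_eq, j2Chain]; exact Rep.chainGroup_next_le j2Chain_check

theorem mem_Cg_iff {σ : Equiv.Perm (Fin 315)} : σ ∈ Cg ↔ σ ∈ K315 ∧ σ 0 = 0 := by
  refine ⟨fun h => ⟨Cg_le h, Cg_fix0 h⟩, fun ⟨h1, h2⟩ => ?_⟩
  obtain ⟨b0, -⟩ := base_facts
  have hc : rep315.checkChain [j2L0, j2L1, j2L2, j2L3] = true := j2Chain_check
  rw [Cg, ← Rep.chainGroup_inf_stabilizer hc b0]
  refine Subgroup.mem_inf.mpr ⟨by rw [← j2Chain, ← K315_eq]; exact h1,
    MulAction.mem_stabilizer_iff.mpr ?_⟩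
  rw [Equiv.Perm.smul_def, pt_eq (by norm_num : 0 < 315)]
  exact h2

theorem agree3_eq {σ τ : Equiv.Perm (Fin 315)} (hσ : σ ∈ Cg) (hτ : τ ∈ Cg) {f g : ℕ → ℕ}
    (hf : ∀ x : Fin 315, (σ x : ℕ) = f x) (hg : ∀ x : Fin 315, (τ x : ℕ) = g x)
    (h : agree3 f g = true) : σ = τ := by
  have hk := allBelow_eq_true.mp h
  have key : ∀ k, k < 3 → ∀ hk' : k + 1 < 315, σ ⟨k + 1, hk'⟩ = τ ⟨k + 1, hk'⟩ := fun k hk3 hk' =>
    Fin.ext (by rw [hf, hg]; exact Nat.eq_of_beq_eq_true (hk k hk3))
  have hfix : ∀ y : Fin 315, σ y = τ y → (τ⁻¹ * σ) y = y := fun y e => by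
    rw [Equiv.Perm.mul_apply, e]; exact Equiv.symm_apply_apply τ y
  have := eq_one_of_fix (Cg_le (mul_mem (inv_mem hτ) hσ))
    (hfix 0 (by rw [Cg_fix0 hσ, Cg_fix0 hτ]))
    (hfix 1 (key 0 (by norm_num) (by norm_num))) (hfix 2 (key 1 (by norm_num) (by norm_num)))
    (hfix 3 (key 2 (by norm_num) (by norm_num)))
  exact (inv_mul_eq_one.mp this).symm

theorem agree3_of_eq {σ τ : Equiv.Perm (Fin 315)} {f g : ℕ → ℕ}
    (hf : ∀ x : Fin 315, (σ x : ℕ) = f x) (hg : ∀ x : Fin 315, (τ x : ℕ) = g x)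
    (h : σ = τ) : agree3 f g = true := by
  refine allBelow_eq_true.mpr fun k hk => Nat.beq_eq ▸ ?_
  change f (k + 1) = g (k + 1)
  rw [← hf ⟨k + 1, by omega⟩, h, hg]

/-- The central involution. -/
noncomputable def zP : Equiv.Perm (Fin 315) := rep315.den (genC 0)

theorem zP_apply (x : Fin 315) : (zP x : ℕ) = getField 9 zCode x := den_apply (genC_ok 0) x

theorem zP_eq : zP = (tR 0 : Equiv.Perm (Fin 315)) := by
  rw [zP, ← piJ_genR]
  show piJ (genR 0) = piJ ⟨refl315 0, refl315_mem 0⟩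
  congr 1

theorem es_facts : zP ∈ Cg ∧ (∀ k : Fin 5, blkIdx (zP (pP k)) = k) ∧ zP ≠ 1 ∧
    ∀ a ∈ kerWit, (fac3Prod a * fac3Prod a = 1 ∨ fac3Prod a * fac3Prod a = zP) ∧
      (∀ b ∈ kerWit, fac3Prod a * fac3Prod b = fac3Prod b * fac3Prod a ∨
        fac3Prod a * fac3Prod b = zP * (fac3Prod b * fac3Prod a)) ∧
      (fac3Prod a = 1 ∨ fac3Prod a = zP ∨
        ∃ b ∈ kerWit, fac3Prod a * fac3Prod b ≠ fac3Prod b * fac3Prod a) := by
  have h := esCheck_ok
  simp only [esCheck, Bool.and_eq_true, Nat.beq_eq, Bool.not_eq_true'] at h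
  obtain ⟨⟨⟨h0, hblk⟩, hall⟩, hne⟩ := h
  have hz : zP ∈ Cg := mem_Cg_iff.mpr ⟨by rw [zP_eq]; exact (tR 0).2, Fin.ext (by
    rw [zP_apply]; exact h0)⟩
  have hm : ∀ (a b : ℕ × ℕ × ℕ) (x : Fin 315),
      ((fac3Prod a * fac3Prod b) x : ℕ) = app3 a (app3 b x) := fun a b x => by
    rw [Equiv.Perm.mul_apply, fac3Prod_apply, fac3Prod_apply]
  have hzm : ∀ (a b : ℕ × ℕ × ℕ) (x : Fin 315),
      ((zP * (fac3Prod a * fac3Prod b)) x : ℕ) = getField 9 zCode (app3 a (app3 b x)) :=
    fun a b x => by rw [Equiv.Perm.mul_apply, zP_apply, hm]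
  have hid : ∀ x : Fin 315, ((1 : Equiv.Perm (Fin 315)) x : ℕ) = x := fun _ => rfl
  refine ⟨hz, fun k => ?_, fun he => ?_, fun a ha => ?_⟩
  · rw [zP_apply]; exact Nat.eq_of_beq_eq_true (allBelow_eq_true.mp hblk k k.2)
  · rw [agree3_of_eq zP_apply hid he] at hne
    exact absurd hne (by simp)
  · have h := allL_spec hall a ha
    simp only [Bool.and_eq_true, Bool.or_eq_true] at h
    obtain ⟨⟨h1, h2⟩, h3⟩ := h
    have hA := fac3Prod_mem a
    refine ⟨?_, fun b hb => ?_, ?_⟩
    · rcases h1 with h1 | h1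
      · exact Or.inl (agree3_eq (mul_mem hA hA) (one_mem _) (hm a a) hid h1)
      · exact Or.inr (agree3_eq (mul_mem hA hA) hz (hm a a) zP_apply h1)
    · have hB := fac3Prod_mem b
      have h2' := allL_spec h2 b hb
      rw [Bool.or_eq_true] at h2'
      rcases h2' with h2' | h2'
      · exact Or.inl (agree3_eq (mul_mem hA hB) (mul_mem hB hA) (hm a b) (hm b a) h2')
      · exact Or.inr (agree3_eq (mul_mem hA hB) (mul_mem hz (mul_mem hB hA)) (hm a b) (hzm b a) h2')
    · rcases h3 with (h3 | h3) | h3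
      · exact Or.inl (agree3_eq hA (one_mem _) (fac3Prod_apply a) hid h3)
      · exact Or.inr (Or.inl (agree3_eq hA hz (fac3Prod_apply a) zP_apply h3))
      · obtain ⟨b, hb, hnb⟩ := anyL_spec h3
        refine Or.inr (Or.inr ⟨b, hb, fun he => ?_⟩)
        rw [agree3_of_eq (hm a b) (hm b a) he] at hnb
        simp at hnb

theorem tR_injective : Function.Injective tR := by
  intro a b hab
  by_contra hne
  have hall := total_of_invariant (r := fun x y => tR x = tR y) ⟨fun _ => rfl, Eq.symm, Eq.trans⟩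
    (fun g hg x y h => by rw [← tR_conj ⟨g, hg⟩ x, ← tR_conj ⟨g, hg⟩ y, h]) hab hne
  obtain ⟨x, y, hxy⟩ := exists_noncomm
  refine hxy ?_
  have key : ∀ g : K315, g ∈ Subgroup.zpowers (tR 0) := fun g =>
    (Subgroup.closure_le _).mpr (by
      rintro _ ⟨i, rfl⟩
      rw [hall i 0]
      exact Subgroup.mem_zpowers _) (closure_tR g)
  obtain ⟨m, rfl⟩ := key x
  obtain ⟨n, rfl⟩ := key y
  exact (Commute.zpow_zpow (Commute.refl _) m n).eq

theorem commute_tR0_iff (g : K315) :
    g * tR 0 = tR 0 * g ↔ (g : Equiv.Perm (Fin 315)) 0 = 0 := by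
  rw [← mul_inv_eq_iff_eq_mul, tR_conj]
  exact tR_injective.eq_iff

/-- An isomorphism carrying a reflection to the reflection in the axis 0. -/
theorem exists_iso {f : Equiv.Perm icoLeech} (hf : IsIcoReflection f) (hfm : f ∈ twoJ2) :
    ∃ E : J2 ≃* K315, E (QuotientGroup.mk ⟨f, hfm⟩) = tR 0 := by
  obtain ⟨i, rfl⟩ := isIcoReflection_iff.mp hf
  obtain ⟨g, hg⟩ := piJ_trans i 0
  refine ⟨j2Equiv.trans (MulAut.conj (piJ.rangeRestrict g)), ?_⟩
  rw [MulEquiv.trans_apply, show j2Equiv (QuotientGroup.mk ⟨refl315 i, hfm⟩) = tR i from rfl,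
    MulAut.conj_apply, tR_conj]
  congr 1

theorem centralizer_structure (f : Equiv.Perm icoLeech) (hf : IsIcoReflection f) (hfm : f ∈ twoJ2) :
    ∃ (Q : Subgroup ↥(Subgroup.centralizer {(QuotientGroup.mk ⟨f, hfm⟩ : J2)})) (_ : Q.Normal),
      Nat.card Q = 32 ∧ Cfsg.IsExtraspecial 2 Q ∧
        Nonempty (↥(Subgroup.centralizer {(QuotientGroup.mk ⟨f, hfm⟩ : J2)}) ⧸ Q ≃*
          alternatingGroup (Fin 5)) := by
  obtain ⟨E, hE⟩ := exists_iso hf hfm
  generalize (QuotientGroup.mk ⟨f, hfm⟩ : J2) = t at hE ⊢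
  have hmem : ∀ x : J2, x ∈ Subgroup.centralizer {t} ↔ (E x : Equiv.Perm (Fin 315)) ∈ Cg := by
    intro x
    rw [Subgroup.mem_centralizer_singleton_iff, mem_Cg_iff, ← E.injective.eq_iff, map_mul, map_mul,
      hE]
    constructor
    · exact fun h => ⟨(E x).2, (commute_tR0_iff _).mp h⟩
    · exact fun h => (commute_tR0_iff _).mpr h.2
  let ψ : ↥(Subgroup.centralizer {t}) ≃* Cg :=
    { toFun := fun x => ⟨(E x : Equiv.Perm (Fin 315)), (hmem x).mp x.2⟩
      invFun := fun σ => ⟨E.symm ⟨σ, Cg_le σ.2⟩, (hmem _).mpr (by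
        rw [MulEquiv.apply_symm_apply]; exact σ.2)⟩
      left_inv := fun x => Subtype.ext (E.symm_apply_apply _)
      right_inv := fun σ => Subtype.ext (by
        show ((E (E.symm _) : K315) : Equiv.Perm (Fin 315)) = σ
        rw [MulEquiv.apply_symm_apply])
      map_mul' := fun x y => Subtype.ext (by
        show ((E (↑x * ↑y) : K315) : Equiv.Perm (Fin 315)) = _
        rw [map_mul]; rfl) }
  set Φ : ↥(Subgroup.centralizer {t}) →* Equiv.Perm (Fin 5) := blockHom.comp ψ.toMonoidHom with hΦ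
  have hin : ∀ q : Φ.ker, ψ q ∈ blockHom.ker := fun q => q.2
  have hcard : Nat.card Φ.ker = 32 := by
    rw [← card_ker_blockHom]
    exact Nat.card_congr
      { toFun := fun q => ⟨ψ q, hin q⟩
        invFun := fun σ => ⟨ψ.symm σ, by
          show blockHom (ψ (ψ.symm σ)) = 1
          rw [MulEquiv.apply_symm_apply]; exact σ.2⟩
        left_inv := fun q => Subtype.ext (ψ.symm_apply_apply _)
        right_inv := fun σ => Subtype.ext (ψ.apply_symm_apply _) }
  refine ⟨Φ.ker, inferInstance, hcard, ?_, ?_⟩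
  · obtain ⟨hz, hzb, hz1, hfacts⟩ := es_facts
    let val : Φ.ker → Equiv.Perm (Fin 315) := fun q => (ψ q : Equiv.Perm (Fin 315))
    have hinj : Function.Injective val := fun q q' h =>
      Subtype.ext (ψ.injective (Subtype.ext h))
    have hvmul : ∀ q q', val (q * q') = val q * val q' := fun q q' => by simp [val]
    have hvone : val 1 = 1 := by simp [val]
    have hwit : ∀ q : Φ.ker, ∃ w ∈ kerWit, val q = fac3Prod w := fun q => exists_kerWit (hin q)
    let w : Φ.ker := ⟨ψ.symm ⟨zP, hz⟩, by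
      show blockHom (ψ (ψ.symm _)) = 1
      rw [MulEquiv.apply_symm_apply]
      ext k
      rw [blockHom_val, hzb, Equiv.Perm.one_apply]⟩
    have hw : val w = zP := by simp [val, w]
    have hfix : ∀ q : Φ.ker, zP * val q = val q * zP := by
      intro q
      have := congrArg Subtype.val
        ((commute_tR0_iff ⟨val q, Cg_le (ψ q).2⟩).mpr (Cg_fix0 (ψ q).2))
      simp only [Subgroup.coe_mul, ← zP_eq] at this
      exact this.symm
    have : Finite ↥(Subgroup.centralizer {t}) := Finite.of_injective ψ ψ.injective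
    refine LargeExtra.extraspecial_of (IsPGroup.of_card (n := 5) (by rw [hcard]; norm_num))
      (w := w) ?_ ?_ ?_ ?_ ?_ ?_ ?_
    · exact fun h => hz1 (by rw [← hw, h, hvone])
    · refine hinj ?_
      rw [hvmul, hw, hvone, zP_eq, ← Subgroup.coe_mul, tR_sq]; rfl
    · exact Subgroup.mem_center_iff.mpr fun q => hinj (by rw [hvmul, hvmul, hw]; exact (hfix q).symm)
    · intro c hc
      obtain ⟨a, ha, hca⟩ := hwit c
      rcases (hfacts a ha).2.2 with h | h | ⟨b, hb, hab⟩
      · exact Or.inl (hinj (by rw [hca, h, hvone]))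
      · exact Or.inr (hinj (by rw [hca, h, hw]))
      · exfalso
        refine hab ?_
        let q : Φ.ker := ⟨ψ.symm ⟨_, fac3Prod_mem b⟩, by
          show blockHom (ψ (ψ.symm _)) = 1
          rw [MulEquiv.apply_symm_apply]
          ext k
          have := allBelow_eq_true.mp (allL_spec wit_facts.2.2.2.2 b hb) k k.2
          rw [Nat.beq_eq] at this
          rw [blockHom_val, fac3Prod_apply, Equiv.Perm.one_apply]
          exact this⟩
        have hq : val q = fac3Prod b := by simp [val, q]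
        rw [← hca, ← hq, ← hvmul, ← hvmul, Subgroup.mem_center_iff.mp hc q]
    · intro a b
      obtain ⟨x, hx, hax⟩ := hwit a
      obtain ⟨y, hy, hby⟩ := hwit b
      rcases (hfacts x hx).2.1 y hy with h | h
      · exact Or.inl (commutatorElement_eq_one_iff_mul_comm.mpr
          (hinj (by rw [hvmul, hvmul, hax, hby, h])))
      · right
        rw [commutatorElement_def, mul_inv_eq_iff_eq_mul, mul_inv_eq_iff_eq_mul]
        exact hinj (by rw [hvmul, hvmul, hvmul, hw, hax, hby, h, mul_assoc])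
    · intro a
      obtain ⟨x, hx, hax⟩ := hwit a
      rcases (hfacts x hx).1 with h | h
      · exact Or.inl (hinj (by rw [hvmul, hax, h, hvone]))
      · exact Or.inr (hinj (by rw [hvmul, hax, h, hw]))
    · by_contra hne
      push Not at hne
      have h1 : Subgroup.center Φ.ker = ⊤ := eq_top_iff.mpr fun a _ =>
        Subgroup.mem_center_iff.mpr fun b => hne b a
      have h2 : ∀ c : Φ.ker, c = 1 ∨ c = w := by
        intro c
        obtain ⟨a, ha, hca⟩ := hwit c
        rcases (hfacts a ha).2.2 with h | h | ⟨b, hb, hab⟩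
        · exact Or.inl (hinj (by rw [hca, h, hvone]))
        · exact Or.inr (hinj (by rw [hca, h, hw]))
        · exfalso
          let q : Φ.ker := ⟨ψ.symm ⟨_, fac3Prod_mem b⟩, by
            show blockHom (ψ (ψ.symm _)) = 1
            rw [MulEquiv.apply_symm_apply]
            ext k
            have := allBelow_eq_true.mp (allL_spec wit_facts.2.2.2.2 b hb) k k.2
            rw [Nat.beq_eq] at this
            rw [blockHom_val, fac3Prod_apply, Equiv.Perm.one_apply]
            exact this⟩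
          have hq : val q = fac3Prod b := by simp [val, q]
          exact hab (by rw [← hca, ← hq, ← hvmul, ← hvmul, hne c q])
      have hle : Nat.card Φ.ker ≤ 2 := by
        refine le_trans (Nat.card_le_card_of_surjective (fun b : Bool => if b then w else 1) ?_)
          (le_of_eq (by simp))
        intro c
        rcases h2 c with rfl | rfl
        · exact ⟨false, rfl⟩
        · exact ⟨true, rfl⟩
      omega
  · have hr : Φ.range = alternatingGroup (Fin 5) := by
      rw [← range_blockHom, hΦ, MonoidHom.range_comp,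
        MonoidHom.range_eq_top.mpr ψ.surjective, ← MonoidHom.range_eq_map]
    exact ⟨(QuotientGroup.quotientKerEquivRange Φ).trans (MulEquiv.subgroupCongr hr)⟩

end Cfsg.Agent.JankoTwo
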