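import Cfsg.Agent.JankoTwo.Center
import Cfsg.Agent.JankoTwo.SimpleData

/-!
`J₂` is a non-abelian simple group: the action on the 315 reflections is primitive and a product
of two reflections in a normal subgroup spreads over the whole group.
-/

set_option autoImplicit false

namespace Cfsg.Agent.JankoTwo

open Cfsg.Spor Cfsg.Agent.Compute

/-- The image of `2·J₂` on the axes. -/
noncomputable abbrev K315 : Subgroup (Equiv.Perm (Fin 315)) := piJ.range

theorem den_apply {p : ℕ} (hp : CodePerm 9 315 p) (i : Fin 315) :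
    (rep315.den p i : ℕ) = getField 9 p i := by
  have := denPerm_apply (Equiv.refl (Fin 315)) hp i
  simp only [Equiv.refl_apply] at this
  rw [show rep315.den = denPerm 9 315 (Equiv.refl _) from rfl, this]

/-- Check of a forest: every point is a root or is reached from a point of smaller depth. -/
noncomputable def treeCheck (gens roots : List ℕ) (T : ℕ × ℕ × ℕ) : Bool :=
  allBelow 315 fun j =>
    memB j roots ||
      (let p := getField 9 T.1 j
       let k := getField 3 T.2.1 j
       Nat.blt p 315 && Nat.blt (getField 9 T.2.2 p) (getField 9 T.2.2 j) &&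
         Nat.blt k gens.length && Nat.beq (getField 9 (gens.getD k 0) p) j)

theorem tree_spec {gens roots : List ℕ} {T : ℕ × ℕ × ℕ} (h : treeCheck gens roots T = true)
    (j : Fin 315) : (j : ℕ) ∈ roots ∨ ∃ (p : Fin 315) (g : ℕ), g ∈ gens ∧
      getField 9 T.2.2 p < getField 9 T.2.2 j ∧ getField 9 g p = j := by
  have := allBelow_eq_true.mp h j j.2
  simp only [Bool.or_eq_true, Bool.and_eq_true, memB_eq_true, Nat.blt_eq, Nat.beq_eq] at this
  refine this.imp_right fun ⟨⟨⟨h1, h2⟩, h3⟩, h4⟩ => ⟨⟨_, h1⟩, gens.getD _ 0, ?_, h2, h4⟩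
  rw [List.getD_eq_getElem _ _ h3]
  exact List.getElem_mem h3

theorem tree_induction {gens roots : List ℕ} {T : ℕ × ℕ × ℕ} (h : treeCheck gens roots T = true)
    {P : Fin 315 → Prop} (h0 : ∀ j : Fin 315, (j : ℕ) ∈ roots → P j)
    (hs : ∀ g ∈ gens, ∀ p j : Fin 315, getField 9 g p = j → P p → P j) : ∀ j, P j := by
  intro j
  induction hr : getField 9 T.2.2 j using Nat.strong_induction_on generalizing j with
  | _ r ih =>
    rcases tree_spec h j with hj | ⟨p, g, hg, hlt, he⟩
    · exact h0 j hj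
    · exact hs g hg p j he (ih _ (hr ▸ hlt) p rfl)

theorem tree_root {gens roots : List ℕ} {T : ℕ × ℕ × ℕ} (h : treeCheck gens roots T = true)
    {P : Fin 315 → Prop} (hs : ∀ g ∈ gens, ∀ p j : Fin 315, getField 9 g p = j → P j → P p) :
    ∀ j, P j → ∃ r : Fin 315, (r : ℕ) ∈ roots ∧ P r := by
  intro j
  induction hr : getField 9 T.2.2 j using Nat.strong_induction_on generalizing j with
  | _ r ih =>
    intro hP
    rcases tree_spec h j with hj | ⟨p, g, hg, hlt, he⟩
    · exact ⟨j, hj, hP⟩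
    · exact ih _ (hr ▸ hlt) p rfl (hs g hg p j he hP)

/-- The transversal element moving `0` to `r`. -/
noncomputable def moveTo (r : ℕ) : ℕ := (rep315.entry j2L0 (j2L0.pos r)).u

/-- All the checks for primitivity. -/
noncomputable def blockCheck : Bool :=
  treeCheck j2L1.gens subRoots subTree &&
    allL j2L1.gens (fun g => Nat.beq (getField 9 g 0) 0) &&
    allL blockTrees (fun e => Nat.beq (getField 9 (moveTo e.1) 0) e.1 &&
      treeCheck (moveTo e.1 :: j2L1.gens) [0] e.2) &&
    allL subRoots (fun r => Nat.beq r 0 || anyL blockTrees (fun e => Nat.beq e.1 r))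

set_option maxHeartbeats 0 in
theorem blockCheck_ok : blockCheck = true := by decide +kernel

theorem j2L0_ok : rep315.LevelOK j2L0 [j2L1, j2L2, j2L3] :=
  rep315.levelOK_of_check (checkLevel_of_parts _ head0 entry0 sch0)

theorem j2L1_ok : rep315.LevelOK j2L1 [j2L2, j2L3] :=
  rep315.levelOK_of_check (checkLevel_of_parts _ head1 entry1 sch1)

theorem moveTo_spec (r : ℕ) : CodePerm 9 315 (moveTo r) ∧ rep315.den (moveTo r) ∈ K315 := by
  refine ⟨(j2L0_ok.entry_all _).1, ?_⟩
  rw [K315, range_piJ, topGens_eq]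
  exact j2L0_ok.entry_mem _

theorem gen1_spec {g : ℕ} (hg : g ∈ j2L1.gens) :
    CodePerm 9 315 g ∧ rep315.den g ∈ K315 := by
  refine ⟨j2L1_ok.gens_ok g hg, ?_⟩
  rw [K315, range_piJ, topGens_eq]
  exact rep315.den_mem_span (j2L0_ok.next_sub g hg)

/-- An invariant equivalence on the axes with a non-trivial class is total. -/
theorem total_of_invariant {r : Fin 315 → Fin 315 → Prop} (hr : Equivalence r)
    (hinv : ∀ g ∈ K315, ∀ a b, r a b → r (g a) (g b)) {a b : Fin 315} (hab : r a b) (hne : a ≠ b) :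
    ∀ x y, r x y := by
  have hinv' : ∀ g ∈ K315, ∀ a b, r (g a) (g b) → r a b := fun g hg a b h => by
    simpa using hinv g⁻¹ (inv_mem hg) _ _ h
  have hb := blockCheck_ok
  simp only [blockCheck, Bool.and_eq_true] at hb
  obtain ⟨⟨⟨hsub, hfix⟩, htrees⟩, hroots⟩ := hb
  -- move `a` to `0`
  obtain ⟨g, hg⟩ := piJ_trans a 0
  have h0 : r 0 (piJ g b) := hg ▸ hinv _ ⟨g, rfl⟩ a b hab
  have hne0 : piJ g b ≠ 0 := fun h => hne ((piJ g).injective (hg.trans h.symm))
  have hfix0 : ∀ g ∈ j2L1.gens, rep315.den g 0 = 0 := fun g hg => by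
    apply Fin.ext
    rw [den_apply (gen1_spec hg).1]
    exact Nat.eq_of_beq_eq_true (allL_spec hfix g hg)
  obtain ⟨s, hs, hs0, hsne⟩ := tree_root hsub (P := fun j => r 0 j ∧ j ≠ 0) (fun g hg p j he h => by
    have hj : rep315.den g p = j := Fin.ext (by rw [den_apply (gen1_spec hg).1, he])
    refine ⟨hinv' _ (gen1_spec hg).2 0 p (by rw [hfix0 g hg, hj]; exact h.1), fun hp => h.2 ?_⟩
    rw [← hj, hp, hfix0 g hg]) _ ⟨h0, hne0⟩
  have hr' := allL_spec hroots s hs
  simp only [Bool.or_eq_true, Nat.beq_eq] at hr'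
  rcases hr' with h | h
  · exact absurd (Fin.ext h) hsne
  obtain ⟨e, he, hes⟩ := anyL_spec h
  have ht := allL_spec htrees e he
  simp only [Bool.and_eq_true, Nat.beq_eq] at ht hes
  obtain ⟨hm0, htree⟩ := ht
  have hall : ∀ j, r 0 j := tree_induction htree (P := fun j => r 0 j)
    (fun j hj => by
      have : j = 0 := Fin.ext (by simpa using hj)
      subst this; exact hr.refl 0)
    (fun g hg p j hgp hp => by
      rcases List.mem_cons.mp hg with rfl | hg
      · have hj : rep315.den (moveTo e.1) p = j := Fin.ext (by rw [den_apply (moveTo_spec _).1, hgp])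
        have h0' : rep315.den (moveTo e.1) 0 = s := Fin.ext (by
          rw [den_apply (moveTo_spec _).1, ← hes]; exact hm0)
        have := hinv _ (moveTo_spec e.1).2 0 p hp
        rw [h0', hj] at this
        exact hr.trans hs0 this
      · have hj : rep315.den g p = j := Fin.ext (by rw [den_apply (gen1_spec hg).1, hgp])
        have := hinv _ (gen1_spec hg).2 0 p hp
        rwa [hfix0 g hg, hj] at this)
  exact fun x y => hr.trans (hr.symm (hall x)) (hall y)

/-- A reflection as a permutation of the axes. -/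
noncomputable def tR (i : Fin 315) : K315 := piJ.rangeRestrict ⟨refl315 i, refl315_mem i⟩

theorem tR_conj (g : K315) (i : Fin 315) : g * tR i * g⁻¹ = tR ((g : Equiv.Perm (Fin 315)) i) := by
  obtain ⟨g, rfl⟩ := piJ.rangeRestrict_surjective g
  rw [tR, tR, ← map_inv, ← map_mul, ← map_mul]
  congr 1
  apply Subtype.ext
  simp only [Subgroup.coe_mul, Subgroup.coe_inv]
  rw [← piJ_spec]
  rfl

theorem tR_sq (i : Fin 315) : tR i * tR i = 1 := by
  rw [tR, ← map_mul]
  convert map_one piJ.rangeRestrict using 2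
  apply Subtype.ext
  ext x : 1
  exact Subtype.ext (qrefl_qrefl (axP_norm i) x)

theorem tR_inv (i : Fin 315) : (tR i)⁻¹ = tR i := inv_eq_of_mul_eq_one_right (tR_sq i)

theorem closure_tR : ∀ g : K315, g ∈ Subgroup.closure (Set.range tR) := by
  intro g
  obtain ⟨⟨x, hx⟩, rfl⟩ := piJ.rangeRestrict_surjective g
  induction hx using Subgroup.closure_induction with
  | mem f hf =>
    obtain ⟨i, rfl⟩ := isIcoReflection_iff.mp hf
    exact Subgroup.subset_closure ⟨i, rfl⟩
  | one => exact map_one piJ.rangeRestrict ▸ one_mem _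
  | mul a b ha hb iha ihb =>
    have : (⟨a * b, mul_mem ha hb⟩ : twoJ2) = ⟨a, ha⟩ * ⟨b, hb⟩ := rfl
    rw [this, map_mul]; exact mul_mem iha ihb
  | inv a ha iha =>
    have : (⟨a⁻¹, inv_mem ha⟩ : twoJ2) = ⟨a, ha⟩⁻¹ := rfl
    rw [this, map_inv]; exact inv_mem iha

theorem exists_tR_prod : ∃ a b c : Fin 315, tR a * tR b * tR c = 1 := by
  have h : ∀ t, ∃ i, piJ.rangeRestrict (flip3 t) = tR i := fun t => by
    obtain ⟨i, hi⟩ := isIcoReflection_iff.mp (isIcoReflection_reflPerm _ (twoP_norm t))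
    exact ⟨i, by rw [tR]; congr 1; exact Subtype.ext hi⟩
  obtain ⟨a, ha⟩ := h 0
  obtain ⟨b, hb⟩ := h 1
  obtain ⟨c, hc⟩ := h 2
  refine ⟨a, b, c, ?_⟩
  rw [← ha, ← hb, ← hc, ← map_mul, ← map_mul]
  apply Subtype.ext
  have : negOne ∈ piJ.ker := ker_piJ ▸ negOne_mem_center
  exact this

theorem normal_eq_top {N : Subgroup K315} (hN : N.Normal) (hN1 : N ≠ ⊥) : N = ⊤ := by
  obtain ⟨⟨n, hnN⟩, hn1⟩ := Subgroup.ne_bot_iff_exists_ne_one.mp hN1
  obtain ⟨a, ha⟩ : ∃ a, (n : Equiv.Perm (Fin 315)) a ≠ a := by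
    by_contra h
    push Not at h
    exact hn1 (Subtype.ext (Subtype.ext (Equiv.ext h)))
  let r : Fin 315 → Fin 315 → Prop := fun x y => tR x * tR y ∈ N
  have hr : Equivalence r := by
    refine ⟨fun x => ?_, fun {x y} h => ?_, fun {x y z} h1 h2 => ?_⟩
    · change tR x * tR x ∈ N
      rw [tR_sq]; exact one_mem N
    · change tR y * tR x ∈ N
      have h' : (tR x * tR y)⁻¹ ∈ N := inv_mem h
      rwa [mul_inv_rev, tR_inv, tR_inv] at h'
    · change tR x * tR z ∈ N
      have h' : tR x * tR y * (tR y * tR z) ∈ N := mul_mem h1 h2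
      rwa [mul_assoc, ← mul_assoc (tR y), tR_sq, one_mul] at h'
  have hinv : ∀ g ∈ K315, ∀ x y, r x y → r (g x) (g y) := by
    intro g hg x y h
    change tR _ * tR _ ∈ N
    rw [← tR_conj ⟨g, hg⟩ x, ← tR_conj ⟨g, hg⟩ y, conj_mul]
    exact hN.conj_mem _ h _
  have hb : r ((n : Equiv.Perm (Fin 315)) a) a := by
    change tR _ * tR _ ∈ N
    rw [← tR_conj n a, mul_assoc, mul_assoc]
    refine N.mul_mem hnN ?_
    have := hN.conj_mem _ (inv_mem hnN) (tR a)
    rwa [tR_inv, mul_assoc] at this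
  have hall := total_of_invariant hr hinv hb ha
  obtain ⟨a, b, c, habc⟩ := exists_tR_prod
  have hc : tR c ∈ N := by
    rw [← inv_eq_of_mul_eq_one_right habc]
    exact inv_mem (hall a b)
  rw [eq_top_iff]
  intro g _
  refine (Subgroup.closure_le _).mpr ?_ (closure_tR g)
  rintro _ ⟨i, rfl⟩
  have := mul_mem (hall i c) hc
  rwa [mul_assoc, tR_sq, mul_one] at this

theorem gens_noncomm : Nat.beq (compCode 9 315 (genCodes.getD 0 0) (genCodes.getD 1 0))
    (compCode 9 315 (genCodes.getD 1 0) (genCodes.getD 0 0)) = false ∧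
    allBelow 315 (fun i => Nat.beq (getField 9 (compCode 9 315 (genCodes.getD 0 0) (genCodes.getD 1 0)) i)
      (getField 9 (compCode 9 315 (genCodes.getD 1 0) (genCodes.getD 0 0)) i)) = false := by
  decide +kernel

theorem rep315_mul : rep315.mul = compCode 9 315 := by simp only [rep315, permRep]

theorem comm_codes {p q : ℕ} (hp : CodePerm 9 315 p) (hq : CodePerm 9 315 q)
    (h : rep315.den (compCode 9 315 p q) = rep315.den (compCode 9 315 q p)) (i : ℕ) (hi : i < 315) :
    getField 9 (compCode 9 315 p q) i = getField 9 (compCode 9 315 q p) i := by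
  have e := congrArg (fun p : Equiv.Perm (Fin 315) => (p ⟨i, hi⟩ : ℕ)) h
  have h1 := den_apply (codePerm_comp hp hq) ⟨i, hi⟩
  have h2 := den_apply (codePerm_comp hq hp) ⟨i, hi⟩
  exact h1.symm.trans (e.trans h2)

theorem exists_noncomm : ∃ a b : K315, a * b ≠ b * a := by
  refine ⟨piJ.rangeRestrict (genR 0), piJ.rangeRestrict (genR 1), fun h => ?_⟩
  have h' : piJ (genR 0) * piJ (genR 1) = piJ (genR 1) * piJ (genR 0) := congrArg Subtype.val h
  rw [piJ_genR, piJ_genR, ← rep315.den_mul _ _ (genC_ok 0) (genC_ok 1),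
    ← rep315.den_mul _ _ (genC_ok 1) (genC_ok 0)] at h'
  have h2 := gens_noncomm.2
  rw [Bool.eq_false_iff] at h2
  refine h2 (allBelow_eq_true.mpr fun i hi => ?_)
  rw [rep315_mul] at h'
  have e := comm_codes (genC_ok 0) (genC_ok 1) h' i hi
  simp only [genC, Fin.val_zero, Fin.val_one] at e
  exact Nat.beq_eq ▸ e

theorem isSimpleGroup_K315 : IsSimpleGroup K315 := by
  obtain ⟨a, b, hab⟩ := exists_noncomm
  exact
    { exists_pair_ne := ⟨a * b, b * a, hab⟩
      eq_bot_or_eq_top_of_normal := fun N hN => or_iff_not_imp_left.mpr (normal_eq_top hN) }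

theorem isSimpleGroup_J2 : IsSimpleGroup J2 :=
  have := isSimpleGroup_K315
  (j2Equiv.isSimpleGroup_congr).mpr this

theorem j2_noncomm : ∃ a b : J2, a * b ≠ b * a := by
  obtain ⟨a, b, h⟩ := exists_noncomm
  refine ⟨j2Equiv.symm a, j2Equiv.symm b, fun he => h ?_⟩
  rw [← map_mul, ← map_mul] at he
  exact j2Equiv.symm.injective he

end Cfsg.Agent.JankoTwo
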