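import Cfsg.Agent.JankoTwo.Nine
import Cfsg.Agent.Compute.Perm

/-!
Coded elements of `SL(3,9)`, acting on column vectors, and coded pairs of a permutation of 315
points and such a matrix.
-/

set_option autoImplicit false

namespace Cfsg.Agent.JankoTwo

open Cfsg.Agent.Compute Matrix

/-- The special linear group. -/
abbrev SL9 : Type := Matrix.SpecialLinearGroup (Fin 3) F9

/-- An entry of a coded matrix. -/
def ent (c k : ℕ) : F9 := nine (getField 4 c k)

/-- The matrix of a code. -/
def matOf (c : ℕ) : Matrix (Fin 3) (Fin 3) F9 := Matrix.of fun i j => ent c (3 * (i : ℕ) + (j : ℕ))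

theorem matOf_apply (c : ℕ) (i j : Fin 3) : matOf c i j = ent c (3 * (i : ℕ) + (j : ℕ)) := rfl

/-- The determinant of a coded matrix. -/
def detC (c : ℕ) : F9 :=
  ent c 0 * ent c 4 * ent c 8 + -(ent c 0 * ent c 5 * ent c 7) + -(ent c 1 * ent c 3 * ent c 8) +
    ent c 1 * ent c 5 * ent c 6 + ent c 2 * ent c 3 * ent c 7 + -(ent c 2 * ent c 4 * ent c 6)

theorem det_matOf (c : ℕ) : (matOf c).det = detC c := by
  rw [Matrix.det_fin_three]
  simp only [matOf_apply, detC, Fin.val_zero, Fin.val_one, Fin.val_two]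
  ring

/-- The product of coded matrices. -/
noncomputable def mulM (c d : ℕ) : ℕ :=
  pack 4 9 fun k =>
    let r := 3 * (k / 3)
    let s := k % 3
    (ent c r * ent d s + ent c (r + 1) * ent d (3 + s) + ent c (r + 2) * ent d (6 + s)).val.val

/-- The identity matrix. -/
noncomputable def oneM : ℕ := pack 4 9 fun k => if k / 3 = k % 3 then 1 else 0

theorem ent_pack {f : ℕ → ℕ} (hf : ∀ k, k < 9 → f k < 9) {k : ℕ} (hk : k < 9) :
    ent (pack 4 9 f) k = nine (f k) := by
  rw [ent, getField_pack 4 9 f (fun i hi => lt_trans (hf i hi) (by norm_num)) hk]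

theorem matOf_mulM (c d : ℕ) : matOf (mulM c d) = matOf c * matOf d := by
  ext i j
  have hi := i.isLt
  have hj := j.isLt
  rw [matOf_apply, mulM, ent_pack (fun k _ => F9.val_lt _) (by omega), Matrix.mul_apply,
    Fin.sum_univ_three]
  simp only [F9.nine_val, matOf_apply, show (3 * (i : ℕ) + (j : ℕ)) / 3 = i by omega,
    show (3 * (i : ℕ) + (j : ℕ)) % 3 = j by omega, Fin.val_zero, Fin.val_one, Fin.val_two,
    mul_zero, mul_one, add_zero, zero_add, show 3 * 2 = 6 from rfl]

theorem matOf_oneM : matOf oneM = 1 := by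
  ext i j
  have hi := i.isLt
  have hj := j.isLt
  rw [matOf_apply, oneM, ent_pack (fun k _ => by split <;> norm_num) (by omega),
    show (3 * (i : ℕ) + (j : ℕ)) / 3 = i by omega,
    show (3 * (i : ℕ) + (j : ℕ)) % 3 = j by omega, Matrix.one_apply]
  by_cases h : i = j
  · rw [if_pos h, if_pos (congrArg Fin.val h)]; rfl
  · rw [if_neg h, if_neg (fun e => h (Fin.ext e))]; rfl

/-- The code has determinant 1. -/
def MatOk (c : ℕ) : Prop := (matOf c).det = 1

/-- Test for `MatOk`. -/
def matOkB (c : ℕ) : Bool := Nat.beq (detC c).val.val 1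

theorem matOk_of_check {c : ℕ} (h : matOkB c = true) : MatOk c := by
  rw [matOkB, Nat.beq_eq] at h
  rw [MatOk, det_matOf, ← F9.nine_val (detC c), h]
  rfl

theorem matOk_one : MatOk oneM := by rw [MatOk, matOf_oneM, Matrix.det_one]

theorem matOk_mul {c d : ℕ} (hc : MatOk c) (hd : MatOk d) : MatOk (mulM c d) := by
  rw [MatOk, matOf_mulM, Matrix.det_mul, hc, hd, mul_one]

/-- A coded matrix in the special linear group. -/
def mkSL (c : ℕ) (h : (matOf c).det = 1) : SL9 := ⟨matOf c, h⟩

open Classical in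
/-- The matrix denoted by a code. -/
noncomputable def denM (c : ℕ) : SL9 := if h : (matOf c).det = 1 then mkSL c h else 1

theorem denM_val {c : ℕ} (h : MatOk c) : (denM c : Matrix (Fin 3) (Fin 3) F9) = matOf c := by
  rw [denM, dif_pos (show (matOf c).det = 1 from h)]
  rfl

theorem denM_one : denM oneM = 1 :=
  Subtype.ext (by rw [denM_val matOk_one, matOf_oneM]; rfl)

theorem denM_mul {c d : ℕ} (hc : MatOk c) (hd : MatOk d) :
    denM (mulM c d) = denM c * denM d :=
  Subtype.ext (by
    rw [Matrix.SpecialLinearGroup.coe_mul, denM_val hc, denM_val hd, denM_val (matOk_mul hc hd),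
      matOf_mulM])

/-- Column vectors. -/
def Vec9 : Type := Fin 3 → F9

instance : MulAction SL9 Vec9 where
  smul A v := (A : Matrix (Fin 3) (Fin 3) F9).mulVec v
  one_smul v := by
    show ((1 : SL9) : Matrix (Fin 3) (Fin 3) F9).mulVec v = v
    rw [Matrix.SpecialLinearGroup.coe_one]
    exact Matrix.one_mulVec (v : Fin 3 → F9)
  mul_smul A B v := by
    show ((A * B : SL9) : Matrix (Fin 3) (Fin 3) F9).mulVec v =
      (A : Matrix (Fin 3) (Fin 3) F9).mulVec ((B : Matrix (Fin 3) (Fin 3) F9).mulVec v)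
    rw [Matrix.SpecialLinearGroup.coe_mul]
    exact (Matrix.mulVec_mulVec (v : Fin 3 → F9) _ _).symm

theorem vec_smul_def (A : SL9) (v : Vec9) : A • v = (A : Matrix (Fin 3) (Fin 3) F9).mulVec v := rfl

/-- The vector number `i`. -/
def vecPt (i : ℕ) : Vec9 := ![nine (i % 9), nine (i / 9 % 9), nine (i / 81 % 9)]

/-- Action on vector numbers. -/
def actV (c i : ℕ) : ℕ :=
  let x := nine (i % 9)
  let y := nine (i / 9 % 9)
  let z := nine (i / 81 % 9)
  (ent c 0 * x + ent c 1 * y + ent c 2 * z).val.val +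
    9 * (ent c 3 * x + ent c 4 * y + ent c 5 * z).val.val +
    81 * (ent c 6 * x + ent c 7 * y + ent c 8 * z).val.val

theorem actV_lt (c i : ℕ) : actV c i < 729 := by
  simp only [actV]
  have := F9.val_lt (ent c 0 * nine (i % 9) + ent c 1 * nine (i / 9 % 9) + ent c 2 * nine (i / 81 % 9))
  have := F9.val_lt (ent c 3 * nine (i % 9) + ent c 4 * nine (i / 9 % 9) + ent c 5 * nine (i / 81 % 9))
  have := F9.val_lt (ent c 6 * nine (i % 9) + ent c 7 * nine (i / 9 % 9) + ent c 8 * nine (i / 81 % 9))
  omega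

theorem vecPt_code (a b c : F9) :
    vecPt (a.val.val + 9 * b.val.val + 81 * c.val.val) = ![a, b, c] := by
  have := F9.val_lt a; have := F9.val_lt b; have := F9.val_lt c
  unfold vecPt
  rw [show (a.val.val + 9 * b.val.val + 81 * c.val.val) % 9 = a.val.val by omega,
    show (a.val.val + 9 * b.val.val + 81 * c.val.val) / 9 % 9 = b.val.val by omega,
    show (a.val.val + 9 * b.val.val + 81 * c.val.val) / 81 % 9 = c.val.val by omega,
    F9.nine_val, F9.nine_val, F9.nine_val]

theorem vecPt_act (c i : ℕ) : (matOf c).mulVec (vecPt i) = vecPt (actV c i) := by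
  conv_rhs => rw [actV]
  rw [vecPt_code]
  funext r
  fin_cases r <;> simp [Matrix.mulVec, dotProduct, Fin.sum_univ_three, matOf_apply, vecPt]

/-- Coded matrices of determinant 1 on coded vectors. -/
noncomputable def repM : Rep SL9 Vec9 where
  n := 729
  one := oneM
  mul := mulM
  act := actV
  okb := matOkB
  Ok := MatOk
  den := denM
  pt := vecPt
  okb_sound _ := matOk_of_check
  ok_one := matOk_one
  den_one := denM_one
  ok_mul _ _ := matOk_mul
  den_mul _ _ := denM_mul
  pt_inj i j hi hj h := by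
    have e0 := congrArg (fun a : F9 => a.val.val) (congrFun h 0)
    have e1 := congrArg (fun a : F9 => a.val.val) (congrFun h 1)
    have e2 := congrArg (fun a : F9 => a.val.val) (congrFun h 2)
    simp only [vecPt, Matrix.cons_val, F9.val_nine (Nat.mod_lt _ (by norm_num : 0 < 9))] at e0 e1 e2
    omega
  act_lt _ _ _ _ := actV_lt _ _
  act_spec g i hg _ := by rw [vec_smul_def, denM_val hg, vecPt_act]

/-- Pairs. -/
abbrev PM : Type := Equiv.Perm (Fin 315) × SL9

/-- The permutation part of a code. -/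
def lo (c : ℕ) : ℕ := c % 2 ^ 2835
/-- The matrix part of a code. -/
def hi (c : ℕ) : ℕ := c / 2 ^ 2835

/-- Pack a pair. -/
def pairC (p m : ℕ) : ℕ := p + m * 2 ^ 2835

theorem lo_pairC {p m : ℕ} (h : p < 2 ^ 2835) : lo (pairC p m) = p := by
  rw [lo, pairC, Nat.add_mul_mod_self_right, Nat.mod_eq_of_lt h]

theorem hi_pairC {p m : ℕ} (h : p < 2 ^ 2835) : hi (pairC p m) = m := by
  rw [hi, pairC, Nat.add_mul_div_right _ _ (by positivity), Nat.div_eq_of_lt h, Nat.zero_add]

theorem compCode_lt (p q : ℕ) : compCode 9 315 p q < 2 ^ 2835 :=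
  pack_lt 9 315 _ fun _ _ => getField_lt _ _ _

theorem idCode_lt : idCode 9 315 < 2 ^ 2835 :=
  pack_lt 9 315 _ fun i hi => lt_trans hi (by norm_num)

/-- The numbering of the axes. -/
def id315 : Fin 315 ≃ Fin 315 := Equiv.refl _

theorem denPerm_id' {α : Type*} {w n : ℕ} (e : Fin n ≃ α) (hn : n ≤ 2 ^ w) :
    denPerm w n e (idCode w n) = 1 :=
  denPerm_ext e (codePerm_id hn) 1 fun i => by simp [getField_idCode hn i.2]

theorem denPerm_comp' {α : Type*} {w n : ℕ} (e : Fin n ≃ α) {p q : ℕ} (hp : CodePerm w n p)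
    (hq : CodePerm w n q) :
    denPerm w n e (compCode w n p q) = denPerm w n e p * denPerm w n e q :=
  denPerm_ext e (codePerm_comp hp hq) _ fun i => by
    rw [Equiv.Perm.mul_apply, denPerm_apply e hq, denPerm_apply e hp]
    congr 1
    exact Fin.ext (getField_compCode i.2).symm

theorem denPerm_act {α : Type*} {w n : ℕ} (e : Fin n ≃ α) (hpos : 0 < n) {p i : ℕ}
    (hp : CodePerm w n p) (hi : i < n) :
    denPerm w n e p (e ⟨i % n, Nat.mod_lt _ hpos⟩) =
      e ⟨getField w p i % n, Nat.mod_lt _ hpos⟩ := by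
  rw [denPerm_apply e hp]
  congr 1
  apply Fin.ext
  simp [Nat.mod_eq_of_lt hi, Nat.mod_eq_of_lt (hp.choose i hi)]

/-- Pairs act through the first component. -/
instance : MulAction PM (Fin 315) where
  smul g x := g.1 x
  one_smul _ := rfl
  mul_smul _ _ _ := rfl

/-- The code of a pair is a permutation and a matrix of determinant 1. -/
def PairOk (c : ℕ) : Prop := CodePerm 9 315 (lo c) ∧ MatOk (hi c)

/-- Coded pairs. -/
noncomputable def repP : Rep PM (Fin 315) where
  n := 315
  one := pairC (idCode 9 315) oneM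
  mul c d := pairC (compCode 9 315 (lo c) (lo d)) (mulM (hi c) (hi d))
  act c i := getField 9 (lo c) i
  okb c := codePermB 9 315 (lo c) && matOkB (hi c)
  Ok := PairOk
  den c := (denPerm 9 315 id315 (lo c), denM (hi c))
  pt i := id315 ⟨i % 315, Nat.mod_lt _ (by norm_num)⟩
  okb_sound c h := by
    rw [Bool.and_eq_true] at h
    exact ⟨codePerm_of_check h.1, matOk_of_check h.2⟩
  ok_one := by
    rw [PairOk, lo_pairC idCode_lt, hi_pairC idCode_lt]
    exact ⟨codePerm_id (by norm_num), matOk_one⟩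
  den_one := by
    rw [lo_pairC idCode_lt, hi_pairC idCode_lt]
    exact Prod.ext (denPerm_id' id315 (by norm_num)) denM_one
  ok_mul c d hc hd := by
    rw [PairOk, lo_pairC (compCode_lt _ _), hi_pairC (compCode_lt _ _)]
    exact ⟨codePerm_comp hc.1 hd.1, matOk_mul hc.2 hd.2⟩
  den_mul c d hc hd := by
    rw [lo_pairC (compCode_lt _ _), hi_pairC (compCode_lt _ _)]
    exact Prod.ext (denPerm_comp' id315 hc.1 hd.1)
      (denM_mul hc.2 hd.2)
  pt_inj i j hi hj h := by
    have := congrArg Fin.val (id315.injective h)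
    simpa [Nat.mod_eq_of_lt hi, Nat.mod_eq_of_lt hj] using this
  act_lt c i hc hi := hc.1.choose i hi
  act_spec c i hc hi := denPerm_act id315 (by norm_num) hc.1 hi

end Cfsg.Agent.JankoTwo
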