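import Cfsg.Agent.JankoTwo.SetObj
import Cfsg.Agent.JankoTwo.UnitaryData
import Cfsg.Agent.JankoTwo.PairRep

/-! Kernel checks of the orbits of 63-point sets. -/

set_option autoImplicit false
set_option maxHeartbeats 0

namespace Cfsg.Agent.JankoTwo

open Cfsg.Agent.Compute
open scoped Pointwise

/-- Generators of the subgroup of index 100. -/
noncomputable def huCodes : List ℕ := gUGens.map lo

theorem orbitX_check : setObj.orbitB j2L0.gens treeX maskX 100 = true := by decide +kernel

theorem orbit36_check : setObj.orbitB huCodes tree36 mask36 36 = true := by decide +kernel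

theorem orbit63_check : setObj.orbitB huCodes tree63 mask63 63 = true := by decide +kernel

theorem maskX_facts : (Nat.blt maskX (2 ^ 315) &&
    huCodes.all (fun g => Nat.beq (imgSet g maskX) maskX &&
      Nat.beq (rep315.sift j2Chain g) rep315.one && rep315.okb g) &&
    treeX.memB mask36 && treeX.memB mask63) = true := by decide +kernel

end Cfsg.Agent.JankoTwo
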