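import Cfsg.Agent.JankoTwo.PairRep
import Cfsg.Agent.JankoTwo.UnitaryData
import Cfsg.Agent.JankoTwo.Chunks

/-! Kernel checks of the chains for pairs and for matrices. -/

set_option autoImplicit false
set_option maxHeartbeats 0

namespace Cfsg.Agent.JankoTwo

open Cfsg.Agent.Compute

/-- The chain of the pairs. -/
def gUChain : List Level := [gUL0, gUL1]
/-- The chain of the matrices. -/
def mUChain : List Level := [mUL0, mUL1]

theorem gUHead0 : levelHead repP gUL0 [gUL1] = true := by decide +kernel

theorem gUSize0 : Nat.beq gUL0.size 252 = true := by decide +kernel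

theorem gUEntry0_0 :
    allRange 0 84 (repP.checkEntry gUL0) = true := by decide +kernel

theorem gUEntry0_84 :
    allRange 84 84 (repP.checkEntry gUL0) = true := by decide +kernel

theorem gUEntry0_168 :
    allRange 168 84 (repP.checkEntry gUL0) = true := by decide +kernel

theorem gUEntry0 : allBelow gUL0.size (repP.checkEntry gUL0) = true := by
  refine allBelow_of_eq (Nat.eq_of_beq_eq_true gUSize0).symm ?_
  refine allBelow_step (a := 168) (b := 84) (by norm_num) ?_ gUEntry0_168
  refine allBelow_step (a := 84) (b := 84) (by norm_num) ?_ gUEntry0_84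
  refine allBelow_step (a := 0) (b := 84) (by norm_num) ?_ gUEntry0_0
  exact allBelow_zero _

theorem gUSch0_0 :
    allRange 0 36 (schreierAt repP gUL0 [gUL1]) = true := by decide +kernel

theorem gUSch0_36 :
    allRange 36 36 (schreierAt repP gUL0 [gUL1]) = true := by decide +kernel

theorem gUSch0_72 :
    allRange 72 36 (schreierAt repP gUL0 [gUL1]) = true := by decide +kernel

theorem gUSch0_108 :
    allRange 108 36 (schreierAt repP gUL0 [gUL1]) = true := by decide +kernel

theorem gUSch0_144 :
    allRange 144 36 (schreierAt repP gUL0 [gUL1]) = true := by decide +kernel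

theorem gUSch0_180 :
    allRange 180 36 (schreierAt repP gUL0 [gUL1]) = true := by decide +kernel

theorem gUSch0_216 :
    allRange 216 36 (schreierAt repP gUL0 [gUL1]) = true := by decide +kernel

theorem gUSch0 : allBelow gUL0.size (schreierAt repP gUL0 [gUL1]) = true := by
  refine allBelow_of_eq (Nat.eq_of_beq_eq_true gUSize0).symm ?_
  refine allBelow_step (a := 216) (b := 36) (by norm_num) ?_ gUSch0_216
  refine allBelow_step (a := 180) (b := 36) (by norm_num) ?_ gUSch0_180
  refine allBelow_step (a := 144) (b := 36) (by norm_num) ?_ gUSch0_144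
  refine allBelow_step (a := 108) (b := 36) (by norm_num) ?_ gUSch0_108
  refine allBelow_step (a := 72) (b := 36) (by norm_num) ?_ gUSch0_72
  refine allBelow_step (a := 36) (b := 36) (by norm_num) ?_ gUSch0_36
  refine allBelow_step (a := 0) (b := 36) (by norm_num) ?_ gUSch0_0
  exact allBelow_zero _

theorem gUHead1 : levelHead repP gUL1 [] = true := by decide +kernel

theorem gUSize1 : Nat.beq gUL1.size 24 = true := by decide +kernel

theorem gUEntry1_0 :
    allRange 0 24 (repP.checkEntry gUL1) = true := by decide +kernel

theorem gUEntry1 : allBelow gUL1.size (repP.checkEntry gUL1) = true := by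
  refine allBelow_of_eq (Nat.eq_of_beq_eq_true gUSize1).symm ?_
  refine allBelow_step (a := 0) (b := 24) (by norm_num) ?_ gUEntry1_0
  exact allBelow_zero _

theorem gUSch1_0 :
    allRange 0 24 (schreierAt repP gUL1 []) = true := by decide +kernel

theorem gUSch1 : allBelow gUL1.size (schreierAt repP gUL1 []) = true := by
  refine allBelow_of_eq (Nat.eq_of_beq_eq_true gUSize1).symm ?_
  refine allBelow_step (a := 0) (b := 24) (by norm_num) ?_ gUSch1_0
  exact allBelow_zero _

theorem gUChain_check : repP.checkChain gUChain = true := by
  simp only [gUChain, Rep.checkChain_cons, Bool.and_eq_true]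
  exact ⟨checkLevel_of_parts _ gUHead0 gUEntry0 gUSch0,
    checkLevel_of_parts _ gUHead1 gUEntry1 gUSch1, rfl⟩

theorem mUHead0 : levelHead repM mUL0 [mUL1] = true := by decide +kernel

theorem mUSize0 : Nat.beq mUL0.size 252 = true := by decide +kernel

theorem mUEntry0_0 :
    allRange 0 84 (repM.checkEntry mUL0) = true := by decide +kernel

theorem mUEntry0_84 :
    allRange 84 84 (repM.checkEntry mUL0) = true := by decide +kernel

theorem mUEntry0_168 :
    allRange 168 84 (repM.checkEntry mUL0) = true := by decide +kernel

theorem mUEntry0 : allBelow mUL0.size (repM.checkEntry mUL0) = true := by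
  refine allBelow_of_eq (Nat.eq_of_beq_eq_true mUSize0).symm ?_
  refine allBelow_step (a := 168) (b := 84) (by norm_num) ?_ mUEntry0_168
  refine allBelow_step (a := 84) (b := 84) (by norm_num) ?_ mUEntry0_84
  refine allBelow_step (a := 0) (b := 84) (by norm_num) ?_ mUEntry0_0
  exact allBelow_zero _

theorem mUSch0_0 :
    allRange 0 36 (schreierAt repM mUL0 [mUL1]) = true := by decide +kernel

theorem mUSch0_36 :
    allRange 36 36 (schreierAt repM mUL0 [mUL1]) = true := by decide +kernel

theorem mUSch0_72 :
    allRange 72 36 (schreierAt repM mUL0 [mUL1]) = true := by decide +kernel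

theorem mUSch0_108 :
    allRange 108 36 (schreierAt repM mUL0 [mUL1]) = true := by decide +kernel

theorem mUSch0_144 :
    allRange 144 36 (schreierAt repM mUL0 [mUL1]) = true := by decide +kernel

theorem mUSch0_180 :
    allRange 180 36 (schreierAt repM mUL0 [mUL1]) = true := by decide +kernel

theorem mUSch0_216 :
    allRange 216 36 (schreierAt repM mUL0 [mUL1]) = true := by decide +kernel

theorem mUSch0 : allBelow mUL0.size (schreierAt repM mUL0 [mUL1]) = true := by
  refine allBelow_of_eq (Nat.eq_of_beq_eq_true mUSize0).symm ?_
  refine allBelow_step (a := 216) (b := 36) (by norm_num) ?_ mUSch0_216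
  refine allBelow_step (a := 180) (b := 36) (by norm_num) ?_ mUSch0_180
  refine allBelow_step (a := 144) (b := 36) (by norm_num) ?_ mUSch0_144
  refine allBelow_step (a := 108) (b := 36) (by norm_num) ?_ mUSch0_108
  refine allBelow_step (a := 72) (b := 36) (by norm_num) ?_ mUSch0_72
  refine allBelow_step (a := 36) (b := 36) (by norm_num) ?_ mUSch0_36
  refine allBelow_step (a := 0) (b := 36) (by norm_num) ?_ mUSch0_0
  exact allBelow_zero _

theorem mUHead1 : levelHead repM mUL1 [] = true := by decide +kernel

theorem mUSize1 : Nat.beq mUL1.size 24 = true := by decide +kernel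

theorem mUEntry1_0 :
    allRange 0 24 (repM.checkEntry mUL1) = true := by decide +kernel

theorem mUEntry1 : allBelow mUL1.size (repM.checkEntry mUL1) = true := by
  refine allBelow_of_eq (Nat.eq_of_beq_eq_true mUSize1).symm ?_
  refine allBelow_step (a := 0) (b := 24) (by norm_num) ?_ mUEntry1_0
  exact allBelow_zero _

theorem mUSch1_0 :
    allRange 0 24 (schreierAt repM mUL1 []) = true := by decide +kernel

theorem mUSch1 : allBelow mUL1.size (schreierAt repM mUL1 []) = true := by
  refine allBelow_of_eq (Nat.eq_of_beq_eq_true mUSize1).symm ?_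
  refine allBelow_step (a := 0) (b := 24) (by norm_num) ?_ mUSch1_0
  exact allBelow_zero _

theorem mUChain_check : repM.checkChain mUChain = true := by
  simp only [mUChain, Rep.checkChain_cons, Bool.and_eq_true]
  exact ⟨checkLevel_of_parts _ mUHead0 mUEntry0 mUSch0,
    checkLevel_of_parts _ mUHead1 mUEntry1 mUSch1, rfl⟩

theorem gUSlp_check : repP.slpCheck gUSlp (repP.one :: gUGens) gUL0.gens = true := by
  decide +kernel

theorem mUSlp_check : repM.slpCheck mUSlp (repM.one :: mUGens) mUL0.gens = true := by
  decide +kernel

theorem uChain_sizes : chainSize gUChain = 6048 ∧ chainSize mUChain = 6048 := by decide +kernel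

theorem uGens_ok : (gUGens.all repP.okb && mUGens.all repM.okb &&
    gUGens.all (fun g => Nat.beq (repP.sift gUChain g) repP.one)) = true := by decide +kernel

theorem uGens_match : gUGens.map hi = mUGens := by decide +kernel

end Cfsg.Agent.JankoTwo
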