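import Cfsg.Agent.JankoTwo.UnitarySL
import Cfsg.Agent.JankoTwo.UnitaryCheck
import Cfsg.Agent.JankoTwo.Simple

/-!
The subgroup of permutations of the axes isomorphic to `SU(3,3)`.
-/

set_option autoImplicit false

namespace Cfsg.Agent.JankoTwo

open Cfsg Cfsg.Agent.Compute

/-- The pairs. -/
noncomputable abbrev GammaU : Subgroup PM := repP.chainGroup gUChain

/-- The matrices. -/
noncomputable abbrev MatU : Subgroup SL9 := repM.chainGroup mUChain

/-- The projection to permutations of the axes. -/
noncomputable def proj1 : GammaU →* Equiv.Perm (Fin 315) := (MonoidHom.fst _ _).comp GammaU.subtype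

/-- The projection to matrices. -/
noncomputable def proj2 : GammaU →* SL9 := (MonoidHom.snd _ _).comp GammaU.subtype

/-- The subgroup of index 100. -/
noncomputable abbrev HU : Subgroup (Equiv.Perm (Fin 315)) := proj1.range

theorem fix_bases_eq_one {G : Type*} [Group G] [Finite G] {Ω : Type*} [MulAction G Ω] (R : Rep G Ω)
    (Ls : List Level) (hc : R.checkChain Ls = true) {x : G} (hx : x ∈ R.chainGroup Ls)
    (hfix : ∀ y : Ω, x • y = y) : x = 1 := by
  induction Ls with
  | nil =>
    simp [Rep.chainGroup, Rep.span, topGens] at hx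
    exact hx
  | cons L Ls ih =>
    refine ih (Rep.checkChain_tail hc) ?_
    rw [← R.stabilizer_base hc]
    exact ⟨hx, MulAction.mem_stabilizer_iff.mpr (hfix _)⟩

theorem proj1_injective : Function.Injective proj1 := by
  rw [injective_iff_map_eq_one]
  intro x hx
  apply Subtype.ext
  refine fix_bases_eq_one repP gUChain gUChain_check x.2 fun y => ?_
  show (x : PM).1 y = y
  rw [show (x : PM).1 = 1 from hx]; rfl

theorem card_GammaU : Nat.card GammaU = 6048 := by
  rw [repP.card_chainGroup _ gUChain_check, uChain_sizes.1]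

theorem card_HU : Nat.card HU = 6048 := by
  rw [← card_GammaU]
  exact (Nat.card_congr (MonoidHom.ofInjective proj1_injective).toEquiv).symm

theorem uGens_ok' {g : ℕ} (hg : g ∈ gUGens) :
    repP.Ok g ∧ repP.den g ∈ GammaU := by
  have h := uGens_ok
  simp only [Bool.and_eq_true, List.all_eq_true, Nat.beq_eq] at h
  refine ⟨repP.okb_sound g (h.1.1 g hg), ?_⟩
  exact repP.mem_of_sift gUChain gUChain_check (repP.okb_sound g (h.1.1 g hg)) (h.2 g hg)

theorem den_hi (g : ℕ) : (repP.den g).2 = repM.den (hi g) := rfl

theorem MatU_le_range : MatU ≤ proj2.range := by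
  rw [MatU, mUChain, repM.chainGroup_cons mUL0 [mUL1], Rep.span, Subgroup.closure_le]
  rintro _ ⟨t, ht, rfl⟩
  refine (repM.slp_sound mUSlp _ _ proj2.range ?_ mUSlp_check t ht).2
  intro c hc
  rcases List.mem_cons.mp hc with rfl | hc
  · exact ⟨repM.ok_one, by rw [repM.den_one]; exact one_mem _⟩
  · rw [← uGens_match] at hc
    obtain ⟨g, hg, rfl⟩ := List.mem_map.mp hc
    obtain ⟨hok, hmem⟩ := uGens_ok' hg
    exact ⟨hok.2, ⟨⟨_, hmem⟩, den_hi g⟩⟩

theorem colsU_check : allL mUL0.gens (fun g => decide (colsUnitary9 (matOf g))) = true := by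
  decide +kernel

theorem MatU_eq : MatU = SU 3 F9 3 := by
  refine Subgroup.eq_of_le_of_card_ge ?_ ?_
  · rw [MatU, mUChain, repM.chainGroup_cons mUL0 [mUL1], Rep.span, Subgroup.closure_le]
    rintro _ ⟨t, ht, rfl⟩
    have h := allL_spec colsU_check t ht
    rw [decide_eq_true_eq] at h
    have hc := mUChain_check
    rw [mUChain, repM.checkChain_cons, Bool.and_eq_true] at hc
    have hok : MatOk t := (repM.levelOK_of_check hc.1).gens_ok t ht
    exact mem_SU9_of_cols _ (by rw [show (repM.den t) = denM t from rfl, denM_val hok]; exact h)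
  · rw [card_SU9, repM.card_chainGroup _ mUChain_check, uChain_sizes.2]

theorem range_proj2 : proj2.range = SU 3 F9 3 := by
  rw [← MatU_eq]
  refine (Subgroup.eq_of_le_of_card_ge MatU_le_range ?_).symm
  rw [repM.card_chainGroup _ mUChain_check, uChain_sizes.2, ← card_GammaU]
  exact Nat.card_le_card_of_surjective _ proj2.rangeRestrict_surjective

theorem proj2_injective : Function.Injective proj2 := by
  have h : Function.Bijective proj2.rangeRestrict := by
    refine (Nat.bijective_iff_surjective_and_card _).mpr ⟨proj2.rangeRestrict_surjective, ?_⟩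
    rw [range_proj2, card_SU9, card_GammaU]
  exact fun x y e => h.1 (Subtype.ext e)

/-- The isomorphism. -/
noncomputable def huEquiv : HU ≃* PSU 3 F9 3 :=
  (MonoidHom.ofInjective proj1_injective).symm.trans
    ((MonoidHom.ofInjective proj2_injective).trans
      ((MulEquiv.subgroupCongr range_proj2).trans psu9Equiv.symm))

end Cfsg.Agent.JankoTwo
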