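import Cfsg.Agent.JankoTwo.Orders
import Cfsg.Agent.JankoTwo.Unitary
import Cfsg.Agent.JankoTwo.CosetCheck

/-!
`J₂` has a subgroup of index 100 isomorphic to `PSU(3,3)`, with suborbits of lengths 36 and 63.
-/

set_option autoImplicit false

namespace Cfsg.Agent.JankoTwo

open Cfsg Cfsg.Spor Cfsg.Agent.Compute
open scoped Pointwise

theorem facts_hu : maskX < 2 ^ 315 ∧ (∀ g ∈ huCodes, rep315.Ok g ∧ rep315.den g ∈ K315 ∧
    imgSet g maskX = maskX) ∧ mask36 ∈ treeX.codes ∧ mask63 ∈ treeX.codes := by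
  have h := maskX_facts
  simp only [Bool.and_eq_true, List.all_eq_true, Nat.beq_eq, Nat.blt_eq] at h
  obtain ⟨⟨⟨hX, hall⟩, h36⟩, h63⟩ := h
  refine ⟨hX, fun g hg => ?_, OTr.mem_codes_of_memB h36, OTr.mem_codes_of_memB h63⟩
  obtain ⟨⟨h1, h2⟩, h3⟩ := hall g hg
  exact ⟨rep315.okb_sound g h3,
    by rw [K315_eq]; exact rep315.mem_of_sift _ j2Chain_check (rep315.okb_sound g h3) h2, h1⟩

theorem den_lo (g : ℕ) : (repP.den g).1 = rep315.den (lo g) := rfl

theorem HU_eq_span : HU = rep315.span huCodes := by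
  refine le_antisymm ?_ ?_
  · rintro _ ⟨⟨x, hx⟩, rfl⟩
    have hle : GammaU ≤ (rep315.span huCodes).comap (MonoidHom.fst _ _) := by
      rw [GammaU, gUChain, repP.chainGroup_cons gUL0 [gUL1], Rep.span, Subgroup.closure_le]
      rintro _ ⟨t, ht, rfl⟩
      refine (repP.slp_sound gUSlp _ _ _ ?_ gUSlp_check t ht).2
      intro c hc
      rcases List.mem_cons.mp hc with h | hc
      · rw [h]
        refine ⟨repP.ok_one, ?_⟩
        simp only [repP.den_one]
        exact Subgroup.one_mem _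
      · refine ⟨(uGens_ok' hc).1, ?_⟩
        exact rep315.den_mem_span (List.mem_map.mpr ⟨c, hc, rfl⟩)
    exact hle hx
  · rw [Rep.span, Subgroup.closure_le]
    rintro _ ⟨t, ht, rfl⟩
    obtain ⟨g, hg, rfl⟩ := List.mem_map.mp ht
    exact ⟨⟨_, (uGens_ok' hg).2⟩, den_lo g⟩

theorem span_top_eq : rep315.span j2L0.gens = K315 := by rw [K315_eq]; rfl

theorem card_K315 : Nat.card K315 = 604800 := card_range_piJ

theorem HU_stab :
    K315 ⊓ MulAction.stabilizer (Equiv.Perm (Fin 315)) (decSet maskX) = HU := by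
  obtain ⟨hX, hg, -⟩ := facts_hu
  refine stabilizer_eq_of_orbit (N := 100) ?_ ?_ (by rw [card_K315, card_HU])
  · rw [HU_eq_span, Rep.span, Subgroup.closure_le]
    rintro _ ⟨t, ht, rfl⟩
    obtain ⟨hok, hK, himg⟩ := hg t ht
    refine Subgroup.mem_inf.mpr ⟨hK, MulAction.mem_stabilizer_iff.mpr ?_⟩
    rw [decSet_img (rep315_ok ▸ hok), himg]
  · rw [← span_top_eq]
    exact (Obj.orbit_spec (O := setObj) orbitX_check hX).2.2

/-- The sets of axes as cosets. -/
noncomputable def cosetMap : J2 → Set (Fin 315) := fun x => (j2Equiv x : Equiv.Perm (Fin 315)) • decSet maskX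

theorem exists_u33 : ∃ H : Subgroup J2, H.index = 100 ∧
    Nonempty (↥H ≃* PSU 3 F9 3) ∧
    ∃ c₁ c₂ : J2 ⧸ H, (MulAction.orbit ↥H c₁).ncard = 36 ∧ (MulAction.orbit ↥H c₂).ncard = 63 := by
  have hle : HU ≤ K315 := HU_stab ▸ inf_le_left
  let H : Subgroup J2 := (HU.subgroupOf K315).comap j2Equiv.toMonoidHom
  have hmem : ∀ x : J2, x ∈ H ↔ (j2Equiv x : Equiv.Perm (Fin 315)) ∈ HU := fun x => Iff.rfl
  have hmem' : ∀ x : J2, x ∈ H ↔ cosetMap x = decSet maskX := by
    intro x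
    rw [hmem, ← HU_stab, Subgroup.mem_inf, MulAction.mem_stabilizer_iff]
    exact ⟨fun h => h.2, fun h => ⟨(j2Equiv x).2, h⟩⟩
  have hidx : H.index = 100 := by
    rw [Subgroup.index_comap_of_surjective _ (by exact j2Equiv.surjective)]
    have h := (HU.subgroupOf K315).card_mul_index
    rw [Nat.card_congr (Subgroup.subgroupOfEquivOfLe hle).toEquiv, card_HU, card_K315] at h
    omega
  let eH : H ≃* HU :=
    { toFun := fun x => ⟨(j2Equiv x.1 : Equiv.Perm (Fin 315)), (hmem _).mp x.2⟩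
      invFun := fun σ => ⟨j2Equiv.symm ⟨σ, hle σ.2⟩, by
        rw [hmem, MulEquiv.apply_symm_apply]; exact σ.2⟩
      left_inv := fun x => Subtype.ext (j2Equiv.symm_apply_apply _)
      right_inv := fun σ => Subtype.ext (by
        show ((j2Equiv (j2Equiv.symm _) : K315) : Equiv.Perm (Fin 315)) = σ
        rw [MulEquiv.apply_symm_apply])
      map_mul' := fun x y => Subtype.ext (by
        show ((j2Equiv (↑x * ↑y) : K315) : Equiv.Perm (Fin 315)) = _
        rw [map_mul]; rfl) }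
  let φ : J2 ⧸ H → Set (Fin 315) := Quotient.lift cosetMap fun a b hab => by
    have hab' : a⁻¹ * b ∈ H := (QuotientGroup.leftRel_apply).mp hab
    rw [hmem'] at hab'
    simp only [cosetMap, map_mul, map_inv, Subgroup.coe_mul, Subgroup.coe_inv, mul_smul,
      inv_smul_eq_iff] at hab' ⊢
    exact hab'.symm
  have hφ : ∀ x : J2, φ (QuotientGroup.mk x) = cosetMap x := fun _ => rfl
  have hinj : Function.Injective φ := by
    rintro ⟨a⟩ ⟨b⟩ h
    refine QuotientGroup.eq.mpr ((hmem' _).mpr ?_)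
    change cosetMap a = cosetMap b at h
    simp only [cosetMap, map_mul, map_inv, Subgroup.coe_mul, Subgroup.coe_inv, mul_smul,
      inv_smul_eq_iff]
    exact h.symm
  have hreach : ∀ m ∈ treeX.codes, ∃ c, φ c = decSet m := by
    intro m hm
    have horb := (Obj.orbit_spec (O := setObj) orbitX_check facts_hu.1).2.1
    have : decSet m ∈ MulAction.orbit (rep315.span j2L0.gens) (decSet maskX) := by
      rw [show (decSet maskX) = setObj.dec maskX from rfl, horb]
      exact ⟨m, hm, rfl⟩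
    obtain ⟨⟨σ, hσ⟩, he⟩ := this
    refine ⟨QuotientGroup.mk (j2Equiv.symm ⟨σ, (SetLike.ext_iff.mp span_top_eq σ).mp hσ⟩), ?_⟩
    rw [hφ, cosetMap, MulEquiv.apply_symm_apply]
    exact he
  have horbit : ∀ (m N : ℕ) (c : J2 ⧸ H), φ c = decSet m →
      (MulAction.orbit (rep315.span huCodes) (decSet m)).ncard = N →
      (MulAction.orbit ↥H c).ncard = N := by
    intro m N c hc hN
    rw [← hN, ← hc, ← HU_eq_span, ← Set.ncard_image_of_injective _ hinj]
    congr 1
    obtain ⟨x, rfl⟩ := QuotientGroup.mk_surjective c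
    ext S
    constructor
    · rintro ⟨_, ⟨h, rfl⟩, rfl⟩
      refine ⟨eH h, ?_⟩
      change (j2Equiv (h : J2) : Equiv.Perm (Fin 315)) • cosetMap x = cosetMap ((h : J2) * x)
      simp only [cosetMap, map_mul, Subgroup.coe_mul, mul_smul]
    · rintro ⟨σ, rfl⟩
      refine ⟨(eH.symm σ) • (QuotientGroup.mk x : J2 ⧸ H), ⟨_, rfl⟩, ?_⟩
      change cosetMap ((eH.symm σ : J2) * x) = (σ : Equiv.Perm (Fin 315)) • cosetMap x
      have e : (j2Equiv (eH.symm σ : J2) : Equiv.Perm (Fin 315)) = σ :=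
        congrArg Subtype.val (eH.apply_symm_apply σ)
      simp only [cosetMap, map_mul, Subgroup.coe_mul, mul_smul, e]
  obtain ⟨hX, -, h36, h63⟩ := facts_hu
  obtain ⟨c₁, hc₁⟩ := hreach _ h36
  obtain ⟨c₂, hc₂⟩ := hreach _ h63
  have hgood := (Obj.orbit_spec (O := setObj) orbitX_check hX).1
  exact ⟨H, hidx, ⟨eH.trans huEquiv⟩, c₁, c₂,
    horbit _ _ c₁ hc₁ (Obj.orbit_spec (O := setObj) orbit36_check (hgood _ h36)).2.2,
    horbit _ _ c₂ hc₂ (Obj.orbit_spec (O := setObj) orbit63_check (hgood _ h63)).2.2⟩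

end Cfsg.Agent.JankoTwo
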