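import Cfsg.Agent.JankoTwo.Simple
import Cfsg.Agent.JankoTwo.HundredData
import Cfsg.Prelude.Def_Sporadic

/-! `J₂` permutes a family of one hundred sets of axes. -/

set_option autoImplicit false

namespace Cfsg.Agent.JankoTwo

open Cfsg.Spor Cfsg.Agent.Compute
open scoped Pointwise

/-- A set of the family. -/
def hundredSet (k : Fin 100) : Set (Fin 315) :=
  {i | (hundredSets.getD k 0).testBit i = true}

/-- The check of the family. -/
noncomputable def hundredCheck : Bool :=
  allBelow 4 fun t => allBelow 100 fun k =>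
    let k' := getField 7 (hundredImg.getD t 0) k
    Nat.blt k' 100 && allBelow 315 fun i =>
      (hundredSets.getD k 0).testBit i == (hundredSets.getD k' 0).testBit (getField 9 (genCodes.getD t 0) i)

theorem hundredCheck_ok : hundredCheck = true := by decide +kernel

theorem hundredSets_distinct : allBelow 100 (fun k => allBelow 100 fun l =>
    Nat.beq k l || !(Nat.beq (hundredSets.getD k 0) (hundredSets.getD l 0))) = true := by decide +kernel

theorem hundredSets_lt : allBelow 100 (fun k =>
    Nat.blt (hundredSets.getD k 0) (Nat.shiftLeft 1 315)) = true := by decide +kernel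

theorem hundredSet_injective : Function.Injective hundredSet := by
  intro k l h
  by_contra hne
  have h1 := allBelow_eq_true.mp (allBelow_eq_true.mp hundredSets_distinct k k.2) l l.2
  simp only [Bool.or_eq_true, Nat.beq_eq, Bool.not_eq_true'] at h1
  rcases h1 with h1 | h1
  · exact hne (Fin.ext h1)
  · refine Bool.eq_false_iff.1 h1 (Nat.beq_eq ▸ (Nat.eq_of_testBit_eq fun i => ?_))
    by_cases hi : i < 315
    · have := congrArg (fun s : Set (Fin 315) => (⟨i, hi⟩ : Fin 315) ∈ s) h
      simp only [hundredSet, Set.mem_ofPred_eq, eq_iff_iff] at this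
      exact Bool.eq_iff_iff.2 this
    · have hb : ∀ m : Fin 100, (hundredSets.getD m 0).testBit i = false := fun m => by
        have := allBelow_eq_true.mp hundredSets_lt m m.2
        rw [Nat.blt_eq] at this
        refine Nat.testBit_lt_two_pow (lt_of_lt_of_le this ?_)
        rw [show Nat.shiftLeft 1 315 = 2 ^ 315 from Nat.one_shiftLeft 315]
        exact Nat.pow_le_pow_right Nat.two_pos (Nat.le_of_not_lt hi)
      rw [hb k, hb l]

theorem gen_moves (t : Fin 4) (k : Fin 100) :
    ∃ k', rep315.den (genC t) • hundredSet k = hundredSet k' := by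
  have h := allBelow_eq_true.mp (allBelow_eq_true.mp hundredCheck_ok t t.2) k k.2
  simp only [Bool.and_eq_true, Nat.blt_eq] at h
  obtain ⟨hk', h⟩ := h
  rw [allBelow_eq_true] at h
  refine ⟨⟨_, hk'⟩, ?_⟩
  have hp := genC_ok t
  ext x
  rw [Set.mem_smul_set_iff_inv_smul_mem, Equiv.Perm.smul_def]
  obtain ⟨i, rfl⟩ := (rep315.den (genC t)).surjective x
  rw [Equiv.Perm.coe_inv, Equiv.symm_apply_apply]
  have hi := h i i.2
  simp only [beq_iff_eq] at hi
  simp only [hundredSet, Set.mem_ofPred_eq, den_apply hp i]
  exact Eq.to_iff (congrArg (· = true) hi)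

theorem range_piJ_gens :
    piJ.range = Subgroup.closure (Set.range fun k => rep315.den (genC k)) := by
  rw [MonoidHom.range_eq_map, ← genGroup_eq_top, genGroup, MonoidHom.map_closure, ← Set.range_comp]
  simp only [Function.comp_def, piJ_genR]

theorem K315_moves {g : Equiv.Perm (Fin 315)} (hg : g ∈ K315) :
    ∀ k, ∃ k', g • hundredSet k = hundredSet k' := by
  rw [K315, range_piJ_gens] at hg
  induction hg using Subgroup.closure_induction with
  | mem f hf => obtain ⟨t, rfl⟩ := hf; exact gen_moves t
  | one => exact fun k => ⟨k, one_smul _ _⟩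
  | mul a b _ _ iha ihb =>
    intro k
    obtain ⟨l, hl⟩ := ihb k
    obtain ⟨m, hm⟩ := iha l
    exact ⟨m, by rw [mul_smul, hl, hm]⟩
  | inv a _ iha =>
    choose f hf using iha
    have hinj : Function.Injective f := fun k l e =>
      hundredSet_injective (MulAction.injective a (by
        show a • hundredSet k = a • hundredSet l
        rw [hf, hf, e]))
    intro k
    obtain ⟨l, hl⟩ := Finite.injective_iff_surjective.1 hinj k
    exact ⟨l, by rw [inv_smul_eq_iff, hf, hl]⟩

theorem exists_j2_hundred : ∃ G : Subgroup (Equiv.Perm (Fin 100)), Cfsg.IsJ2 G := by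
  choose f hf using fun (g : K315) => K315_moves g.2
  have hmul : ∀ g h k, f (g * h) k = f g (f h k) := fun g h k => hundredSet_injective (by
    rw [← hf, ← hf, ← hf]; exact mul_smul (g : Equiv.Perm (Fin 315)) h _)
  have hone : ∀ k, f 1 k = k := fun k => hundredSet_injective (by
    rw [← hf]; exact one_smul _ _)
  let φ : K315 →* Equiv.Perm (Fin 100) := MonoidHom.mk'
    (fun g => ⟨f g, f g⁻¹, fun k => by rw [← hmul, inv_mul_cancel, hone],
      fun k => by rw [← hmul, mul_inv_cancel, hone]⟩)
    (fun g h => Equiv.ext fun k => hmul g h k)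
  have := isSimpleGroup_K315
  have hker : φ.ker = ⊥ := by
    refine (Subgroup.Normal.eq_bot_or_eq_top inferInstance).resolve_right fun htop => ?_
    have hfix : ∀ (g : K315) k, f g k = k := fun g k => by
      have hg : φ g = 1 := (htop ▸ Subgroup.mem_top g : g ∈ φ.ker)
      exact congrArg (fun σ : Equiv.Perm (Fin 100) => σ k) hg
    have hmem : rep315.den (genC 0) ∈ K315 := by
      rw [K315, range_piJ_gens]; exact Subgroup.subset_closure ⟨0, rfl⟩
    have hmove : ∃ k : Fin 100, getField 7 (hundredImg.getD 0 0) k ≠ k := by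
      decide +kernel
    obtain ⟨k, hk⟩ := hmove
    have h := allBelow_eq_true.mp (allBelow_eq_true.mp hundredCheck_ok 0 (by norm_num)) k k.2
    simp only [Bool.and_eq_true, Nat.blt_eq] at h
    obtain ⟨hk', h⟩ := h
    have e : hundredSet k = hundredSet ⟨_, hk'⟩ := by
      have hfk := hf ⟨_, hmem⟩ k
      rw [hfix] at hfk
      refine hfk.symm.trans ?_
      ext x
      rw [Set.mem_smul_set_iff_inv_smul_mem, Equiv.Perm.smul_def]
      obtain ⟨i, rfl⟩ := (rep315.den (genC 0)).surjective x
      rw [Equiv.Perm.coe_inv, Equiv.symm_apply_apply]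
      have hi := allBelow_eq_true.mp h i i.2
      simp only [beq_iff_eq] at hi
      simp only [hundredSet, Set.mem_ofPred_eq, den_apply (genC_ok 0) i]
      exact Eq.to_iff (congrArg (· = true) hi)
    exact hk (congrArg Fin.val (hundredSet_injective e)).symm
  let ψ : K315 ≃* φ.range := MonoidHom.ofInjective ((MonoidHom.ker_eq_bot_iff φ).1 hker)
  exact ⟨φ.range, MulEquiv.isSimpleGroup ψ.symm,
    by rw [← Nat.card_congr ψ.toEquiv]; exact card_range_piJ⟩

end Cfsg.Agent.JankoTwo
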