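import Cfsg.Agent.JankoTwo.OrderCheck

/-!
The element orders of `J₂`: the divisors of 7, 8, 10, 12 and 15.
-/

set_option autoImplicit false

namespace Cfsg.Agent.JankoTwo

open Cfsg.Spor Cfsg.Agent.Compute

theorem range_orderOf_eq {G : Type*} [Group G] [Finite G] (L : List ℕ)
    (hup : ∀ g : G, ∃ n ∈ L, g ^ n = 1) (hlow : ∀ n ∈ L, ∃ g : G, orderOf g = n) :
    Set.range (orderOf : G → ℕ) = {d | ∃ n ∈ L, d ∣ n} := by
  ext d
  constructor
  · rintro ⟨g, rfl⟩
    obtain ⟨n, hn, h⟩ := hup g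
    exact ⟨n, hn, orderOf_dvd_of_pow_eq_one h⟩
  · rintro ⟨n, hn, hd⟩
    obtain ⟨g, hg⟩ := hlow n hn
    subst hg
    exact ⟨g ^ (orderOf g / d), orderOf_pow_orderOf_div (orderOf_pos g).ne' hd⟩

theorem base_facts : j2L0.base = 0 ∧ j2L1.base = 1 ∧ j2L2.base = 2 ∧ j2L3.base = 3 ∧
    j2L1.size = 160 ∧ j2L2.size = 4 ∧ j2L3.size = 3 ∧
    ∀ r ∈ subRoots, getField 9 (moveTo r) 0 = r := by
  have h := baseCheck_ok
  simp only [Bool.and_eq_true, Nat.beq_eq] at h
  obtain ⟨⟨⟨⟨⟨⟨⟨h0, h1⟩, h2⟩, h3⟩, s1⟩, s2⟩, s3⟩, hr⟩ := h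
  exact ⟨h0, h1, h2, h3, s1, s2, s3, fun r hr' => Nat.eq_of_beq_eq_true (allL_spec hr r hr')⟩

theorem K315_eq : K315 = rep315.chainGroup j2Chain := range_piJ

theorem chain_tail1 : rep315.checkChain [j2L1, j2L2, j2L3] = true := by
  have := j2Chain_check; rw [j2Chain] at this; exact Rep.checkChain_tail this

theorem chain_tail2 : rep315.checkChain [j2L2, j2L3] = true := Rep.checkChain_tail chain_tail1

theorem chain_tail3 : rep315.checkChain [j2L3] = true := Rep.checkChain_tail chain_tail2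

theorem pt_eq {i : ℕ} (hi : i < 315) : rep315.pt i = (⟨i, hi⟩ : Fin 315) := by
  apply Fin.ext
  show i % 315 = i
  exact Nat.mod_eq_of_lt hi

/-- An element fixing the four base points is trivial. -/
theorem eq_one_of_fix {g : Equiv.Perm (Fin 315)} (hg : g ∈ K315) (h0 : g 0 = 0) (h1 : g 1 = 1)
    (h2 : g 2 = 2) (h3 : g 3 = 3) : g = 1 := by
  obtain ⟨b0, b1, b2, b3, -⟩ := base_facts
  rw [K315_eq, j2Chain] at hg
  have hc : rep315.checkChain [j2L0, j2L1, j2L2, j2L3] = true := j2Chain_check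
  have st : ∀ (L : Level) (Ls : List Level) (b : ℕ) (hb : b < 315), rep315.checkChain (L :: Ls) = true →
      L.base = b → g ∈ rep315.chainGroup (L :: Ls) → g ⟨b, hb⟩ = ⟨b, hb⟩ →
      g ∈ rep315.chainGroup Ls := by
    intro L Ls b hb hc hLb hm hfix
    rw [← Rep.chainGroup_inf_stabilizer hc hLb]
    refine Subgroup.mem_inf.mpr ⟨hm, MulAction.mem_stabilizer_iff.mpr ?_⟩
    rw [Equiv.Perm.smul_def, pt_eq hb, hfix]
  have g1 := st _ _ 0 (by norm_num) hc b0 hg h0
  have g2 := st _ _ 1 (by norm_num) chain_tail1 b1 g1 h1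
  have g3 := st _ _ 2 (by norm_num) chain_tail2 b2 g2 h2
  have g4 := st _ _ 3 (by norm_num) chain_tail3 b3 g3 h3
  rw [Rep.chainGroup, Rep.span] at g4
  simpa [topGens] using g4

/-- The coset element. -/
noncomputable def elem4 (r j k l : ℕ) : Equiv.Perm (Fin 315) :=
  rep315.den (moveTo r) * (rep315.den (fac1 j) * (rep315.den (fac2 k) * rep315.den (fac3 l)))

theorem j2L2_ok : rep315.LevelOK j2L2 [j2L3] :=
  rep315.levelOK_of_check (checkLevel_of_parts _ head2 entry2 sch2)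

theorem j2L3_ok : rep315.LevelOK j2L3 [] :=
  rep315.levelOK_of_check (checkLevel_of_parts _ head3 entry3 sch3)

theorem fac_ok (j k l : ℕ) : CodePerm 9 315 (fac1 j) ∧ CodePerm 9 315 (fac2 k) ∧
    CodePerm 9 315 (fac3 l) :=
  ⟨(j2L1_ok.entry_all j).1, (j2L2_ok.entry_all k).1, (j2L3_ok.entry_all l).1⟩

theorem elem4_apply (r j k l : ℕ) (x : Fin 315) :
    (elem4 r j k l x : ℕ) = step4 (moveTo r) (fac1 j) (fac2 k) (fac3 l) x := by
  obtain ⟨h1, h2, h3⟩ := fac_ok j k l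
  simp only [elem4, Equiv.Perm.mul_apply, step4]
  rw [den_apply (moveTo_spec r).1, den_apply h1, den_apply h2, den_apply h3]

theorem elem4_pow_apply (r j k l n : ℕ) (x : Fin 315) :
    ((elem4 r j k l ^ n) x : ℕ) = iterN (step4 (moveTo r) (fac1 j) (fac2 k) (fac3 l)) n x := by
  induction n with
  | zero => rfl
  | succ n ih => rw [pow_succ', Equiv.Perm.mul_apply, elem4_apply, ih, iterN_succ]

theorem elem4_mem (r j k l : ℕ) : elem4 r j k l ∈ K315 := by
  refine mul_mem (moveTo_spec r).2 ?_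
  have hle : rep315.chainGroup [j2L1, j2L2, j2L3] ≤ K315 := by
    rw [K315_eq, j2Chain]; exact Rep.chainGroup_next_le j2Chain_check
  have hle2 := (Rep.chainGroup_next_le chain_tail1).trans hle
  have hle3 := (Rep.chainGroup_next_le chain_tail2).trans hle2
  refine mul_mem (hle ?_) (mul_mem (hle2 ?_) (hle3 ?_))
  · exact j2L1_ok.entry_mem j
  · exact j2L2_ok.entry_mem k
  · exact j2L3_ok.entry_mem l

theorem fixBase_iff {r j k l n : ℕ} :
    fixBase (moveTo r) (fac1 j) (fac2 k) (fac3 l) n = true ↔ elem4 r j k l ^ n = 1 := by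
  simp only [fixBase, allBelow_eq_true, Nat.beq_eq]
  constructor
  · intro h
    refine eq_one_of_fix (pow_mem (elem4_mem r j k l) n) ?_ ?_ ?_ ?_ <;>
      · apply Fin.ext
        rw [elem4_pow_apply]
        exact h _ (by decide)
  · intro h x hx
    have := elem4_pow_apply r j k l n ⟨x, by omega⟩
    rw [h] at this
    exact this.symm

theorem exists_exponent {r j k l : ℕ} (hr : r ∈ subRoots) (hj : j < 160) (hk : k < 4) (hl : l < 3) :
    ∃ n ∈ maxOrd, elem4 r j k l ^ n = 1 := by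
  have key : ∀ tab, ordAt r tab j = true → ∃ n ∈ maxOrd, elem4 r j k l ^ n = 1 := by
    intro tab h
    unfold ordAt at h
    have h' := allBelow_eq_true.mp (allBelow_eq_true.mp h k hk) l hl
    simp only [Bool.and_eq_true, Nat.blt_eq] at h'
    refine ⟨_, ?_, fixBase_iff.mp h'.2⟩
    rw [List.getD_eq_getElem _ _ (by simpa [maxOrd] using h'.1)]
    exact List.getElem_mem _
  have hroots : r = 0 ∨ r = 1 ∨ r = 2 ∨ r = 3 ∨ r = 6 ∨ r = 8 := by
    have : allL subRoots (fun r => memB r [0, 1, 2, 3, 6, 8]) = true := by decide +kernel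
    simpa [memB_eq_true] using allL_spec this r hr
  rcases hroots with rfl | rfl | rfl | rfl | rfl | rfl
  · exact key _ (allBelow_eq_true.mp ordCheck0 j hj)
  · exact key _ (allBelow_eq_true.mp ordCheck1 j hj)
  · exact key _ (allBelow_eq_true.mp ordCheck2 j hj)
  · exact key _ (allBelow_eq_true.mp ordCheck3 j hj)
  · exact key _ (allBelow_eq_true.mp ordCheck4 j hj)
  · exact key _ (allBelow_eq_true.mp ordCheck5 j hj)

theorem den_fix0 {g : ℕ} (hg : g ∈ j2L1.gens) : rep315.den g 0 = 0 := by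
  have hb := blockCheck_ok
  simp only [blockCheck, Bool.and_eq_true] at hb
  apply Fin.ext
  rw [den_apply (gen1_spec hg).1]
  exact Nat.eq_of_beq_eq_true (allL_spec hb.1.1.2 g hg)

theorem exists_exponent_K (g : K315) : ∃ n ∈ maxOrd, g ^ n = 1 := by
  obtain ⟨g, hg⟩ := g
  have hb := blockCheck_ok
  simp only [blockCheck, Bool.and_eq_true] at hb
  obtain ⟨r, hr, x, hx, hxr⟩ := tree_root hb.1.1.1
    (P := fun j => ∃ x ∈ K315, (x⁻¹ * g * x) 0 = j)
    (fun c hc p j he ⟨x, hx, hxj⟩ => by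
      refine ⟨x * rep315.den c, mul_mem hx (gen1_spec hc).2, ?_⟩
      have hj : rep315.den c p = j := Fin.ext (by rw [den_apply (gen1_spec hc).1, he])
      simp only [mul_inv_rev, Equiv.Perm.mul_apply] at hxj ⊢
      rw [den_fix0 hc, hxj, Equiv.Perm.inv_eq_iff_eq, hj])
    (g 0) ⟨1, one_mem _, by simp⟩
  obtain ⟨b0, b1, -, -, s1, s2, s3, hmv⟩ := base_facts
  have hc : rep315.checkChain [j2L0, j2L1, j2L2, j2L3] = true := j2Chain_check
  have hmem : (rep315.den (moveTo r))⁻¹ * (x⁻¹ * g * x) ∈ rep315.chainGroup [j2L1, j2L2, j2L3] := by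
    rw [← Rep.chainGroup_inf_stabilizer hc b0]
    refine Subgroup.mem_inf.mpr ⟨?_, MulAction.mem_stabilizer_iff.mpr ?_⟩
    · rw [← j2Chain, ← K315_eq]
      exact mul_mem (inv_mem (moveTo_spec _).2) (mul_mem (mul_mem (inv_mem hx) hg) hx)
    · rw [Equiv.Perm.smul_def, pt_eq (by norm_num : 0 < 315)]
      change (rep315.den (moveTo r))⁻¹ ((x⁻¹ * g * x) 0) = 0
      rw [hxr, Equiv.Perm.inv_eq_iff_eq]
      apply Fin.ext
      rw [den_apply (moveTo_spec _).1]
      exact (hmv r hr).symm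
  rw [rep315.chainGroup_cons] at hmem
  obtain ⟨j, hj, y, hy, he⟩ := rep315.decompose chain_tail1 hmem
  rw [rep315.chainGroup_cons] at hy
  obtain ⟨k, hk, z, hz, rfl⟩ := rep315.decompose chain_tail2 hy
  rw [rep315.chainGroup_cons] at hz
  obtain ⟨l, hl, w, hw, rfl⟩ := rep315.decompose chain_tail3 hz
  have hw1 : w = 1 := by
    rw [Rep.chainGroup, Rep.span] at hw
    simpa [topGens] using hw
  subst hw1
  rw [mul_one, inv_mul_eq_iff_eq_mul] at he
  obtain ⟨n, hn, hpow⟩ := exists_exponent hr (s1 ▸ hj) (s2 ▸ hk) (s3 ▸ hl)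
  refine ⟨n, hn, Subtype.ext ?_⟩
  have he' : elem4 r j k l = x⁻¹ * g * x⁻¹⁻¹ := by rw [inv_inv]; exact he.symm
  rw [he', conj_pow, inv_inv, mul_assoc, inv_mul_eq_one, right_eq_mul] at hpow
  exact hpow

theorem exists_order_K {n : ℕ} (hn : n ∈ maxOrd) : ∃ g : K315, orderOf g = n := by
  rw [← ordWit_orders] at hn
  obtain ⟨e, he, rfl⟩ := List.mem_map.mp hn
  have h := allL_spec witCheck_ok e he
  simp only [Bool.and_eq_true, allBelow_eq_true, Bool.or_eq_true, Nat.beq_eq,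
    Bool.not_eq_true'] at h
  have hpos : 0 < e.1 := by
    have : allL ordWit (fun e => Nat.blt 0 e.1) = true := by decide +kernel
    exact Nat.blt_eq.mp (allL_spec this e he)
  refine ⟨⟨elem4 e.2.1 e.2.2.1 e.2.2.2.1 e.2.2.2.2, elem4_mem _ _ _ _⟩, ?_⟩
  rw [← Subgroup.orderOf_coe, orderOf_eq_iff hpos]
  refine ⟨fixBase_iff.mp h.1, fun m hm hm0 hpow => ?_⟩
  rcases h.2 m hm with h2 | h2
  · omega
  · rw [fixBase_iff.mpr hpow] at h2
    exact absurd h2 (by simp)

theorem range_orderOf_J2 :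
    Set.range (orderOf : J2 → ℕ) = {d | ∃ n ∈ maxOrd, d ∣ n} := by
  have : Finite J2 := Nat.finite_of_card_ne_zero (by rw [card_J2]; norm_num)
  refine range_orderOf_eq _ (fun g => ?_) fun n hn => ?_
  · obtain ⟨n, hn, h⟩ := exists_exponent_K (j2Equiv g)
    exact ⟨n, hn, j2Equiv.injective (by rw [map_pow, h, map_one])⟩
  · obtain ⟨g, hg⟩ := exists_order_K hn
    exact ⟨j2Equiv.symm g, by rw [MulEquiv.orderOf_eq, hg]⟩

end Cfsg.Agent.JankoTwo
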