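import Mathlib

/-! Data: the five blocks of the centraliser of a reflection, coset and kernel witnesses. -/

set_option autoImplicit false

namespace Cfsg.Agent.JankoTwo

def blockP : List ℕ := [2, 16, 18, 32, 294]

def blockQ : List ℕ := [301, 188, 138, 99, 297]

def blockImg : List (Equiv.Perm (Fin 5)) :=
  [(List.formPerm [1, 4, 3] : Equiv.Perm (Fin 5)),
   (List.formPerm [0, 4] * List.formPerm [1, 2] : Equiv.Perm (Fin 5)),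
   (List.formPerm [1, 2, 4] : Equiv.Perm (Fin 5))]

def imgWit : List (ℕ × ℕ × ℕ) :=
  [(0, 0, 0), (2, 0, 2), (3, 2, 1), (2, 0, 1), (1, 0, 1), (0, 0, 1),
   (3, 2, 0), (2, 0, 0), (1, 0, 2), (0, 0, 2), (1, 0, 0), (3, 2, 2),
   (2, 1, 2), (3, 3, 1), (0, 2, 2), (0, 2, 1), (2, 1, 0), (6, 3, 2),
   (2, 1, 1), (6, 3, 1), (3, 3, 2), (3, 3, 0), (0, 2, 0), (6, 3, 0),
   (0, 3, 0), (2, 3, 0), (1, 3, 0), (2, 3, 2), (6, 1, 0), (0, 3, 1),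
   (1, 3, 2), (2, 3, 1), (6, 1, 1), (0, 3, 2), (6, 1, 2), (1, 3, 1),
   (2, 2, 2), (1, 1, 2), (3, 1, 1), (3, 1, 0), (2, 2, 0), (6, 2, 1),
   (2, 2, 1), (6, 2, 0), (1, 1, 0), (1, 1, 1), (3, 1, 2), (6, 2, 2),
   (3, 0, 0), (0, 1, 2), (1, 2, 2), (0, 1, 1), (6, 0, 1), (3, 0, 1),
   (1, 2, 1), (0, 1, 0), (6, 0, 2), (3, 0, 2), (6, 0, 0), (1, 2, 0)]

def kerWit : List (ℕ × ℕ × ℕ) :=
  [(0, 0, 0), (5, 0, 0), (13, 1, 0), (14, 0, 2), (23, 0, 2), (29, 3, 1),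
   (35, 0, 1), (38, 2, 2), (43, 0, 1), (44, 3, 0), (62, 3, 0), (78, 0, 0),
   (80, 1, 1), (91, 0, 2), (92, 1, 0), (96, 0, 2), (105, 1, 2), (114, 2, 0),
   (116, 1, 0), (123, 0, 2), (126, 0, 1), (127, 0, 1), (129, 3, 0), (131, 0, 1),
   (132, 1, 2), (133, 3, 0), (138, 0, 1), (142, 3, 2), (146, 3, 0), (149, 1, 2),
   (154, 1, 1), (156, 3, 1)]

end Cfsg.Agent.JankoTwo
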