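import Cfsg.Agent.JankoTwo.OrderDefs
import Cfsg.Agent.JankoTwo.CentData
import Cfsg.Agent.JankoTwo.Orders

/-!
The stabiliser of an axis acts on five blocks of two axes: image `A₅`, kernel of order 32.
-/

set_option autoImplicit false

namespace Cfsg.Agent.JankoTwo

open Cfsg.Agent.Compute

/-- First point of a block. -/
def bP (k : ℕ) : ℕ := blockP.getD k 0
/-- Second point of a block. -/
def bQ (k : ℕ) : ℕ := blockQ.getD k 0

/-- The point lies in the block. -/
def hasPt (k x : ℕ) : Bool := Nat.beq x (bP k) || Nat.beq x (bQ k)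

/-- The block of a point; 5 if there is none. -/
def blkIdx (x : ℕ) : ℕ :=
  cond (hasPt 0 x) 0 (cond (hasPt 1 x) 1 (cond (hasPt 2 x) 2 (cond (hasPt 3 x) 3
    (cond (hasPt 4 x) 4 5))))

theorem block_facts : ∀ k : Fin 5, bP k < 315 ∧ bQ k < 315 ∧ blkIdx (bP k) = k ∧ blkIdx (bQ k) = k := by
  decide +kernel

/-- The first point, as an axis. -/
def pP (k : Fin 5) : Fin 315 := ⟨bP k, (block_facts k).1⟩
/-- The second point, as an axis. -/
def pQ (k : Fin 5) : Fin 315 := ⟨bQ k, (block_facts k).2.1⟩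

/-- A permutation of the axes permuting the five blocks. -/
def Acts (σ : Equiv.Perm (Fin 315)) : Prop :=
  ∀ k, ∃ i, (σ (pP k) = pP i ∧ σ (pQ k) = pQ i) ∨ (σ (pP k) = pQ i ∧ σ (pQ k) = pP i)

theorem blk_pP (k : Fin 5) : blkIdx (pP k) = k := (block_facts k).2.2.1
theorem blk_pQ (k : Fin 5) : blkIdx (pQ k) = k := (block_facts k).2.2.2

theorem Acts.unique {σ : Equiv.Perm (Fin 315)} {k i : Fin 5}
    (h : (σ (pP k) = pP i ∧ σ (pQ k) = pQ i) ∨ (σ (pP k) = pQ i ∧ σ (pQ k) = pP i)) :
    blkIdx (σ (pP k)) = i := by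
  rcases h with ⟨h, -⟩ | ⟨h, -⟩ <;> rw [h]
  exacts [blk_pP i, blk_pQ i]

theorem acts_one : Acts 1 := fun k => ⟨k, Or.inl ⟨rfl, rfl⟩⟩

theorem Acts.mul {σ τ : Equiv.Perm (Fin 315)} (hσ : Acts σ) (hτ : Acts τ) : Acts (σ * τ) := by
  intro k
  obtain ⟨i, hi⟩ := hτ k
  obtain ⟨j, hj⟩ := hσ i
  refine ⟨j, ?_⟩
  simp only [Equiv.Perm.mul_apply]
  rcases hi with ⟨a, b⟩ | ⟨a, b⟩ <;> rw [a, b]
  · exact hj
  · rcases hj with ⟨c, d⟩ | ⟨c, d⟩
    · exact Or.inr ⟨d, c⟩
    · exact Or.inl ⟨d, c⟩

/-- The image of a block. -/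
noncomputable def blockMap {σ : Equiv.Perm (Fin 315)} (h : Acts σ) (k : Fin 5) : Fin 5 :=
  (h k).choose

theorem blockMap_val {σ : Equiv.Perm (Fin 315)} (h : Acts σ) (k : Fin 5) :
    (blockMap h k : ℕ) = blkIdx (σ (pP k)) := (Acts.unique (h k).choose_spec).symm

theorem blockMap_mul {σ τ : Equiv.Perm (Fin 315)} (hσ : Acts σ) (hτ : Acts τ) (k : Fin 5) :
    blockMap (hσ.mul hτ) k = blockMap hσ (blockMap hτ k) := by
  apply Fin.ext
  rw [blockMap_val, Equiv.Perm.mul_apply]
  have h1 := (hτ k).choose_spec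
  have h2 := (hσ (blockMap hτ k)).choose_spec
  rcases h1 with ⟨a, -⟩ | ⟨a, -⟩
  · rw [a, ← blockMap_val hσ]; rfl
  · rw [a]
    rcases h2 with ⟨-, d⟩ | ⟨-, d⟩
    · change blkIdx (σ (pQ (blockMap hτ k))) = _
      rw [d, blk_pQ]; rfl
    · change blkIdx (σ (pQ (blockMap hτ k))) = _
      rw [d, blk_pP]; rfl

/-- Membership checks of a code. -/
noncomputable def actsB (g : ℕ) : Bool :=
  allBelow 5 fun k =>
    let a := getField 9 g (bP k)
    let b := getField 9 g (bQ k)
    let i := blkIdx a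
    Nat.blt i 5 && ((Nat.beq a (bP i) && Nat.beq b (bQ i)) || (Nat.beq a (bQ i) && Nat.beq b (bP i)))

theorem gens_acts : allL j2L1.gens actsB = true := by decide +kernel

/-- The stabiliser of the axis 0. -/
noncomputable abbrev Cg : Subgroup (Equiv.Perm (Fin 315)) := rep315.chainGroup [j2L1, j2L2, j2L3]

theorem acts_of_mem {σ : Equiv.Perm (Fin 315)} (h : σ ∈ Cg) : Acts σ := by
  rw [Cg, rep315.chainGroup_cons, Rep.span, ← Subgroup.mem_toSubmonoid,
    Subgroup.closure_toSubmonoid_of_finite] at h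
  induction h using Submonoid.closure_induction with
  | mem σ hσ =>
    obtain ⟨g, hg, rfl⟩ := hσ
    have := allL_spec gens_acts g hg
    unfold actsB at this
    intro k
    have hk := allBelow_eq_true.mp this k k.2
    simp only [Bool.and_eq_true, Bool.or_eq_true, Nat.blt_eq, Nat.beq_eq] at hk
    obtain ⟨hi, h⟩ := hk
    refine ⟨⟨_, hi⟩, h.imp (fun h => ?_) (fun h => ?_)⟩ <;>
    · refine ⟨Fin.ext ?_, Fin.ext ?_⟩
      · rw [den_apply (gen1_spec hg).1]; exact h.1
      · rw [den_apply (gen1_spec hg).1]; exact h.2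
  | one => exact acts_one
  | mul a b _ _ ha hb => exact ha.mul hb

/-- The action of the stabiliser on the blocks, as a monoid map into the self-maps. -/
noncomputable def blockEnd : Cg →* Function.End (Fin 5) where
  toFun x := blockMap (acts_of_mem x.2)
  map_one' := funext fun k => by
    apply Fin.ext
    rw [blockMap_val, OneMemClass.coe_one, Equiv.Perm.one_apply, blk_pP]
    rfl
  map_mul' x y := funext fun k => blockMap_mul (acts_of_mem x.2) (acts_of_mem y.2) k

/-- The action of the stabiliser on the blocks. -/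
noncomputable def blockHom : Cg →* Equiv.Perm (Fin 5) where
  toFun x :=
    { toFun := blockEnd x
      invFun := blockEnd x⁻¹
      left_inv := fun k => by
        change (blockEnd x⁻¹ * blockEnd x) k = k
        rw [← map_mul, inv_mul_cancel, map_one]; rfl
      right_inv := fun k => by
        change (blockEnd x * blockEnd x⁻¹) k = k
        rw [← map_mul, mul_inv_cancel, map_one]; rfl }
  map_one' := Equiv.ext fun k => by change blockEnd 1 k = k; rw [map_one]; rfl
  map_mul' x y := Equiv.ext fun k => by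
    change blockEnd (x * y) k = blockEnd x (blockEnd y k); rw [map_mul]; rfl

theorem blockHom_val (x : Cg) (k : Fin 5) :
    (blockHom x k : ℕ) = blkIdx ((x : Equiv.Perm (Fin 315)) (pP k)) :=
  blockMap_val (acts_of_mem x.2) k

/-- The generators' images are as listed and even. -/
theorem gens_images : allBelow j2L1.gens.length (fun i => allBelow 5 fun k =>
      Nat.beq (blkIdx (getField 9 (j2L1.gens.getD i 0) (bP k)))
        (if hk : k < 5 then ((blockImg.getD i 1) ⟨k, hk⟩ : ℕ) else 5)) = true ∧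
    (∀ s ∈ blockImg, Equiv.Perm.sign s = 1) := by decide +kernel

theorem blockHom_even (x : Cg) : blockHom x ∈ alternatingGroup (Fin 5) := by
  obtain ⟨σ, hσ⟩ := x
  have h : σ ∈ Subgroup.closure (rep315.den '' {g | g ∈ j2L1.gens}) := hσ
  induction h using Subgroup.closure_induction with
  | mem σ hm =>
    obtain ⟨g, hg, rfl⟩ := hm
    obtain ⟨i, hi, rfl⟩ := List.getElem_of_mem hg
    rw [Equiv.Perm.mem_alternatingGroup]
    have he : blockHom ⟨_, hσ⟩ = blockImg.getD i 1 := by
      ext k
      have hk := allBelow_eq_true.mp (allBelow_eq_true.mp gens_images.1 i hi) k k.2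
      rw [Nat.beq_eq, dif_pos k.2, List.getD_eq_getElem _ _ hi] at hk
      rw [blockHom_val, den_apply (gen1_spec hg).1]
      exact hk
    rw [he]
    by_cases hl : i < blockImg.length
    · rw [List.getD_eq_getElem _ _ hl]; exact gens_images.2 _ (List.getElem_mem hl)
    · rw [List.getD_eq_default _ _ (by omega)]; exact Equiv.Perm.sign_one
  | one => exact map_one blockHom ▸ one_mem (alternatingGroup (Fin 5))
  | mul a b ha hb iha ihb =>
    exact (map_mul blockHom ⟨a, ha⟩ ⟨b, hb⟩) ▸ mul_mem (iha ha) (ihb hb)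
  | inv a ha iha => exact (map_inv blockHom ⟨a, ha⟩) ▸ inv_mem (iha ha)

theorem pack_congr {w n : ℕ} {f g : ℕ → ℕ} (h : ∀ k, k < n → f k = g k) :
    pack w n f = pack w n g := by
  induction n with
  | zero => rfl
  | succ n ih => rw [pack_succ, pack_succ, ih fun k hk => h k (by omega), h n (by omega)]

/-- A product of three transversal factors. -/
noncomputable def fac3Prod (w : ℕ × ℕ × ℕ) : Equiv.Perm (Fin 315) :=
  rep315.den (fac1 w.1) * (rep315.den (fac2 w.2.1) * rep315.den (fac3 w.2.2))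

/-- Its value at a point. -/
noncomputable def app3 (w : ℕ × ℕ × ℕ) (x : ℕ) : ℕ :=
  getField 9 (fac1 w.1) (getField 9 (fac2 w.2.1) (getField 9 (fac3 w.2.2) x))

theorem fac3Prod_apply (w : ℕ × ℕ × ℕ) (x : Fin 315) : (fac3Prod w x : ℕ) = app3 w x := by
  obtain ⟨h1, h2, h3⟩ := fac_ok w.1 w.2.1 w.2.2
  simp only [fac3Prod, Equiv.Perm.mul_apply, app3]
  rw [den_apply h1, den_apply h2, den_apply h3]

theorem fac3Prod_mem (w : ℕ × ℕ × ℕ) : fac3Prod w ∈ Cg :=
  mul_mem (j2L1_ok.entry_mem _)
    (mul_mem (Rep.chainGroup_next_le chain_tail1 (j2L2_ok.entry_mem _))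
      (Rep.chainGroup_next_le chain_tail1
        (Rep.chainGroup_next_le chain_tail2 (j2L3_ok.entry_mem _))))

/-- Packed block images. -/
noncomputable def imgCode (w : ℕ × ℕ × ℕ) : ℕ :=
  pack 3 5 fun k => blkIdx (app3 w (bP k))

/-- Packed images of the base points. -/
noncomputable def sigCode (w : ℕ × ℕ × ℕ) : ℕ := pack 9 3 fun k => app3 w (Nat.succ k)

theorem wit_facts : nodupB (imgWit.map imgCode) = true ∧ imgWit.length = 60 ∧
    nodupB (kerWit.map sigCode) = true ∧ kerWit.length = 32 ∧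
    allL kerWit (fun w => allBelow 5 fun k => Nat.beq (blkIdx (app3 w (bP k))) k) = true := by
  decide +kernel

theorem card_Cg : Nat.card Cg = 1920 := by
  rw [Rep.card_chainGroup _ chain_tail1]
  obtain ⟨-, -, -, -, s1, s2, s3, -⟩ := base_facts
  simp [chainSize, s1, s2, s3]

theorem range_blockHom : blockHom.range = alternatingGroup (Fin 5) := by
  refine Subgroup.eq_of_le_of_card_ge (fun s ⟨x, hx⟩ => hx ▸ blockHom_even x) ?_
  obtain ⟨hnd, hl, -⟩ := wit_facts
  rw [nat_card_alternatingGroup, Nat.card_fin]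
  norm_num
  let f : Fin imgWit.length → blockHom.range := fun i =>
    ⟨blockHom ⟨_, fac3Prod_mem imgWit[i.1]⟩, _, rfl⟩
  have hf : Function.Injective f := by
    intro i j h
    have h' := congrArg Subtype.val h
    have hc : imgCode imgWit[i.1] = imgCode imgWit[j.1] := by
      unfold imgCode
      refine pack_congr fun k hk => ?_
      have e := congrArg (fun s : Equiv.Perm (Fin 5) => (s ⟨k, hk⟩ : ℕ)) h'
      simp only [blockHom_val, fac3Prod_apply, f] at e
      exact e
    have hnd' := nodupB_spec hnd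
    exact Fin.ext ((hnd'.getElem_inj_iff (i := i.1) (j := j.1) (hi := by simp) (hj := by simp)).mp
      (by simp only [List.getElem_map]; exact hc))
  have h60 := Nat.card_le_card_of_injective f hf
  rw [Nat.card_fin, hl] at h60
  simpa [Nat.factorial] using h60

theorem card_ker_blockHom : Nat.card blockHom.ker = 32 := by
  have h := blockHom.ker.card_mul_index
  rw [Subgroup.index_ker, range_blockHom, nat_card_alternatingGroup, Nat.card_fin, card_Cg] at h
  norm_num [Nat.factorial] at h
  change Nat.card {x : Cg // blockHom x = 1} = 32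
  omega

/-- The elements of the kernel. -/
theorem exists_kerWit {x : Cg} (hx : x ∈ blockHom.ker) :
    ∃ w ∈ kerWit, (x : Equiv.Perm (Fin 315)) = fac3Prod w := by
  obtain ⟨-, -, hnd, hl, hk⟩ := wit_facts
  let f : Fin kerWit.length → blockHom.ker := fun i => ⟨⟨_, fac3Prod_mem kerWit[i.1]⟩, by
    rw [MonoidHom.mem_ker]
    ext k
    have := allBelow_eq_true.mp (allL_spec hk kerWit[i.1] (List.getElem_mem _)) k k.2
    rw [Nat.beq_eq] at this
    rw [blockHom_val, fac3Prod_apply, Equiv.Perm.one_apply]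
    exact this⟩
  have hf : Function.Injective f := by
    intro i j h
    have h' : fac3Prod kerWit[i.1] = fac3Prod kerWit[j.1] :=
      congrArg (fun y : blockHom.ker => ((y : Cg) : Equiv.Perm (Fin 315))) h
    have hc : sigCode kerWit[i.1] = sigCode kerWit[j.1] := by
      unfold sigCode
      refine pack_congr fun k hk => ?_
      have e := congrArg (fun s : Equiv.Perm (Fin 315) => (s ⟨k + 1, by omega⟩ : ℕ)) h'
      simp only [fac3Prod_apply] at e
      exact e
    have hnd' := nodupB_spec hnd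
    exact Fin.ext ((hnd'.getElem_inj_iff (i := i.1) (j := j.1) (hi := by simp) (hj := by simp)).mp
      (by simp only [List.getElem_map]; exact hc))
  have hbij : Function.Bijective f := (Nat.bijective_iff_injective_and_card f).mpr
    ⟨hf, by rw [Nat.card_fin, hl, card_ker_blockHom]⟩
  obtain ⟨i, hi⟩ := hbij.2 ⟨x, hx⟩
  exact ⟨_, List.getElem_mem i.2,
    (congrArg (fun y : blockHom.ker => ((y : Cg) : Equiv.Perm (Fin 315))) hi).symm⟩

end Cfsg.Agent.JankoTwo
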