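import Cfsg.Agent.JankoTwo.Lattice

/-!
Norms of icosians: positivity and the coordinate bounds for icosians of small norm.
-/

set_option autoImplicit false

namespace Cfsg.Agent.JankoTwo

/-- Rational trace. -/
def Zt.tr (a : Zt) : ℤ := 2 * a.u + a.v

/-- Trace of a square. -/
def Zt.tr2 (a : Zt) : ℤ := 2 * a.u * a.u + 2 * a.u * a.v + 3 * a.v * a.v

/-- Both embeddings non-negative, as a test on integers. -/
def Zt.nnB (a : Zt) : Bool := decide (0 ≤ 2 * a.u + a.v) && decide (0 ≤ a.u * a.u + a.u * a.v - a.v * a.v)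

/-- Both embeddings non-negative. -/
def Zt.NN (a : Zt) : Prop := 0 ≤ a.r ∧ 0 ≤ a.r'

theorem NN.add {a b : Zt} (ha : a.NN) (hb : b.NN) : (a.add b).NN :=
  ⟨by rw [r_add]; exact add_nonneg ha.1 hb.1, by rw [r'_add]; exact add_nonneg ha.2 hb.2⟩

theorem nnB_of_NN {a : Zt} (h : a.NN) : a.nnB = true := by
  have h1 : (0 : ℝ) ≤ a.r + a.r' := add_nonneg h.1 h.2
  have h2 : (0 : ℝ) ≤ a.r * a.r' := mul_nonneg h.1 h.2
  have e1 : a.r + a.r' = ((2 * a.u + a.v : ℤ) : ℝ) := by
    push_cast; simp only [Zt.r, Zt.r', sig_eq]; ring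
  have e2 : a.r * a.r' = ((a.u * a.u + a.u * a.v - a.v * a.v : ℤ) : ℝ) := by
    push_cast; simp only [Zt.r, Zt.r', sig_eq]
    linear_combination (-(a.v : ℝ) * a.v) * tau_sq
  rw [e1] at h1
  rw [e2] at h2
  simp only [Zt.nnB, Bool.and_eq_true, decide_eq_true_eq]
  exact ⟨by exact_mod_cast h1, by exact_mod_cast h2⟩

/-- Twice the four real components. -/
def Ico.cA (x : Ico) : Zt := ((x.a.add x.a).add x.c).sub (Zt.sg.mul x.d)
def Ico.cB (x : Ico) : Zt := ((x.b.add x.b).add (Zt.sg.mul x.c)).add x.d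
def Ico.cC (x : Ico) : Zt := ((Zt.mk 0 1).mul x.d).neg
def Ico.cD (x : Ico) : Zt := (Zt.mk 0 1).mul x.c

theorem four_nrm (x : Ico) : (Zt.ofInt 4).mul x.nrm =
    (((x.cA.mul x.cA).add (x.cB.mul x.cB)).add (x.cC.mul x.cC)).add (x.cD.mul x.cD) := by
  ext <;> simp [Ico.nrm, Ico.mul, Ico.conj, Ico.cA, Ico.cB, Ico.cC, Ico.cD, Zt.mul, Zt.add,
    Zt.sub, Zt.neg, Zt.sg, Zt.ofInt] <;> ring

theorem mul_conj_self (x : Ico) : x.mul x.conj = ⟨x.nrm, Zt.ofInt 0, Zt.ofInt 0, Zt.ofInt 0⟩ := by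
  ext <;> simp [Ico.nrm, Ico.mul, Ico.conj, Zt.mul, Zt.add, Zt.sub, Zt.neg, Zt.sg, Zt.ofInt] <;>
    ring

theorem nrm_NN (x : Ico) : x.nrm.NN := by
  have h := congrArg Zt.r (four_nrm x)
  have h' := congrArg Zt.r' (four_nrm x)
  simp only [r_mul, r_add, r_ofInt, r'_mul, r'_add] at h h'
  have e : (Zt.ofInt 4).r' = 4 := by simp [Zt.r', Zt.ofInt]
  rw [e] at h'
  push_cast at h
  constructor
  · nlinarith [mul_self_nonneg x.cA.r, mul_self_nonneg x.cB.r, mul_self_nonneg x.cC.r,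
      mul_self_nonneg x.cD.r]
  · nlinarith [mul_self_nonneg x.cA.r', mul_self_nonneg x.cB.r', mul_self_nonneg x.cC.r',
      mul_self_nonneg x.cD.r']

theorem tr2_nonneg (a : Zt) : 0 ≤ a.tr2 := by
  simp only [Zt.tr2]; nlinarith [mul_self_nonneg (2 * a.u + a.v), mul_self_nonneg a.v]

theorem four_tr (x : Ico) : 4 * x.nrm.tr = x.cA.tr2 + x.cB.tr2 + x.cC.tr2 + x.cD.tr2 := by
  have h := congrArg Zt.tr (four_nrm x)
  simp only [Zt.tr, Zt.mul, Zt.add, Zt.ofInt] at h
  simp only [Zt.tr, Zt.tr2]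
  linarith

theorem tr_nonneg (x : Ico) : 0 ≤ x.nrm.tr := by
  have := four_tr x
  have := tr2_nonneg x.cA; have := tr2_nonneg x.cB; have := tr2_nonneg x.cC; have := tr2_nonneg x.cD
  omega

/-- The pairs with small trace of square. -/
def boxZ : List Zt :=
  (List.range 9).flatMap fun (i : ℕ) => ((List.range 7).map fun (j : ℕ) => (⟨(i : ℤ) - 4, (j : ℤ) - 3⟩ : Zt)).filter
    fun a => decide (a.tr2 ≤ 32)

theorem mem_boxZ {a : Zt} (h : a.tr2 ≤ 32) : a ∈ boxZ := by
  obtain ⟨u, v⟩ := a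
  simp only [Zt.tr2] at h
  have hv1 : -3 ≤ v := by nlinarith [mul_self_nonneg (2 * u + v)]
  have hv2 : v ≤ 3 := by nlinarith [mul_self_nonneg (2 * u + v)]
  have hu1 : -4 ≤ u := by nlinarith [mul_self_nonneg (u + 3 * v)]
  have hu2 : u ≤ 4 := by nlinarith [mul_self_nonneg (u + 3 * v)]
  simp only [boxZ, List.mem_flatMap, List.mem_filter, List.mem_map, List.mem_range, decide_eq_true_eq]
  refine ⟨(u + 4).toNat, by omega, ⟨(v + 3).toNat, by omega, ?_⟩, by simp only [Zt.tr2]; exact h⟩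
  rw [Int.toNat_of_nonneg (by omega), Int.toNat_of_nonneg (by omega)]
  ext <;> simp

/-- Run a test on all members of a list. -/
noncomputable def allL {α : Type} (l : List α) (f : α → Bool) : Bool :=
  List.rec (motive := fun _ => Bool) true (fun x _ r => f x && r) l

theorem allL_spec {α : Type} {l : List α} {f : α → Bool} (h : allL l f = true) :
    ∀ x ∈ l, f x = true := by
  induction l with
  | nil => intro x hx; simp at hx
  | cons a l ih =>
    rw [show allL (a :: l) f = (f a && allL l f) from rfl, Bool.and_eq_true] at h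
    intro x hx
    rcases List.mem_cons.mp hx with rfl | hx
    · exact h.1
    · exact ih h.2 x hx

/-- Run a test on every icosian of trace norm at most 8 with given last component. -/
noncomputable def allSmallAt (f : Ico → Bool) (C : Zt) : Bool :=
  allL boxZ fun D =>
    decide (32 < C.tr2 + D.tr2) ||
      (let d := C.mul Zt.sg
       let c := (D.mul Zt.sg).neg
       let sA := c.sub (Zt.sg.mul d)
       let sB := (Zt.sg.mul c).add d
       allL boxZ fun A =>
        decide (32 < C.tr2 + D.tr2 + A.tr2) || decide ((A.u - sA.u) % 2 ≠ 0) ||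
          decide ((A.v - sA.v) % 2 ≠ 0) ||
          allL boxZ fun B =>
            decide (32 < C.tr2 + D.tr2 + A.tr2 + B.tr2) || decide ((B.u - sB.u) % 2 ≠ 0) ||
              decide ((B.v - sB.v) % 2 ≠ 0) ||
              f ⟨⟨(A.u - sA.u) / 2, (A.v - sA.v) / 2⟩, ⟨(B.u - sB.u) / 2, (B.v - sB.v) / 2⟩, c, d⟩)

/-- Run a test on every icosian of trace norm at most 8. -/
noncomputable def allSmall (f : Ico → Bool) : Bool := allL boxZ (allSmallAt f)

theorem allL_of_getD {α : Type} {l : List α} {f : α → Bool} (d : α)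
    (h : ∀ k < l.length, f (l.getD k d) = true) : allL l f = true := by
  induction l with
  | nil => rfl
  | cons a l ih =>
    rw [show allL (a :: l) f = (f a && allL l f) from rfl, Bool.and_eq_true]
    refine ⟨h 0 (by simp), ih fun k hk => ?_⟩
    have := h (k + 1) (by simpa using hk)
    simpa using this

theorem allSmall_spec {f : Ico → Bool} (h : allSmall f = true) {x : Ico} (hx : x.nrm.tr ≤ 8) :
    f x = true := by
  have h4 := four_tr x
  have hA := tr2_nonneg x.cA; have hB := tr2_nonneg x.cB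
  have hC := tr2_nonneg x.cC; have hD := tr2_nonneg x.cD
  have hd : x.cC.mul Zt.sg = x.d := by
    ext <;> simp [Ico.cC, Zt.mul, Zt.neg, Zt.sg]
  have hc : (x.cD.mul Zt.sg).neg = x.c := by
    ext <;> simp [Ico.cD, Zt.mul, Zt.neg, Zt.sg]
  have hD0 := allL_spec h x.cC (mem_boxZ (by omega))
  unfold allSmallAt at hD0
  have hD' := allL_spec hD0 x.cD (mem_boxZ (by omega))
  simp only [Bool.or_eq_true, decide_eq_true_eq, hd, hc] at hD'
  rcases hD' with h1 | h1
  · omega
  have hA' := allL_spec h1 x.cA (mem_boxZ (by omega))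
  simp only [Bool.or_eq_true, decide_eq_true_eq] at hA'
  have eA : x.cA.u - (x.c.sub (Zt.sg.mul x.d)).u = 2 * x.a.u ∧
      x.cA.v - (x.c.sub (Zt.sg.mul x.d)).v = 2 * x.a.v := by
    simp only [Ico.cA, Zt.add, Zt.sub]; constructor <;> ring
  have eB : x.cB.u - ((Zt.sg.mul x.c).add x.d).u = 2 * x.b.u ∧
      x.cB.v - ((Zt.sg.mul x.c).add x.d).v = 2 * x.b.v := by
    simp only [Ico.cB, Zt.add]; constructor <;> ring
  rw [eA.1, eA.2] at hA'
  rcases hA' with ((h2 | h2) | h2) | h2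
  · omega
  · omega
  · omega
  have hB' := allL_spec h2 x.cB (mem_boxZ (by omega))
  simp only [Bool.or_eq_true, decide_eq_true_eq, eB.1, eB.2] at hB'
  rcases hB' with ((h3 | h3) | h3) | h3
  · omega
  · omega
  · omega
  · rwa [Int.mul_ediv_cancel_left _ two_ne_zero, Int.mul_ediv_cancel_left _ two_ne_zero,
      Int.mul_ediv_cancel_left _ two_ne_zero, Int.mul_ediv_cancel_left _ two_ne_zero] at h3

end Cfsg.Agent.JankoTwo
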