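import Cfsg.Agent.JankoTwo.Group

/-!
The centre of `2·J₂` is `{1, -1}`.
-/

set_option autoImplicit false

namespace Cfsg.Agent.JankoTwo

open Cfsg.Spor Quaternion Cfsg.Agent.Compute

/-- The axes with coordinates `(1, e, *)`. -/
def unitPairAxes : List ℕ := [0, 15, 24, 27, 40, 43, 49, 63]

/-- The shapes used to show that central elements are scalar. -/
noncomputable def shapeCheck : Bool :=
  allL unitPairAxes (fun i => Nat.blt i 315 && (axI i).x.beq (Ico.ofInt 1)) &&
    (axI 49).y.beq (Ico.ofInt 1) && (axI 18).x.beq (Ico.ofInt 1) && (axI 18).z.beq (Ico.ofInt 1)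

/-- Only `±1` among the units commute with the listed coordinates. -/
noncomputable def commCheck : Bool :=
  allBelow 120 fun u =>
    let c := unitI u
    !(allL unitPairAxes fun i => (((axI i).y.mul c).beq (c.mul (axI i).y))) ||
      c.beq (Ico.ofInt 1) || c.beq (Ico.ofInt 1).neg

theorem shapeCheck_ok : shapeCheck = true := by decide +kernel

set_option maxHeartbeats 0 in
theorem commCheck_ok : commCheck = true := by decide +kernel

theorem allL_eq_true {α : Type} {l : List α} {f : α → Bool} (h : ∀ x ∈ l, f x = true) :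
    allL l f = true := by
  induction l with
  | nil => rfl
  | cons a l ih =>
    rw [show allL (a :: l) f = (f a && allL l f) from rfl, Bool.and_eq_true]
    exact ⟨h a (by simp), ih fun x hx => h x (by simp [hx])⟩

/-- A scaled basis vector. -/
noncomputable def twoP (t : Fin 3) : icoLeech := (twoE t).pt (twoE_lat t)

theorem twoP_coe (t : Fin 3) : (twoP t : Fin 3 → ℍ[ℝ]) = fun s => if s = t then 2 else 0 := by
  funext s
  fin_cases t <;> fin_cases s <;> simp [twoP, V3.pt, V3.q, twoE]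

theorem twoP_norm (t : Fin 3) : qip (twoP t : Fin 3 → ℍ[ℝ]) (twoP t) = 4 := by
  rw [twoP_coe]
  fin_cases t <;> simp [qip, Fin.sum_univ_three, show star (2 : ℍ[ℝ]) = 2 from star_ofNat 2] <;>
    norm_num

theorem two_inj {x y : ℍ[ℝ]} (h : 2 * x = 2 * y) : x = y :=
  smul_right_injective (ℍ[ℝ]) (two_ne_zero (α := ℝ)) (by simpa [two_smul, two_mul] using h)

/-- An element commuting with all reflections scales each axis by a unit. -/
theorem central_axis {g : Equiv.Perm icoLeech} (hg : IsLin g)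
    (hc : ∀ i, g * refl315 i = refl315 i * g) (i : Fin 315) :
    ∃ u : Fin 120, (g (axP i) : Fin 3 → ℍ[ℝ]) = fun t => unitQ u * (axP i : Fin 3 → ℍ[ℝ]) t := by
  obtain ⟨u, j, hj⟩ := exists_axis (g (axP i)).2 (hg.norm_eq (axP_norm i))
  have h1 := conj_reflPerm hg (axP_norm i)
  rw [show reflPerm (axP i) (axP_norm i) = refl315 i from rfl, hc i, mul_inv_cancel_right,
    refl_eq_of_unit u _ hj] at h1
  obtain rfl := refl315_injective h1
  exact ⟨u, hj⟩

theorem central_diag {g : Equiv.Perm icoLeech} (hg : IsLin g)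
    (hc : ∀ i, g * refl315 i = refl315 i * g) :
    ∃ c : Fin 3 → ℍ[ℝ], ∀ x : icoLeech,
      (g x : Fin 3 → ℍ[ℝ]) = fun t => (x : Fin 3 → ℍ[ℝ]) t * c t := by
  have hsc : ∀ t : Fin 3, ∃ c : ℍ[ℝ],
      (g (twoP t) : Fin 3 → ℍ[ℝ]) = fun s => c * (twoP t : Fin 3 → ℍ[ℝ]) s := by
    intro t
    obtain ⟨e, i, hi⟩ := exists_axis (twoP t).2 (twoP_norm t)
    obtain ⟨u, hu⟩ := central_axis hg hc i
    refine ⟨unitQ e * unitQ u * star (unitQ e), ?_⟩
    rw [hg.smul _ (unitQ_mem e) (axP i) (twoP t) hi, hu, hi]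
    funext s
    simp only [mul_assoc]
    rw [← mul_assoc (star (unitQ e)), star_unitQ_mul, one_mul]
  choose c hcs using hsc
  refine ⟨c, fun x => ?_⟩
  obtain ⟨xv, hx⟩ := x
  let p : Fin 3 → icoLeech := fun t => ⟨_, icoLeech_smul (hx.1 t) (twoP t).2⟩
  let s01 : icoLeech := ⟨_, icoLeech_add (p 0).2 (p 1).2⟩
  let tot : icoLeech := ⟨_, icoLeech_add s01.2 (p 2).2⟩
  have hp : ∀ t, (g (p t) : Fin 3 → ℍ[ℝ]) = fun s => xv t * (c t * (twoP t : Fin 3 → ℍ[ℝ]) s) := by
    intro t
    rw [hg.smul _ (hx.1 t) (twoP t) (p t) rfl, hcs t]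
  have htwo : (tot : Fin 3 → ℍ[ℝ]) = fun s => 2 * xv s := by
    funext s
    change (p 0 : Fin 3 → ℍ[ℝ]) s + (p 1 : Fin 3 → ℍ[ℝ]) s + (p 2 : Fin 3 → ℍ[ℝ]) s = _
    fin_cases s <;> simp [p, twoP_coe, two_mul_comm]
  have h2 := hg.smul 2 (ofNat_mem icosians 2) ⟨xv, hx⟩ tot htwo
  rw [hg.add s01 (p 2) tot rfl, hg.add (p 0) (p 1) s01 rfl, hp, hp, hp] at h2
  funext s
  have := congrFun h2 s
  apply two_inj
  rw [← this]
  fin_cases s <;> simp [twoP_coe, ← two_mul_comm, ← mul_assoc]

/-- An element commuting with all reflections is `±1`. -/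
theorem central_cases {g : Equiv.Perm icoLeech} (hg : IsLin g)
    (hc : ∀ i, g * refl315 i = refl315 i * g) :
    (∀ x : icoLeech, (g x : Fin 3 → ℍ[ℝ]) = x) ∨
      ∀ x : icoLeech, (g x : Fin 3 → ℍ[ℝ]) = -(x : Fin 3 → ℍ[ℝ]) := by
  obtain ⟨c, hd⟩ := central_diag hg hc
  have hs := shapeCheck_ok
  simp only [shapeCheck, Bool.and_eq_true, ico_beq_iff] at hs
  obtain ⟨⟨⟨hl, h49⟩, h18x⟩, h18z⟩ := hs
  have hpair : ∀ i ∈ unitPairAxes, ∃ hi : i < 315, (axI i).x = Ico.ofInt 1 := by
    intro i hi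
    have := allL_spec hl i hi
    simpa [Nat.blt_eq, ico_beq_iff] using this
  have key : ∀ i : Fin 315, (axI i).x = Ico.ofInt 1 → ∃ u : Fin 120, c 0 = unitQ u ∧
      (axI i).y.q * c 1 = c 0 * (axI i).y.q ∧ (axI i).z.q * c 2 = c 0 * (axI i).z.q := by
    intro i hi
    obtain ⟨u, hu⟩ := central_axis hg hc i
    rw [hd, axP_coe] at hu
    have h0 := congrFun hu 0
    have h1 := congrFun hu 1
    have h2 := congrFun hu 2
    simp only [V3.q, Matrix.cons_val, hi, q_ofInt, Int.cast_one, one_mul, mul_one] at h0 h1 h2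
    exact ⟨u, h0, by rw [h0]; exact h1, by rw [h0]; exact h2⟩
  obtain ⟨hb, hx49⟩ := hpair 49 (by decide)
  obtain ⟨u, hu, h1, -⟩ := key ⟨49, hb⟩ hx49
  obtain ⟨-, -, -, h2⟩ := key ⟨18, by norm_num⟩ h18x
  rw [h49, q_ofInt, Int.cast_one, one_mul, mul_one] at h1
  rw [h18z, q_ofInt, Int.cast_one, one_mul, mul_one] at h2
  have hu' := allBelow_eq_true.mp commCheck_ok u u.2
  have hall : allL unitPairAxes
      (fun i => (((axI i).y.mul (unitI u)).beq ((unitI u).mul (axI i).y))) = true :=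
    allL_eq_true fun i hi => by
      obtain ⟨hi315, hix⟩ := hpair i hi
      obtain ⟨-, -, h, -⟩ := key ⟨i, hi315⟩ hix
      rw [h1, hu] at h
      refine ico_beq_iff.mpr (q_inj ?_)
      simpa [unitQ] using h
  simp only [hall, Bool.not_true, Bool.false_or, Bool.or_eq_true, ico_beq_iff] at hu'
  have hct : ∀ t, c t = c 0 := fun t => by fin_cases t <;> simp [h1, h2]
  rcases hu' with h | h
  · left
    intro x
    rw [hd]; funext t
    rw [hct, hu, unitQ, h, q_ofInt, Int.cast_one, mul_one]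
  · right
    intro x
    rw [hd]; funext t
    rw [hct, hu, unitQ, h, q_neg, q_ofInt, Int.cast_one, mul_neg, mul_one, Pi.neg_apply]

/-- The reflection in a scaled basis vector. -/
noncomputable def flip3 (t : Fin 3) : twoJ2 :=
  ⟨reflPerm (twoP t) (twoP_norm t), Subgroup.subset_closure (isIcoReflection_reflPerm _ _)⟩

theorem flip3_apply (t : Fin 3) (x : icoLeech) (s : Fin 3) :
    ((flip3 t : Equiv.Perm icoLeech) x : Fin 3 → ℍ[ℝ]) s =
      if s = t then -(x : Fin 3 → ℍ[ℝ]) s else (x : Fin 3 → ℍ[ℝ]) s := by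
  have hip : qip (x : Fin 3 → ℍ[ℝ]) (twoP t) = (x : Fin 3 → ℍ[ℝ]) t * 2 := by
    rw [twoP_coe]
    fin_cases t <;> simp [qip, Fin.sum_univ_three, show star (2 : ℍ[ℝ]) = 2 from star_ofNat 2]
  simp only [flip3, reflPerm_apply, qrefl, hip]
  simp only [twoP_coe]
  split_ifs with h
  · subst h
    rw [smul_mul_assoc, mul_assoc, show (2 : ℍ[ℝ]) * 2 = 4 by norm_num, four_eq, mul_smul_comm,
      mul_one, smul_smul]
    module
  · simp

/-- The element `-1`. -/
noncomputable def negOne : twoJ2 := flip3 0 * flip3 1 * flip3 2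

theorem negOne_apply (x : icoLeech) :
    ((negOne : Equiv.Perm icoLeech) x : Fin 3 → ℍ[ℝ]) = -(x : Fin 3 → ℍ[ℝ]) := by
  funext s
  simp only [negOne, Subgroup.coe_mul, Equiv.Perm.mul_apply, flip3_apply, Pi.neg_apply]
  fin_cases s <;> simp

theorem negOne_mem_center : negOne ∈ Subgroup.center twoJ2 := by
  rw [Subgroup.mem_center_iff]
  intro g
  apply Subtype.ext
  ext x : 1
  apply Subtype.ext
  have hn : ((negOne : Equiv.Perm icoLeech) x : Fin 3 → ℍ[ℝ]) =
      fun t => -1 * (x : Fin 3 → ℍ[ℝ]) t := by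
    rw [negOne_apply]; funext t; simp
  rw [Subgroup.coe_mul, Subgroup.coe_mul, Equiv.Perm.mul_apply, Equiv.Perm.mul_apply,
    negOne_apply, (isLin_of_mem g.2).smul _ (neg_mem (one_mem icosians)) x _ hn]
  funext t; simp

theorem negOne_ne_one : negOne ≠ 1 := by
  intro h
  have := congrFun (negOne_apply (twoP 0)) 0
  rw [h, OneMemClass.coe_one, Equiv.Perm.one_apply, Pi.neg_apply, twoP_coe] at this
  simp only [if_true] at this
  have h4 := eq_neg_iff_add_eq_zero.mp this
  rw [show (2 : ℍ[ℝ]) + 2 = 4 by norm_num, four_eq] at h4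
  have := congrArg (·.re) h4
  simp at this

theorem center_cases {z : twoJ2} (hz : z ∈ Subgroup.center twoJ2) : z = 1 ∨ z = negOne := by
  have hc : ∀ i, (z : Equiv.Perm icoLeech) * refl315 i = refl315 i * z := fun i =>
    (congrArg Subtype.val (Subgroup.mem_center_iff.mp hz ⟨refl315 i, refl315_mem i⟩)).symm
  rcases central_cases (isLin_of_mem z.2) hc with h | h
  · left; apply Subtype.ext; ext x : 1; exact Subtype.ext (h x)
  · right; apply Subtype.ext; ext x : 1
    exact Subtype.ext (by rw [h, negOne_apply])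

theorem card_center : Nat.card (Subgroup.center twoJ2) = 2 := by
  have h : (Subgroup.center twoJ2 : Set twoJ2) = {1, negOne} := by
    ext z
    constructor
    · intro hz; simpa using center_cases hz
    · rintro (rfl | rfl)
      · exact one_mem _
      · exact negOne_mem_center
  rw [← SetLike.coe_sort_coe, Nat.card_coe_set_eq, h, Set.ncard_pair (Ne.symm negOne_ne_one)]

theorem card_twoJ2 : Nat.card twoJ2 = 1209600 := by
  rw [Subgroup.card_eq_card_quotient_mul_card_subgroup (Subgroup.center twoJ2), card_center]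
  change Nat.card J2 * 2 = _
  rw [card_J2]

end Cfsg.Agent.JankoTwo
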