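import Cfsg.Agent.JankoTwo.EnumDefs
import Cfsg.Agent.JankoTwo.Chunks

/-! Kernel evaluation: decompositions of small icosians, units and axes. -/

set_option autoImplicit false
set_option maxHeartbeats 0

namespace Cfsg.Agent.JankoTwo

open Cfsg.Agent.Compute

theorem smallTable_length : smallTable.length = 9 := by decide +kernel

theorem certParts_0 : allRange 0 1 (fun k => certRow (smallTable.getD k (⟨0, 0⟩, []))) = true := by decide +kernel

theorem certParts_1 : allRange 1 1 (fun k => certRow (smallTable.getD k (⟨0, 0⟩, []))) = true := by decide +kernel

theorem certParts_2 : allRange 2 1 (fun k => certRow (smallTable.getD k (⟨0, 0⟩, []))) = true := by decide +kernel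

theorem certParts_3 : allRange 3 1 (fun k => certRow (smallTable.getD k (⟨0, 0⟩, []))) = true := by decide +kernel

theorem certParts_4 : allRange 4 1 (fun k => certRow (smallTable.getD k (⟨0, 0⟩, []))) = true := by decide +kernel

theorem certParts_5 : allRange 5 1 (fun k => certRow (smallTable.getD k (⟨0, 0⟩, []))) = true := by decide +kernel

theorem certParts_6 : allRange 6 1 (fun k => certRow (smallTable.getD k (⟨0, 0⟩, []))) = true := by decide +kernel

theorem certParts_7 : allRange 7 1 (fun k => certRow (smallTable.getD k (⟨0, 0⟩, []))) = true := by decide +kernel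

theorem certParts_8 : allRange 8 1 (fun k => certRow (smallTable.getD k (⟨0, 0⟩, []))) = true := by decide +kernel

theorem certParts : allBelow 9 (fun k => certRow (smallTable.getD k (⟨0, 0⟩, []))) = true := by
  refine allBelow_step (a := 8) (b := 1) (by norm_num) ?_ certParts_8
  refine allBelow_step (a := 7) (b := 1) (by norm_num) ?_ certParts_7
  refine allBelow_step (a := 6) (b := 1) (by norm_num) ?_ certParts_6
  refine allBelow_step (a := 5) (b := 1) (by norm_num) ?_ certParts_5
  refine allBelow_step (a := 4) (b := 1) (by norm_num) ?_ certParts_4
  refine allBelow_step (a := 3) (b := 1) (by norm_num) ?_ certParts_3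
  refine allBelow_step (a := 2) (b := 1) (by norm_num) ?_ certParts_2
  refine allBelow_step (a := 1) (b := 1) (by norm_num) ?_ certParts_1
  refine allBelow_step (a := 0) (b := 1) (by norm_num) ?_ certParts_0
  exact allBelow_zero _

theorem certCheck_ok : certCheck = true :=
  allL_of_getD (⟨0, 0⟩, []) fun k hk => allBelow_eq_true.mp certParts k (smallTable_length ▸ hk)

theorem unitCheck_ok : unitCheck = true := by decide +kernel

theorem axisCheck_ok : axisCheck = true := by decide +kernel

theorem zeroCheck_ok : zeroCheck = true := by decide +kernel

end Cfsg.Agent.JankoTwo
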