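import Cfsg.Agent.JankoTwo.EnumDefs
import Cfsg.Agent.JankoTwo.Chunks

/-! Kernel evaluation: the enumeration of normalised minimal vectors. -/

set_option autoImplicit false
set_option maxHeartbeats 0

namespace Cfsg.Agent.JankoTwo

open Cfsg.Agent.Compute

theorem loopParts_0 : allRange 0 4 (fun r => loopAt r) = true := by decide +kernel

theorem loopParts_4 : allRange 4 4 (fun r => loopAt r) = true := by decide +kernel

theorem loopParts_8 : allRange 8 4 (fun r => loopAt r) = true := by decide +kernel

theorem loopParts_12 : allRange 12 4 (fun r => loopAt r) = true := by decide +kernel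

theorem loopParts_16 : allRange 16 4 (fun r => loopAt r) = true := by decide +kernel

theorem loopParts_20 : allRange 20 4 (fun r => loopAt r) = true := by decide +kernel

theorem loopParts_24 : allRange 24 4 (fun r => loopAt r) = true := by decide +kernel

theorem loopParts_28 : allRange 28 4 (fun r => loopAt r) = true := by decide +kernel

theorem loopParts_32 : allRange 32 4 (fun r => loopAt r) = true := by decide +kernel

theorem loopParts_36 : allRange 36 4 (fun r => loopAt r) = true := by decide +kernel

theorem loopParts_40 : allRange 40 4 (fun r => loopAt r) = true := by decide +kernel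

theorem loopParts_44 : allRange 44 4 (fun r => loopAt r) = true := by decide +kernel

theorem loopParts_48 : allRange 48 3 (fun r => loopAt r) = true := by decide +kernel

theorem loopParts : allBelow 51 (fun r => loopAt r) = true := by
  refine allBelow_step (a := 48) (b := 3) (by norm_num) ?_ loopParts_48
  refine allBelow_step (a := 44) (b := 4) (by norm_num) ?_ loopParts_44
  refine allBelow_step (a := 40) (b := 4) (by norm_num) ?_ loopParts_40
  refine allBelow_step (a := 36) (b := 4) (by norm_num) ?_ loopParts_36
  refine allBelow_step (a := 32) (b := 4) (by norm_num) ?_ loopParts_32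
  refine allBelow_step (a := 28) (b := 4) (by norm_num) ?_ loopParts_28
  refine allBelow_step (a := 24) (b := 4) (by norm_num) ?_ loopParts_24
  refine allBelow_step (a := 20) (b := 4) (by norm_num) ?_ loopParts_20
  refine allBelow_step (a := 16) (b := 4) (by norm_num) ?_ loopParts_16
  refine allBelow_step (a := 12) (b := 4) (by norm_num) ?_ loopParts_12
  refine allBelow_step (a := 8) (b := 4) (by norm_num) ?_ loopParts_8
  refine allBelow_step (a := 4) (b := 4) (by norm_num) ?_ loopParts_4
  refine allBelow_step (a := 0) (b := 4) (by norm_num) ?_ loopParts_0
  exact allBelow_zero _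

theorem loopA_ok : loopA = true :=
  allL_of_getD 0 fun k hk => by
    have hk' : k < 51 := by simpa using hk
    rw [List.getD_eq_getElem _ _ hk, List.getElem_range]
    exact allBelow_eq_true.mp loopParts k hk'

theorem loopB_ok : loopB = true := by decide +kernel

end Cfsg.Agent.JankoTwo
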