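import Cfsg.Agent.JankoTwo.Lattice

/-!
The icosian Leech lattice as a left module over the icosians, the Hermitian product, and the
quaternionic reflections.
-/

set_option autoImplicit false

namespace Cfsg.Agent.JankoTwo

open Cfsg.Spor Quaternion

theorem leftIdeal_zero (q : ℍ[ℝ]) : (0 : ℍ[ℝ]) ∈ leftIdeal q := ⟨0, zero_mem _, (zero_mul q).symm⟩

theorem leftIdeal_add {q x y : ℍ[ℝ]} (hx : x ∈ leftIdeal q) (hy : y ∈ leftIdeal q) :
    x + y ∈ leftIdeal q := by
  obtain ⟨a, ha, rfl⟩ := hx; obtain ⟨b, hb, rfl⟩ := hy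
  exact ⟨a + b, add_mem ha hb, (add_mul a b q).symm⟩

theorem leftIdeal_mul {q x c : ℍ[ℝ]} (hc : c ∈ icosians) (hx : x ∈ leftIdeal q) :
    c * x ∈ leftIdeal q := by
  obtain ⟨a, ha, rfl⟩ := hx
  exact ⟨c * a, mul_mem hc ha, (mul_assoc c a q).symm⟩

theorem icoLeech_zero : (0 : Fin 3 → ℍ[ℝ]) ∈ icoLeech :=
  ⟨fun _ => zero_mem _, by simpa using leftIdeal_zero _, by simpa using leftIdeal_zero _,
    by simpa using leftIdeal_zero _⟩

theorem icoLeech_add {v w : Fin 3 → ℍ[ℝ]} (hv : v ∈ icoLeech) (hw : w ∈ icoLeech) :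
    v + w ∈ icoLeech := by
  refine ⟨fun t => add_mem (hv.1 t) (hw.1 t), ?_, ?_, ?_⟩
  · convert leftIdeal_add hv.2.1 hw.2.1 using 1; simp only [Pi.add_apply]; abel
  · convert leftIdeal_add hv.2.2.1 hw.2.2.1 using 1; simp only [Pi.add_apply]; abel
  · convert leftIdeal_add hv.2.2.2 hw.2.2.2 using 1; simp only [Pi.add_apply]; abel

theorem icoLeech_smul {c : ℍ[ℝ]} (hc : c ∈ icosians) {v : Fin 3 → ℍ[ℝ]} (hv : v ∈ icoLeech) :
    (fun t => c * v t) ∈ icoLeech := by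
  refine ⟨fun t => mul_mem hc (hv.1 t), ?_, ?_, ?_⟩
  · convert leftIdeal_mul hc hv.2.1 using 1; rw [mul_sub]
  · convert leftIdeal_mul hc hv.2.2.1 using 1; rw [mul_sub]
  · convert leftIdeal_mul hc hv.2.2.2 using 1; rw [mul_add, mul_add]

theorem icoLeech_neg {v : Fin 3 → ℍ[ℝ]} (hv : v ∈ icoLeech) : -v ∈ icoLeech := by
  convert icoLeech_smul (neg_mem (one_mem icosians)) hv using 1
  funext t; simp

theorem icoLeech_sub {v w : Fin 3 → ℍ[ℝ]} (hv : v ∈ icoLeech) (hw : w ∈ icoLeech) :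
    v - w ∈ icoLeech := by
  rw [sub_eq_add_neg]; exact icoLeech_add hv (icoLeech_neg hw)

theorem lat_smul {v : V3} (a : Ico) (h : v.lat = true) : (v.smul a).lat = true := by
  rw [lat_iff] at h ⊢
  rw [v3_q_smul]
  exact icoLeech_smul (q_mem a) h

theorem ico_mul_assoc (a b c : Ico) : (a.mul b).mul c = a.mul (b.mul c) :=
  q_inj (by simp [mul_assoc])

theorem ico_one_mul (a : Ico) : (Ico.ofInt 1).mul a = a := q_inj (by simp)

theorem ico_zero_mul (a : Ico) : (Ico.ofInt 0).mul a = Ico.ofInt 0 := q_inj (by simp)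

theorem ico_mul_zero (a : Ico) : a.mul (Ico.ofInt 0) = Ico.ofInt 0 := q_inj (by simp)

theorem smul_smul_v3 (a b : Ico) (v : V3) : (v.smul b).smul a = v.smul (a.mul b) := by
  simp [V3.smul, ico_mul_assoc]

theorem one_smul_v3 (v : V3) : v.smul (Ico.ofInt 1) = v := by simp [V3.smul, ico_one_mul]

theorem qip_smul (a b : ℍ[ℝ]) (x y : Fin 3 → ℍ[ℝ]) :
    qip (fun t => a * x t) (fun t => b * y t) = a * qip x y * star b := by
  simp [qip, Finset.mul_sum, Finset.sum_mul, mul_assoc]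

theorem qip_add_left (x y z : Fin 3 → ℍ[ℝ]) : qip (x + y) z = qip x z + qip y z := by
  simp [qip, add_mul, Finset.sum_add_distrib]

theorem qip_sub_left (x y z : Fin 3 → ℍ[ℝ]) : qip (x - y) z = qip x z - qip y z := by
  simp [qip, sub_mul, Finset.sum_sub_distrib]

theorem qip_smul_left (a : ℍ[ℝ]) (x z : Fin 3 → ℍ[ℝ]) :
    qip (fun t => a * x t) z = a * qip x z := by
  simp [qip, Finset.mul_sum, mul_assoc]

theorem star_qip (x y : Fin 3 → ℍ[ℝ]) : star (qip x y) = qip y x := by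
  simp [qip, star_sum, star_mul, star_star]

theorem qip_sub_right (x y z : Fin 3 → ℍ[ℝ]) : qip z (x - y) = qip z x - qip z y := by
  rw [← star_qip, qip_sub_left, star_sub, star_qip, star_qip]

theorem qrefl_add (r x y : Fin 3 → ℍ[ℝ]) : qrefl r (x + y) = qrefl r x + qrefl r y := by
  funext t
  simp only [qrefl, qip_add_left, Pi.add_apply, smul_add, add_mul]
  abel

theorem qrefl_smul (r x : Fin 3 → ℍ[ℝ]) (a : ℍ[ℝ]) :
    qrefl r (fun t => a * x t) = fun t => a * qrefl r x t := by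
  funext t
  simp only [qrefl, qip_smul_left, mul_sub, smul_mul_assoc, mul_smul_comm, mul_assoc]

theorem four_eq : (4 : ℍ[ℝ]) = (4 : ℝ) • 1 := by
  rw [← Algebra.algebraMap_eq_smul_one, map_ofNat]

theorem half_four : ((1 / 2 : ℝ) • (4 : ℍ[ℝ])) = 2 := by
  rw [four_eq, smul_smul, show (1 / 2 : ℝ) * 4 = 2 by norm_num, ← Algebra.algebraMap_eq_smul_one,
    map_ofNat]

theorem qrefl_self {r : Fin 3 → ℍ[ℝ]} (hr : qip r r = 4) : qrefl r r = -r := by
  funext t
  rw [qrefl, hr, half_four, Pi.neg_apply, two_mul, sub_add_cancel_left]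

theorem qrefl_qrefl {r : Fin 3 → ℍ[ℝ]} (hr : qip r r = 4) (x : Fin 3 → ℍ[ℝ]) :
    qrefl r (qrefl r x) = x := by
  have hs : qrefl r x = x - (fun t => ((1 / 2 : ℝ) • qip x r) * r t) := rfl
  funext t
  rw [hs, sub_eq_add_neg, qrefl_add, Pi.add_apply]
  have hn : (-fun t => ((1 / 2 : ℝ) • qip x r) * r t) =
      fun t => (-((1 / 2 : ℝ) • qip x r)) * r t := by funext t; simp
  rw [hn, qrefl_smul, qrefl_self hr]
  simp [qrefl]

theorem qip_qrefl {r : Fin 3 → ℍ[ℝ]} (hr : qip r r = 4) (x y : Fin 3 → ℍ[ℝ]) :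
    qip (qrefl r x) (qrefl r y) = qip x y := by
  have hs : ∀ x, qrefl r x = x - (fun t => ((1 / 2 : ℝ) • qip x r) * r t) := fun _ => rfl
  rw [hs, hs, qip_sub_left, qip_sub_right, qip_sub_right, qip_smul, qip_smul_left]
  conv_lhs => enter [1, 2]; rw [← star_qip, qip_smul_left]
  rw [hr]
  have h4 : ∀ a b : ℍ[ℝ], ((1 / 2 : ℝ) • a) * 4 * star ((1 / 2 : ℝ) • b) = a * star b := by
    intro a b
    rw [Quaternion.star_smul, smul_mul_assoc, mul_smul_comm, smul_mul_assoc, smul_smul]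
    have : a * 4 * star b = (4 : ℝ) • (a * star b) := by
      rw [four_eq, mul_smul_comm, mul_one, smul_mul_assoc]
    rw [this, smul_smul]
    norm_num
  rw [h4, star_mul, Quaternion.star_smul, star_qip, star_qip, mul_smul_comm, smul_mul_assoc]
  module

end Cfsg.Agent.JankoTwo
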