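import Cfsg.Agent.JankoTwo.EnumCheckA
import Cfsg.Agent.JankoTwo.EnumCheckB
import Cfsg.Agent.JankoTwo.EnumCheckC
import Cfsg.Agent.JankoTwo.Module

/-!
The minimal vectors of the icosian Leech lattice are the unit multiples of 315 axes.
-/

set_option autoImplicit false

namespace Cfsg.Agent.JankoTwo

open Cfsg.Spor Quaternion

/-- The 315 axes. -/
def axesL : List V3 := axisCodes.map V3.ofCodes

theorem zero_of_nrm {x : Ico} (h : x.nrm = Zt.ofInt 0) : x = Ico.ofInt 0 := by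
  apply q_inj
  have h1 : x.mul x.conj = Ico.ofInt 0 := by rw [mul_conj_self, h]; rfl
  have h2 := congrArg Ico.q h1
  rw [q_mul, q_conj, q_ofInt, Int.cast_zero] at h2
  rw [q_ofInt, Int.cast_zero]
  rcases mul_eq_zero.mp h2 with h3 | h3
  · exact h3
  · exact star_eq_zero.mp h3

theorem unit_conj_mul {j : ℕ} (hj : j < 120) :
    (unitI j).conj.mul (unitI j) = Ico.ofInt 1 ∧ (unitI j).mul (unitI j).conj = Ico.ofInt 1 := by
  have h := allL_spec unitCheck_ok j (List.mem_range.mpr hj)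
  simpa only [Bool.and_eq_true, ico_beq_iff] using h

theorem axis_spec {a : V3} (ha : a ∈ axesL) : a.lat = true ∧ a.ip a = Ico.ofInt 4 := by
  obtain ⟨p, hp, rfl⟩ := List.mem_map.mp ha
  have h := allL_spec axisCheck_ok p hp
  simpa only [Bool.and_eq_true, ico_beq_iff] using h

/-- A small icosian is in the table and decomposes. -/
theorem small_cases {x : Ico} (h : ((Zt.ofInt 4).sub x.nrm).nnB = true) (h8 : x.nrm.tr ≤ 8) :
    tableRow x.nrm ≠ [] ∧
      (∃ e ∈ lookupK (tableRow x.nrm) x.key, Ico.ofCode (eLow e) = x) ∧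
      ∃ u < 120, ∃ r < 52, x = (unitI u).mul (repI r) := by
  have hc := allSmall_spec completeCheck_ok h8
  unfold inTable at hc
  simp only [h, Bool.not_true, Bool.false_or] at hc
  obtain ⟨e, he, hb⟩ := anyL_spec hc
  rw [Bool.and_eq_true, ico_beq_iff] at hb
  have hne : tableRow x.nrm ≠ [] := fun h0 => by
    rw [h0] at he
    exact absurd he (by simp [lookupK])
  refine ⟨hne, ⟨e, he, hb.2⟩, ?_⟩
  obtain ⟨p, hp, hep⟩ := lookupK_sub he
  have hrow := allL_spec certCheck_ok _ (tableRow_mem hne)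
  unfold certRow at hrow
  have hcert := allL_spec (allL_spec hrow p hp) e hep
  simp only [Bool.and_eq_true, Nat.blt_eq, ico_beq_iff] at hcert
  exact ⟨eUnit e, hcert.1.1, eRep e, hcert.1.2, hb.2 ▸ hcert.2⟩

theorem evenB_sub_bits {a b : Ico} (h : (a.sub b).evenB = true) : a.bits = b.bits := by
  have := bit2_le (a.sub b).a.u; have := bit2_le (a.sub b).a.v
  have := bit2_le (a.sub b).b.u; have := bit2_le (a.sub b).b.v
  have := bit2_le (a.sub b).c.u; have := bit2_le (a.sub b).c.v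
  have := bit2_le (a.sub b).d.u; have := bit2_le (a.sub b).d.v
  simp only [Ico.evenB, Nat.beq_eq, Ico.bits] at h
  have key : ∀ m n : ℤ, bit2 (m - n) = 0 → bit2 m = bit2 n := fun m n h => by
    unfold bit2 at *; omega
  simp only [Ico.bits]
  rw [key a.a.u b.a.u (show bit2 (a.sub b).a.u = 0 by omega),
    key a.a.v b.a.v (show bit2 (a.sub b).a.v = 0 by omega),
    key a.b.u b.b.u (show bit2 (a.sub b).b.u = 0 by omega),
    key a.b.v b.b.v (show bit2 (a.sub b).b.v = 0 by omega),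
    key a.c.u b.c.u (show bit2 (a.sub b).c.u = 0 by omega),
    key a.c.v b.c.v (show bit2 (a.sub b).c.v = 0 by omega),
    key a.d.u b.d.u (show bit2 (a.sub b).d.u = 0 by omega),
    key a.d.v b.d.v (show bit2 (a.sub b).d.v = 0 by omega)]

theorem lat_key {v : V3} (h : v.lat = true) : v.y.key = v.x.key ∧ v.z.key = v.y.key := by
  simp only [V3.lat, Bool.and_eq_true] at h
  have e : ∀ a b : Ico, (a.sub b).mul Ico.hI.conj =
      (a.mul Ico.hI.conj).sub (b.mul Ico.hI.conj) := fun a b => q_inj (by simp [sub_mul])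
  rw [e, e] at h
  exact ⟨(evenB_sub_bits h.1.1).symm, (evenB_sub_bits h.1.2).symm⟩

theorem nrm_sum {v : V3} (h : v.ip v = Ico.ofInt 4) :
    (v.x.nrm.add v.y.nrm).add v.z.nrm = Zt.ofInt 4 := by
  have := congrArg Ico.a h
  rwa [V3.ip, mul_conj_self, mul_conj_self, mul_conj_self] at this

theorem nrm_bounds {v : V3} (h : v.ip v = Ico.ofInt 4) :
    (((Zt.ofInt 4).sub v.x.nrm).nnB = true ∧ v.x.nrm.tr ≤ 8) ∧
    (((Zt.ofInt 4).sub v.y.nrm).nnB = true ∧ v.y.nrm.tr ≤ 8) ∧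
    (((Zt.ofInt 4).sub v.z.nrm).nnB = true ∧ v.z.nrm.tr ≤ 8) := by
  have hs := nrm_sum h
  have t1 := tr_nonneg v.x; have t2 := tr_nonneg v.y; have t3 := tr_nonneg v.z
  have e1 := congrArg Zt.u hs
  have e2 := congrArg Zt.v hs
  simp only [Zt.add, Zt.ofInt] at e1 e2
  simp only [Zt.tr] at t1 t2 t3
  have hx : (Zt.ofInt 4).sub v.x.nrm = v.y.nrm.add v.z.nrm := by
    ext <;> simp only [Zt.sub, Zt.add, Zt.ofInt] <;> omega
  have hy : (Zt.ofInt 4).sub v.y.nrm = v.x.nrm.add v.z.nrm := by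
    ext <;> simp only [Zt.sub, Zt.add, Zt.ofInt] <;> omega
  have hz : (Zt.ofInt 4).sub v.z.nrm = v.x.nrm.add v.y.nrm := by
    ext <;> simp only [Zt.sub, Zt.add, Zt.ofInt] <;> omega
  refine ⟨⟨?_, ?_⟩, ⟨?_, ?_⟩, ⟨?_, ?_⟩⟩
  · rw [hx]; exact nnB_of_NN (NN.add (nrm_NN _) (nrm_NN _))
  · simp only [Zt.tr]; omega
  · rw [hy]; exact nnB_of_NN (NN.add (nrm_NN _) (nrm_NN _))
  · simp only [Zt.tr]; omega
  · rw [hz]; exact nnB_of_NN (NN.add (nrm_NN _) (nrm_NN _))
  · simp only [Zt.tr]; omega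

theorem ip_smul_unit {j : ℕ} (hj : j < 120) (v : V3) (h : v.ip v = Ico.ofInt 4) :
    (v.smul (unitI j).conj).ip (v.smul (unitI j).conj) = Ico.ofInt 4 := by
  apply q_inj
  have h' := congrArg Ico.q h
  have hu := congrArg Ico.q (unit_conj_mul hj).1
  rw [q_ip] at h' ⊢
  rw [v3_q_smul, qip_smul, h', q_conj, star_star, q_ofInt]
  rw [q_mul, q_conj, q_ofInt, Int.cast_one] at hu
  rw [mul_assoc, Int.cast_comm, ← mul_assoc, hu, one_mul]

theorem smul_back {j : ℕ} (hj : j < 120) (v : V3) :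
    v = (v.smul (unitI j).conj).smul (unitI j) := by
  rw [smul_smul_v3, (unit_conj_mul hj).2, one_smul_v3]

theorem norm_case_x {v : V3} (hv : v.lat = true) (h4 : v.ip v = Ico.ofInt 4) {r : ℕ} (hr : r < 51)
    (hx : v.x = repI r) : v ∈ axesL := by
  obtain ⟨-, ⟨by1, by2⟩, bz1, bz2⟩ := nrm_bounds h4
  obtain ⟨hne, ⟨ey, hey, hey'⟩, -⟩ := small_cases by1 by2
  obtain ⟨-, ⟨ez, hez, hez'⟩, -⟩ := small_cases bz1 bz2
  obtain ⟨k1, k2⟩ := lat_key hv
  rw [k1] at hey
  rw [k2, k1] at hez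
  have hn : v.z.nrm = ((Zt.ofInt 4).sub v.x.nrm).sub v.y.nrm := by
    have hs := nrm_sum h4
    have e1 := congrArg Zt.u hs
    have e2 := congrArg Zt.v hs
    simp only [Zt.add, Zt.ofInt] at e1 e2
    ext <;> simp only [Zt.sub, Zt.ofInt] <;> omega
  rw [hn] at hez
  rw [hx] at hey hez
  have hl := allL_spec loopA_ok r (List.mem_range.mpr hr)
  unfold loopAt at hl
  have h := allL_spec (allL_spec (allL_spec hl _
    (tableRow_mem hne)) ey hey) ez hez
  have hv' : (⟨repI r, Ico.ofCode (eLow ey), Ico.ofCode (eLow ez)⟩ : V3) = v := by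
    rw [hey', hez', ← hx]
  simp only [hv', hv, Bool.not_true, Bool.false_or] at h
  exact memAxis_spec h

theorem norm_case_y {v : V3} (hv : v.lat = true) (h4 : v.ip v = Ico.ofInt 4) {r : ℕ} (hr : r < 51)
    (hx : v.x = Ico.ofInt 0) (hy : v.y = repI r) : v ∈ axesL := by
  obtain ⟨-, -, bz1, bz2⟩ := nrm_bounds h4
  obtain ⟨-, ⟨ez, hez, hez'⟩, -⟩ := small_cases bz1 bz2
  obtain ⟨-, k2⟩ := lat_key hv
  rw [k2] at hez
  have hx0 : v.x.nrm = Zt.ofInt 0 := by rw [hx]; decide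
  have hn : v.z.nrm = (Zt.ofInt 4).sub v.y.nrm := by
    have hs := nrm_sum h4
    rw [hx0] at hs
    have e1 := congrArg Zt.u hs
    have e2 := congrArg Zt.v hs
    simp only [Zt.add, Zt.ofInt] at e1 e2
    ext <;> simp only [Zt.sub, Zt.ofInt] <;> omega
  rw [hn, hy] at hez
  have h0 := allL_spec loopB_ok r (List.mem_range.mpr hr)
  simp only [Bool.and_eq_true] at h0
  have h := allL_spec h0.1 ez hez
  have hv' : (⟨Ico.ofInt 0, repI r, Ico.ofCode (eLow ez)⟩ : V3) = v := by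
    rw [hez', ← hx, ← hy]
  simp only [hv', hv, Bool.not_true, Bool.false_or] at h
  exact memAxis_spec h

theorem norm_case_z {v : V3} (hv : v.lat = true) (h4 : v.ip v = Ico.ofInt 4) {r : ℕ} (hr : r < 51)
    (hx : v.x = Ico.ofInt 0) (hy : v.y = Ico.ofInt 0) (hz : v.z = repI r) : v ∈ axesL := by
  have h0 := allL_spec loopB_ok r (List.mem_range.mpr hr)
  simp only [Bool.and_eq_true] at h0
  have hn : (repI r).nrm = Zt.ofInt 4 := by
    have hs := nrm_sum h4
    rw [hx, hy, hz, show (Ico.ofInt 0).nrm = Zt.ofInt 0 by decide] at hs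
    rw [← hs]; ext <;> simp [Zt.add, Zt.ofInt]
  have hv' : (⟨Ico.ofInt 0, Ico.ofInt 0, repI r⟩ : V3) = v := by
    rw [← hz]
    exact V3.ext hx.symm hy.symm rfl
  have h := h0.2
  simp only [zt_beq_iff.mpr hn, hv', hv, Bool.not_true, Bool.false_or] at h
  exact memAxis_spec h

theorem rep_zero : repI 51 = Ico.ofInt 0 := ico_beq_iff.mp zeroCheck_ok

/-- Every minimal vector is a unit multiple of an axis. -/
theorem min_vec {v : V3} (hv : v.lat = true) (h4 : v.ip v = Ico.ofInt 4) :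
    ∃ u < 120, ∃ a ∈ axesL, v = a.smul (unitI u) := by
  have cancel : ∀ {u : ℕ}, u < 120 → ∀ r, (unitI u).conj.mul ((unitI u).mul (repI r)) = repI r :=
    fun hu r => by rw [← ico_mul_assoc, (unit_conj_mul hu).1, ico_one_mul]
  obtain ⟨⟨bx1, bx2⟩, ⟨by1, by2⟩, bz1, bz2⟩ := nrm_bounds h4
  obtain ⟨-, -, u, hu, r, hr, hxe⟩ := small_cases bx1 bx2
  by_cases hr51 : r < 51
  · exact ⟨u, hu, _, norm_case_x (lat_smul _ hv) (ip_smul_unit hu v h4) hr51
      (by simp only [V3.smul]; rw [hxe, cancel hu]), smul_back hu v⟩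
  have hx0 : v.x = Ico.ofInt 0 := by
    rw [hxe, show r = 51 by omega, rep_zero, ico_mul_zero]
  obtain ⟨-, -, u, hu, r, hr, hye⟩ := small_cases by1 by2
  by_cases hr51 : r < 51
  · exact ⟨u, hu, _, norm_case_y (lat_smul _ hv) (ip_smul_unit hu v h4) hr51
      (by simp only [V3.smul]; rw [hx0, ico_mul_zero])
      (by simp only [V3.smul]; rw [hye, cancel hu]), smul_back hu v⟩
  have hy0 : v.y = Ico.ofInt 0 := by
    rw [hye, show r = 51 by omega, rep_zero, ico_mul_zero]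
  obtain ⟨-, -, u, hu, r, hr, hze⟩ := small_cases bz1 bz2
  by_cases hr51 : r < 51
  · exact ⟨u, hu, _, norm_case_z (lat_smul _ hv) (ip_smul_unit hu v h4) hr51
      (by simp only [V3.smul]; rw [hx0, ico_mul_zero])
      (by simp only [V3.smul]; rw [hy0, ico_mul_zero])
      (by simp only [V3.smul]; rw [hze, cancel hu]), smul_back hu v⟩
  exfalso
  have hz0 : v.z = Ico.ofInt 0 := by
    rw [hze, show r = 51 by omega, rep_zero, ico_mul_zero]
  have hs := nrm_sum h4
  rw [hx0, hy0, hz0] at hs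
  revert hs
  decide

end Cfsg.Agent.JankoTwo
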