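import Cfsg.Agent.JankoTwo.EnumDefs
import Cfsg.Agent.JankoTwo.Chunks

/-! Kernel evaluation: completeness of the table of small icosians. -/

set_option autoImplicit false
set_option maxHeartbeats 0

namespace Cfsg.Agent.JankoTwo

open Cfsg.Agent.Compute

theorem boxZ_length : boxZ.length = 47 := by decide +kernel

theorem completeParts_0 : allRange 0 2 (fun k => allSmallAt inTable (boxZ.getD k ⟨0, 0⟩)) = true := by decide +kernel

theorem completeParts_2 : allRange 2 2 (fun k => allSmallAt inTable (boxZ.getD k ⟨0, 0⟩)) = true := by decide +kernel

theorem completeParts_4 : allRange 4 2 (fun k => allSmallAt inTable (boxZ.getD k ⟨0, 0⟩)) = true := by decide +kernel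

theorem completeParts_6 : allRange 6 2 (fun k => allSmallAt inTable (boxZ.getD k ⟨0, 0⟩)) = true := by decide +kernel

theorem completeParts_8 : allRange 8 2 (fun k => allSmallAt inTable (boxZ.getD k ⟨0, 0⟩)) = true := by decide +kernel

theorem completeParts_10 : allRange 10 2 (fun k => allSmallAt inTable (boxZ.getD k ⟨0, 0⟩)) = true := by decide +kernel

theorem completeParts_12 : allRange 12 2 (fun k => allSmallAt inTable (boxZ.getD k ⟨0, 0⟩)) = true := by decide +kernel

theorem completeParts_14 : allRange 14 2 (fun k => allSmallAt inTable (boxZ.getD k ⟨0, 0⟩)) = true := by decide +kernel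

theorem completeParts_16 : allRange 16 2 (fun k => allSmallAt inTable (boxZ.getD k ⟨0, 0⟩)) = true := by decide +kernel

theorem completeParts_18 : allRange 18 2 (fun k => allSmallAt inTable (boxZ.getD k ⟨0, 0⟩)) = true := by decide +kernel

theorem completeParts_20 : allRange 20 2 (fun k => allSmallAt inTable (boxZ.getD k ⟨0, 0⟩)) = true := by decide +kernel

theorem completeParts_22 : allRange 22 2 (fun k => allSmallAt inTable (boxZ.getD k ⟨0, 0⟩)) = true := by decide +kernel

theorem completeParts_24 : allRange 24 2 (fun k => allSmallAt inTable (boxZ.getD k ⟨0, 0⟩)) = true := by decide +kernel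

theorem completeParts_26 : allRange 26 2 (fun k => allSmallAt inTable (boxZ.getD k ⟨0, 0⟩)) = true := by decide +kernel

theorem completeParts_28 : allRange 28 2 (fun k => allSmallAt inTable (boxZ.getD k ⟨0, 0⟩)) = true := by decide +kernel

theorem completeParts_30 : allRange 30 2 (fun k => allSmallAt inTable (boxZ.getD k ⟨0, 0⟩)) = true := by decide +kernel

theorem completeParts_32 : allRange 32 2 (fun k => allSmallAt inTable (boxZ.getD k ⟨0, 0⟩)) = true := by decide +kernel

theorem completeParts_34 : allRange 34 2 (fun k => allSmallAt inTable (boxZ.getD k ⟨0, 0⟩)) = true := by decide +kernel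

theorem completeParts_36 : allRange 36 2 (fun k => allSmallAt inTable (boxZ.getD k ⟨0, 0⟩)) = true := by decide +kernel

theorem completeParts_38 : allRange 38 2 (fun k => allSmallAt inTable (boxZ.getD k ⟨0, 0⟩)) = true := by decide +kernel

theorem completeParts_40 : allRange 40 2 (fun k => allSmallAt inTable (boxZ.getD k ⟨0, 0⟩)) = true := by decide +kernel

theorem completeParts_42 : allRange 42 2 (fun k => allSmallAt inTable (boxZ.getD k ⟨0, 0⟩)) = true := by decide +kernel

theorem completeParts_44 : allRange 44 2 (fun k => allSmallAt inTable (boxZ.getD k ⟨0, 0⟩)) = true := by decide +kernel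

theorem completeParts_46 : allRange 46 1 (fun k => allSmallAt inTable (boxZ.getD k ⟨0, 0⟩)) = true := by decide +kernel

theorem completeParts : allBelow 47 (fun k => allSmallAt inTable (boxZ.getD k ⟨0, 0⟩)) = true := by
  refine allBelow_step (a := 46) (b := 1) (by norm_num) ?_ completeParts_46
  refine allBelow_step (a := 44) (b := 2) (by norm_num) ?_ completeParts_44
  refine allBelow_step (a := 42) (b := 2) (by norm_num) ?_ completeParts_42
  refine allBelow_step (a := 40) (b := 2) (by norm_num) ?_ completeParts_40
  refine allBelow_step (a := 38) (b := 2) (by norm_num) ?_ completeParts_38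
  refine allBelow_step (a := 36) (b := 2) (by norm_num) ?_ completeParts_36
  refine allBelow_step (a := 34) (b := 2) (by norm_num) ?_ completeParts_34
  refine allBelow_step (a := 32) (b := 2) (by norm_num) ?_ completeParts_32
  refine allBelow_step (a := 30) (b := 2) (by norm_num) ?_ completeParts_30
  refine allBelow_step (a := 28) (b := 2) (by norm_num) ?_ completeParts_28
  refine allBelow_step (a := 26) (b := 2) (by norm_num) ?_ completeParts_26
  refine allBelow_step (a := 24) (b := 2) (by norm_num) ?_ completeParts_24
  refine allBelow_step (a := 22) (b := 2) (by norm_num) ?_ completeParts_22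
  refine allBelow_step (a := 20) (b := 2) (by norm_num) ?_ completeParts_20
  refine allBelow_step (a := 18) (b := 2) (by norm_num) ?_ completeParts_18
  refine allBelow_step (a := 16) (b := 2) (by norm_num) ?_ completeParts_16
  refine allBelow_step (a := 14) (b := 2) (by norm_num) ?_ completeParts_14
  refine allBelow_step (a := 12) (b := 2) (by norm_num) ?_ completeParts_12
  refine allBelow_step (a := 10) (b := 2) (by norm_num) ?_ completeParts_10
  refine allBelow_step (a := 8) (b := 2) (by norm_num) ?_ completeParts_8
  refine allBelow_step (a := 6) (b := 2) (by norm_num) ?_ completeParts_6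
  refine allBelow_step (a := 4) (b := 2) (by norm_num) ?_ completeParts_4
  refine allBelow_step (a := 2) (b := 2) (by norm_num) ?_ completeParts_2
  refine allBelow_step (a := 0) (b := 2) (by norm_num) ?_ completeParts_0
  exact allBelow_zero _

theorem completeCheck_ok : completeCheck = true :=
  allL_of_getD ⟨0, 0⟩ fun k hk => allBelow_eq_true.mp completeParts k (boxZ_length ▸ hk)

end Cfsg.Agent.JankoTwo
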