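import Cfsg.Agent.JankoTwo.Box
import Cfsg.Agent.JankoTwo.EnumData

/-!
Checkers for the enumeration of the minimal vectors.
-/

set_option autoImplicit false

namespace Cfsg.Agent.JankoTwo


/-- Equality test for integers of `ℤ[τ]`. -/
def Zt.beq (a b : Zt) : Bool := decide (a.u = b.u) && decide (a.v = b.v)

/-- Equality test for icosians. -/
def Ico.beq (x y : Ico) : Bool := x.a.beq y.a && x.b.beq y.b && x.c.beq y.c && x.d.beq y.d

theorem zt_beq_iff {a b : Zt} : a.beq b = true ↔ a = b := by
  simp [Zt.beq, Zt.ext_iff]

theorem ico_beq_iff {x y : Ico} : x.beq y = true ↔ x = y := by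
  simp [Ico.beq, Ico.ext_iff, zt_beq_iff, and_assoc]

/-- Look for a member of a list passing a test. -/
noncomputable def anyL {α : Type} (l : List α) (f : α → Bool) : Bool :=
  List.rec (motive := fun _ => Bool) false (fun x _ r => f x || r) l

theorem anyL_spec {α : Type} {l : List α} {f : α → Bool} (h : anyL l f = true) :
    ∃ x ∈ l, f x = true := by
  induction l with
  | nil => simp [anyL] at h
  | cons a l ih =>
    rw [show anyL (a :: l) f = (f a || anyL l f) from rfl, Bool.or_eq_true] at h
    rcases h with h | h
    · exact ⟨a, by simp, h⟩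
    · obtain ⟨x, hx, hf⟩ := ih h
      exact ⟨x, by simp [hx], hf⟩

/-- Pack a coordinate. -/
def pk (v : ℤ) (k : ℕ) : ℕ := Nat.shiftLeft (v + 16).toNat (Nat.mul 5 k)

/-- The code of an icosian. -/
def Ico.code (x : Ico) : ℕ :=
  pk x.a.u 0 + pk x.a.v 1 + pk x.b.u 2 + pk x.b.v 3 + pk x.c.u 4 + pk x.c.v 5 + pk x.d.u 6 +
    pk x.d.v 7

/-- The unit number `j`. -/
def unitI (j : ℕ) : Ico := Ico.ofCode (unitCodes.getD j 0)

/-- The representative number `j`. -/
def repI (j : ℕ) : Ico := Ico.ofCode (repCodes.getD j 0)

/-- The axis of a code triple. -/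
def V3.ofCodes (a : ℕ × ℕ × ℕ) : V3 := ⟨Ico.ofCode a.1, Ico.ofCode a.2.1, Ico.ofCode a.2.2⟩

/-- The icosian part of a table entry. -/
def eLow (e : ℕ) : ℕ := Nat.land e 1099511627775
def eUnit (e : ℕ) : ℕ := Nat.land (Nat.shiftRight e 40) 127
def eRep (e : ℕ) : ℕ := Nat.shiftRight e 47

/-- The table row of a norm. -/
noncomputable def tableRow (n : Zt) : List (ℕ × List ℕ) :=
  List.rec (motive := fun _ => List (ℕ × List ℕ)) []
    (fun row _ r => cond (row.1.beq n) row.2 r) smallTable

/-- The bucket of a key. -/
noncomputable def lookupK (row : List (ℕ × List ℕ)) (k : ℕ) : List ℕ :=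
  List.rec (motive := fun _ => List ℕ) [] (fun e _ r => cond (Nat.beq e.1 k) e.2 r) row

theorem lookupK_sub {row : List (ℕ × List ℕ)} {k e : ℕ} (h : e ∈ lookupK row k) :
    ∃ p ∈ row, e ∈ p.2 := by
  induction row with
  | nil => simp [lookupK] at h
  | cons p row ih =>
    rw [show lookupK (p :: row) k = cond (Nat.beq p.1 k) p.2 (lookupK row k) from rfl] at h
    cases hb : Nat.beq p.1 k <;> rw [hb] at h
    · obtain ⟨q, hq, he⟩ := ih h
      exact ⟨q, by simp [hq], he⟩
    · exact ⟨p, by simp, h⟩

theorem tableRow_mem {n : Zt} (h : tableRow n ≠ []) : (n, tableRow n) ∈ smallTable := by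
  revert h
  unfold tableRow
  induction smallTable with
  | nil => simp
  | cons p l ih =>
    intro h
    cases hb : p.1.beq n
    · simp only [hb, cond_false] at h ⊢
      exact List.mem_cons_of_mem _ (ih h)
    · simp only [hb, cond_true] at h ⊢
      rw [← zt_beq_iff.mp hb]
      exact List.mem_cons_self

/-- The decompositions of one row. -/
noncomputable def certRow (row : Zt × List (ℕ × List ℕ)) : Bool :=
  allL row.2 fun p => allL p.2 fun e =>
    Nat.blt (eUnit e) 120 && Nat.blt (eRep e) 52 &&
      (Ico.ofCode (eLow e)).beq ((unitI (eUnit e)).mul (repI (eRep e)))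

/-- Every table entry has its decomposition. -/
noncomputable def certCheck : Bool := allL smallTable certRow

/-- One icosian is in the table, if it is small. -/
noncomputable def inTable (x : Ico) : Bool :=
    let n := x.nrm
    let c := x.code
    !((Zt.ofInt 4).sub n).nnB ||
      anyL (lookupK (tableRow n) x.key) fun e => Nat.beq (eLow e) c && (Ico.ofCode (eLow e)).beq x

/-- Every icosian of small norm is in the table. -/
noncomputable def completeCheck : Bool := allSmall inTable

/-- Membership in the axis list. -/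
noncomputable def memAxis (v : V3) : Bool :=
  let a := v.x.code
  let b := v.y.code
  let c := v.z.code
  anyL axisCodes fun p => Nat.beq p.1 a && Nat.beq p.2.1 b && Nat.beq p.2.2 c &&
    (Ico.ofCode p.1).beq v.x && (Ico.ofCode p.2.1).beq v.y && (Ico.ofCode p.2.2).beq v.z

theorem memAxis_spec {v : V3} (h : memAxis v = true) : v ∈ axisCodes.map V3.ofCodes := by
  unfold memAxis at h
  obtain ⟨p, hp, hf⟩ := anyL_spec h
  simp only [Bool.and_eq_true, ico_beq_iff] at hf
  exact List.mem_map.mpr ⟨p, hp, V3.ext hf.1.1.2 hf.1.2 hf.2⟩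

/-- All triples starting with a representative. -/
noncomputable def loopAt (r : ℕ) : Bool :=
    let x := repI r
    let k := x.key
    let n := (Zt.ofInt 4).sub x.nrm
    allL smallTable fun row =>
      let zs := lookupK (tableRow (n.sub row.1)) k
      allL (lookupK row.2 k) fun ey =>
        let y := Ico.ofCode (eLow ey)
        allL zs fun ez =>
          let v : V3 := ⟨x, y, Ico.ofCode (eLow ez)⟩
          !v.lat || memAxis v

/-- All triples starting with some representative. -/
noncomputable def loopA : Bool := allL (List.range 51) loopAt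

/-- All triples with first entry zero. -/
noncomputable def loopB : Bool :=
  allL (List.range 51) fun r =>
    let y := repI r
    (allL (lookupK (tableRow ((Zt.ofInt 4).sub y.nrm)) y.key) fun ez =>
        let v : V3 := ⟨Ico.ofInt 0, y, Ico.ofCode (eLow ez)⟩
        !v.lat || memAxis v) &&
      (!(y.nrm.beq (Zt.ofInt 4)) ||
        (let v : V3 := ⟨Ico.ofInt 0, Ico.ofInt 0, y⟩
         !v.lat || memAxis v))

/-- The units are units. -/
noncomputable def unitCheck : Bool :=
  allL (List.range 120) fun j =>
    let u := unitI j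
    (u.conj.mul u).beq (Ico.ofInt 1) && (u.mul u.conj).beq (Ico.ofInt 1)

/-- The axes are minimal vectors of the lattice. -/
noncomputable def axisCheck : Bool :=
  allL axisCodes fun p =>
    let v := V3.ofCodes p
    v.lat && (v.ip v).beq (Ico.ofInt 4)

/-- The last representative is zero. -/
noncomputable def zeroCheck : Bool := (repI 51).beq (Ico.ofInt 0)

end Cfsg.Agent.JankoTwo
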