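import Cfsg.Agent.JankoTwo.OuterRefl

/-! Checks for the 2-fusion system of `J₂`. -/

set_option autoImplicit false
set_option maxHeartbeats 0

namespace Cfsg.Agent.JankoTwo

open Cfsg.Agent.Compute

/-- Reflections whose products give the kernel of the block action. -/
def qWords : List (List ℕ) :=
  [[], [138], [188], [294], [16, 32], [2], [301], [18, 32], [297], [32, 294], [99], [16], [2, 99],
   [2, 138], [16, 138], [18, 297], [16, 294], [2, 32], [18], [2, 297], [2, 16], [16, 297], [16, 18],
   [2, 294], [18, 294], [2, 18], [32], [32, 297], [2, 188], [18, 99], [2, 301], [16, 99]]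

/-- The axes of the reflections in the kernel of the block action. -/
def qAxes : List ℕ := [2, 16, 18, 32, 99, 138, 188, 294, 297, 301]

/-- A product of reflections applied to a point. -/
noncomputable def appT (l : List ℕ) (x : ℕ) : ℕ :=
  List.rec (motive := fun _ => ℕ) x (fun i _ r => getField 9 (tblAt i) r) l

/-- Two conjugations leaving the kernel: transversal index, factors, source, target. -/
def fuseWit : List (ℕ × (ℕ × ℕ × ℕ) × (ℕ × ℕ × ℕ) × (ℕ × ℕ × ℕ)) :=
  [(186, (4, 1, 2), (23, 0, 2), (4, 2, 2)), (229, (15, 1, 2), (23, 0, 2), (1, 3, 2))]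

/-- Their block images. -/
def fuseImg : List (List ℕ) := [[1, 0, 3, 2, 4], [2, 3, 0, 1, 4]]

/-- The generators of the stabiliser as products of two elements of 2-power order. -/
def splitWit : List ((ℕ × ℕ × ℕ) × (ℕ × ℕ × ℕ)) :=
  [((0, 3, 2), (21, 1, 1)), ((0, 0, 0), (0, 1, 0)), ((6, 2, 0), (33, 1, 1))]

/-- The kernel is generated by its reflections. -/
noncomputable def qWordCheck : Bool :=
  allL qAxes (fun i => Nat.blt i 315 && Nat.beq (getField 9 (tblAt i) 0) 0 &&
    allBelow 5 (fun k => Nat.beq (blkIdx (getField 9 (tblAt i) (bP k))) k)) &&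
  allBelow 32 (fun n => allL (qWords.getD n []) (fun i => memB i qAxes) &&
    agree3 (app3 (kerWit.getD n (0, 0, 0))) (appT (qWords.getD n [])))

/-- The fusion out of the kernel. -/
noncomputable def fuseAt (t : ℕ) : Bool :=
  let e := fuseWit.getD t (0, (0, 0, 0), (0, 0, 0), (0, 0, 0))
  let a := (rep315.entry j2L0 e.1).u
  allBelow 5 (fun k => Nat.beq (blkIdx (app3 e.2.2.1 (bP k))) k &&
    Nat.beq (blkIdx (app3 e.2.2.2 (bP k))) ((fuseImg.getD t []).getD k 0)) &&
  allBelow 4 (fun x => Nat.beq (getField 9 a (app3 e.2.1 (app3 e.2.2.1 x)))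
    (app3 e.2.2.2 (getField 9 a (app3 e.2.1 x))))

/-- The splitting of the generators. -/
noncomputable def splitCheck : Bool :=
  Nat.beq j2L1.gens.length 3 && allBelow 3 fun n =>
    let w := splitWit.getD n ((0, 0, 0), (0, 0, 0))
    agree3 (getField 9 (j2L1.gens.getD n 0)) (fun x => app3 w.1 (app3 w.2 x)) &&
      agree3 (iterN (app3 w.1) 8) (fun x => x) && agree3 (iterN (app3 w.2) 8) (fun x => x)

theorem qWordCheck_ok : qWordCheck = true := by decide +kernel

theorem fuseAt_ok : allBelow 2 fuseAt = true := by decide +kernel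

theorem splitCheck_ok : splitCheck = true := by decide +kernel

end Cfsg.Agent.JankoTwo
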