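import Cfsg.Agent.JankoTwo.Outer
import Cfsg.Agent.JankoTwo.FusionCheck
import Cfsg.Agent.GroupSub.Data
import Cfsg.Agent.Core.Solvable

/-!
The 2-fusion system of `J₂` is simple.
-/

set_option autoImplicit false

namespace Cfsg.Agent.JankoTwo

open Cfsg.Spor Cfsg.Agent.Compute Cfsg.Agent.GroupSub

/-- First generator of the four-group. -/
def vA : Equiv.Perm (Fin 5) := Equiv.swap 0 1 * Equiv.swap 2 3
/-- Second generator of the four-group. -/
def vB : Equiv.Perm (Fin 5) := Equiv.swap 0 2 * Equiv.swap 1 3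

theorem v_facts : vA * vA = 1 ∧ vB * vB = 1 ∧ vA * vB = vB * vA ∧ vA⁻¹ = vA ∧ vB⁻¹ = vB ∧
    vA ≠ vB ∧ vA ≠ 1 ∧ vB ≠ 1 ∧ vA * vB ≠ 1 ∧ vA * vB ≠ vA ∧ vA * vB ≠ vB ∧
    Equiv.Perm.sign vA = 1 ∧ Equiv.Perm.sign vB = 1 := by decide +kernel

/-- The four-group. -/
def vFour : Subgroup (Equiv.Perm (Fin 5)) where
  carrier := {p | p = 1 ∨ p = vA ∨ p = vB ∨ p = vA * vB}
  one_mem' := Or.inl rfl
  mul_mem' {a b} ha hb := by
    simp only [Set.mem_ofPred_eq] at ha hb ⊢
    rcases ha with rfl | rfl | rfl | rfl <;> rcases hb with rfl | rfl | rfl | rfl <;>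
      decide +kernel
  inv_mem' {a} ha := by
    simp only [Set.mem_ofPred_eq] at ha ⊢
    rcases ha with rfl | rfl | rfl | rfl <;> decide +kernel

theorem card_vFour : Nat.card vFour = 4 := by
  have h : (vFour : Set (Equiv.Perm (Fin 5))) = {1, vA, vB, vA * vB} := by
    ext p
    simp [vFour]
  rw [← SetLike.coe_sort_coe, h]
  obtain ⟨-, -, -, -, -, hab, ha, hb, hc, hca, hcb, -, -⟩ := v_facts
  simp [hab, Ne.symm ha, Ne.symm hb, Ne.symm hc,
    Ne.symm hca, Ne.symm hcb]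

theorem vFour_le : vFour ≤ blockHom.range := by
  rw [range_blockHom]
  obtain ⟨-, -, -, -, -, -, -, -, -, -, -, sa, sb⟩ := v_facts
  rintro p hp
  rw [Equiv.Perm.mem_alternatingGroup]
  rcases hp with rfl | rfl | rfl | rfl <;> simp [sa, sb]

/-- The preimage of the four-group in the stabiliser. -/
noncomputable def preFour : Subgroup Cg := vFour.comap blockHom

theorem card_preFour : Nat.card preFour = 128 := by
  have h1 : preFour.index = vFour.relIndex blockHom.range := Subgroup.index_comap vFour blockHom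
  have h3 : vFour.relIndex blockHom.range = 15 := by
    have h := Subgroup.card_mul_index (vFour.subgroupOf blockHom.range)
    rw [Nat.card_congr (Subgroup.subgroupOfEquivOfLe vFour_le).toEquiv, card_vFour] at h
    have hr : Nat.card blockHom.range = 60 := by
      rw [range_blockHom, nat_card_alternatingGroup, Nat.card_fin]
      rfl
    rw [hr] at h
    change Nat.card _ = _ at hr
    show (vFour.subgroupOf blockHom.range).index = 15
    omega
  have h := preFour.card_mul_index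
  rw [h1, h3, card_Cg] at h
  omega

/-- The Sylow 2-subgroup. -/
noncomputable def sylowSub : Subgroup K315 := (preFour.map Cg.subtype).subgroupOf K315

theorem card_sylowSub : Nat.card sylowSub = 128 := by
  have hle : preFour.map Cg.subtype ≤ K315 := by
    rintro _ ⟨x, -, rfl⟩
    exact Cg_le x.2
  rw [sylowSub, Nat.card_congr (Subgroup.subgroupOfEquivOfLe hle).toEquiv,
    Subgroup.card_map_of_injective Subtype.val_injective, card_preFour]

/-- The Sylow 2-subgroup, bundled. -/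
noncomputable def sylowJ : Sylow 2 K315 :=
  have : Fact (Nat.Prime 2) := ⟨Nat.prime_two⟩
  (IsPGroup.of_card (n := 7) (show Nat.card sylowSub = 2 ^ 7 by rw [card_sylowSub]; norm_num)).toSylow (by
    have h := sylowSub.card_mul_index
    rw [card_sylowSub, card_range_piJ] at h
    omega)

theorem coe_sylowJ : (sylowJ : Subgroup K315) = sylowSub := by
  simp [sylowJ]

theorem mem_sylowSub {g : K315} : g ∈ sylowSub ↔
    ∃ h : (g : Equiv.Perm (Fin 315)) ∈ Cg, blockHom ⟨_, h⟩ ∈ vFour := by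
  constructor
  · rintro ⟨x, hx, he⟩
    have hh : (g : Equiv.Perm (Fin 315)) ∈ Cg := (show (x : Equiv.Perm (Fin 315)) = g from he) ▸ x.2
    have hxe : x = ⟨_, hh⟩ := Subtype.ext he
    exact ⟨hh, hxe ▸ hx⟩
  · rintro ⟨h, hv⟩
    exact ⟨⟨_, h⟩, hv, rfl⟩

theorem mem_Qk_iff {g : K315} : g ∈ Qk ↔
    ∃ h : (g : Equiv.Perm (Fin 315)) ∈ Cg, blockHom ⟨_, h⟩ = 1 := by
  constructor
  · rintro ⟨x, hx, he⟩
    have hh : (g : Equiv.Perm (Fin 315)) ∈ Cg := (show (x : Equiv.Perm (Fin 315)) = g from he) ▸ x.2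
    have hxe : x = ⟨_, hh⟩ := Subtype.ext he
    exact ⟨hh, MonoidHom.mem_ker.mp (hxe ▸ hx)⟩
  · rintro ⟨h, hv⟩
    exact ⟨⟨_, h⟩, hv, rfl⟩

theorem Qk_le : Qk ≤ sylowSub := fun g hg => by
  obtain ⟨h, hv⟩ := mem_Qk_iff.mp hg
  exact mem_sylowSub.mpr ⟨h, by rw [hv]; exact one_mem _⟩

theorem sylowSub_fix {g : K315} (hg : g ∈ sylowSub) : (g : Equiv.Perm (Fin 315)) 0 = 0 :=
  Cg_fix0 (mem_sylowSub.mp hg).1

theorem Cg_normalizes {g : K315} (hg : (g : Equiv.Perm (Fin 315)) ∈ Cg) :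
    g ∈ Subgroup.normalizer (Qk : Set K315) := by
  refine mem_normalizer_of_cj_le ?_
  rintro _ ⟨x, hx, rfl⟩
  obtain ⟨h, hv⟩ := mem_Qk_iff.mp hx
  refine mem_Qk_iff.mpr ⟨mul_mem (mul_mem hg h) (inv_mem hg), ?_⟩
  show blockHom ((⟨_, hg⟩ : Cg) * ⟨_, h⟩ * (⟨_, hg⟩ : Cg)⁻¹) = 1
  rw [map_mul, map_mul, hv, mul_one, ← map_mul, mul_inv_cancel, map_one]

theorem appT_eq (l : List ℕ) (hl : ∀ i ∈ l, i < 315) :
    ∃ t : K315, (∀ T : Subgroup K315, (∀ (i : Fin 315), (i : ℕ) ∈ l → tR i ∈ T) → t ∈ T) ∧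
      ∀ x : Fin 315, ((t : Equiv.Perm (Fin 315)) x : ℕ) = appT l x := by
  induction l with
  | nil => exact ⟨1, fun T _ => one_mem T, fun _ => rfl⟩
  | cons i l ih =>
    obtain ⟨t, ht, hv⟩ := ih fun j hj => hl j (List.mem_cons_of_mem _ hj)
    have hi : i < 315 := hl i (by simp)
    refine ⟨tR ⟨i, hi⟩ * t, fun T hT => mul_mem (hT _ (by simp)) (ht T fun j hj =>
      hT j (List.mem_cons_of_mem _ hj)), fun x => ?_⟩
    rw [Subgroup.coe_mul, Equiv.Perm.mul_apply, tbl_apply, hv]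
    rfl

/-- An element of the kernel fixed by base points is a product of its reflections. -/
theorem Qk_le_of_reflections {T : Subgroup K315}
    (hT : ∀ i : Fin 315, (i : ℕ) ∈ qAxes → tR i ∈ T) : Qk ≤ T := by
  intro g hg
  obtain ⟨h, hv⟩ := mem_Qk_iff.mp hg
  obtain ⟨w, hw, he⟩ := exists_kerWit (x := ⟨_, h⟩) hv
  obtain ⟨n, hn, rfl⟩ := List.getElem_of_mem hw
  have hc := qWordCheck_ok
  simp only [qWordCheck, Bool.and_eq_true] at hc
  have hax : ∀ i ∈ qAxes, i < 315 := fun i hi => by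
    have := allL_spec hc.1 i hi
    simp only [Bool.and_eq_true, Nat.blt_eq] at this
    exact this.1.1
  have hn' := allBelow_eq_true.mp hc.2 n (wit_facts.2.2.2.1 ▸ hn)
  simp only [Bool.and_eq_true] at hn'
  obtain ⟨hmem, hag⟩ := hn'
  rw [List.getD_eq_getElem _ _ hn] at hag
  obtain ⟨t, ht, hval⟩ := appT_eq (qWords.getD n []) fun i hi =>
    hax i (memB_eq_true.mp (allL_spec hmem i hi))
  have htC : (t : Equiv.Perm (Fin 315)) ∈ Cg := by
    refine mem_Cg_iff.mpr ⟨t.2, ?_⟩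
    refine (commute_tR0_iff t).mp ?_
    have htz : t ∈ Subgroup.centralizer {tR 0} := ht _ fun i hi => by
      rw [Subgroup.mem_centralizer_singleton_iff]
      have := allL_spec hc.1 i (memB_eq_true.mp (allL_spec hmem i hi))
      simp only [Bool.and_eq_true, Nat.beq_eq] at this
      exact (commute_tR0_iff _).mpr (Fin.ext ((tbl_apply i i.2 0).trans this.1.2))
    exact Subgroup.mem_centralizer_singleton_iff.mp htz
  have hgt : g = t := Subtype.ext (agree3_eq h htC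
    (fun x => by rw [show (g : Equiv.Perm (Fin 315)) = fac3Prod kerWit[n] from he, fac3Prod_apply])
    hval hag)
  exact hgt ▸ ht T fun i hi => hT i (memB_eq_true.mp (allL_spec hmem i hi))

theorem qAxes_mem {i : Fin 315} (hi : (i : ℕ) ∈ qAxes) : tR i ∈ Qk := by
  have hc := qWordCheck_ok
  simp only [qWordCheck, Bool.and_eq_true] at hc
  have h := allL_spec hc.1 i hi
  simp only [Bool.and_eq_true, Nat.beq_eq] at h
  have h0 : (tR i : Equiv.Perm (Fin 315)) 0 = 0 := Fin.ext ((tbl_apply i i.2 0).trans h.1.2)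
  refine mem_Qk (mem_Cg_iff.mpr ⟨(tR i).2, h0⟩) fun k => ?_
  rw [tbl_apply i i.2]
  exact Nat.eq_of_beq_eq_true (allBelow_eq_true.mp h.2 k k.2)

theorem fuse_out {T : Subgroup K315} (hT : EltClosed sylowSub T) (hQ : Qk ≤ T) (t : Fin 2) :
    ∃ u : K315, ∃ h : (u : Equiv.Perm (Fin 315)) ∈ Cg, u ∈ T ∧ blockHom ⟨_, h⟩ = ![vA, vB] t := by
  set e := fuseWit.getD t (0, (0, 0, 0), (0, 0, 0), (0, 0, 0)) with he
  obtain ⟨idx, gw, s, u⟩ := e
  have hc := allBelow_eq_true.mp fuseAt_ok t t.2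
  simp only [fuseAt, ← he, Bool.and_eq_true] at hc
  obtain ⟨hblk, hconj⟩ := hc
  have hblk' := fun k : Fin 5 => by
    have := allBelow_eq_true.mp hblk k k.2
    simp only [Bool.and_eq_true, Nat.beq_eq] at this
    exact this
  let a : K315 := ⟨rep315.den (rep315.entry j2L0 idx).u, by
    rw [K315, range_piJ, topGens_eq]; exact j2L0_ok.entry_mem _⟩
  let g : K315 := a * ⟨fac3Prod gw, Cg_le (fac3Prod_mem gw)⟩
  let S : K315 := ⟨fac3Prod s, Cg_le (fac3Prod_mem s)⟩
  let U : K315 := ⟨fac3Prod u, Cg_le (fac3Prod_mem u)⟩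
  have hS : S ∈ Qk := mem_Qk (fac3Prod_mem s) fun k => by rw [fac3Prod_apply]; exact (hblk' k).1
  have hav : ∀ x : Fin 315, ((a : Equiv.Perm (Fin 315)) x : ℕ) =
      getField 9 (rep315.entry j2L0 idx).u x := fun x => den_apply (j2L0_ok.entry_all idx).1 x
  have hgs : g * S = U * g := by
    have hfix : ∀ x : Fin 315, (x : ℕ) < 4 →
        ((g * S : K315) : Equiv.Perm (Fin 315)) x = ((U * g : K315) : Equiv.Perm (Fin 315)) x := by
      intro x hx
      apply Fin.ext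
      simp only [g, S, U, Subgroup.coe_mul, Equiv.Perm.mul_apply, hav, fac3Prod_apply]
      exact Nat.eq_of_beq_eq_true (allBelow_eq_true.mp hconj x hx)
    have h1 : ∀ x : Fin 315, (x : ℕ) < 4 →
        (((U * g)⁻¹ * (g * S) : K315) : Equiv.Perm (Fin 315)) x = x := fun x hx => by
      rw [Subgroup.coe_mul, Equiv.Perm.mul_apply, hfix x hx, Subgroup.coe_inv]
      exact Equiv.symm_apply_apply _ x
    have := eq_one_of_fix (SetLike.coe_mem ((U * g)⁻¹ * (g * S))) (h1 0 (by norm_num))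
      (h1 1 (by norm_num)) (h1 2 (by norm_num)) (h1 3 (by norm_num))
    exact (inv_mul_eq_one.mp (Subtype.ext this)).symm
  have hconjU : g * S * g⁻¹ = U := by rw [hgs, mul_inv_cancel_right]
  have himg : blockHom ⟨_, fac3Prod_mem u⟩ = ![vA, vB] t := by
    have hl : ∀ (t : Fin 2) (k : Fin 5), (fuseImg.getD t []).getD k 0 = ((![vA, vB] t) k : ℕ) := by
      decide +kernel
    ext k
    rw [blockHom_val, fac3Prod_apply]
    exact (hblk' k).2.trans (hl t k)
  have hUS : U ∈ sylowSub := mem_sylowSub.mpr ⟨fac3Prod_mem u, by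
    rw [himg]
    fin_cases t
    · exact Or.inr (Or.inl rfl)
    · exact Or.inr (Or.inr (Or.inl rfl))⟩
  exact ⟨U, fac3Prod_mem u, hconjU ▸ hT.2 S (hQ hS) g (hconjU.symm ▸ hUS), himg⟩

theorem center_unique {x : K315} (hc : ∀ s ∈ sylowSub, x * s = s * x) (h1 : x ≠ 1) : x = tR 0 :=
  (cases_of_comm fun q hq => hc q (Qk_le hq)).resolve_left h1

theorem eq_of_eltClosed (T : Subgroup K315) (hT : EltClosed sylowSub T) :
    T = ⊥ ∨ T = sylowSub := by
  refine or_iff_not_imp_left.mpr fun hb => le_antisymm hT.1 ?_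
  have : Fact (Nat.Prime 2) := ⟨Nat.prime_two⟩
  have hP : IsPGroup 2 sylowSub := IsPGroup.of_card (n := 7) (by rw [card_sylowSub]; norm_num)
  let V : Subgroup sylowSub := T.subgroupOf sylowSub
  have : V.Normal := Subgroup.normal_subgroupOf_of_le_normalizer hT.le_normalizer
  have hV : V ≠ ⊥ := by
    rw [Ne, Subgroup.subgroupOf_eq_bot]
    intro hd
    exact hb (by simpa [inf_eq_left.2 hT.1] using disjoint_iff.1 hd)
  have : Group.IsNilpotent sylowSub := hP.isNilpotent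
  obtain ⟨x, hx, hx1⟩ :=
    (Subgroup.bot_or_exists_ne_one _).resolve_left (Core.inf_center_ne_bot hV)
  have hxz : (x : K315) = tR 0 := center_unique
    (fun s hs => (congrArg Subtype.val (Subgroup.mem_center_iff.1 hx.2 ⟨s, hs⟩)).symm)
    fun h => hx1 (Subtype.ext h)
  have hz : tR 0 ∈ T := hxz ▸ hx.1
  have hQ : Qk ≤ T := Qk_le_of_reflections fun i hi => by
    obtain ⟨g, hg⟩ := piJ_trans 0 i
    have he : piJ.rangeRestrict g * tR 0 * (piJ.rangeRestrict g)⁻¹ = tR i := by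
      rw [tR_conj]; exact congrArg tR hg
    exact he ▸ hT.2 _ hz _ (he.symm ▸ Qk_le (qAxes_mem hi))
  obtain ⟨a, haC, haT, ha⟩ := fuse_out hT hQ 0
  obtain ⟨b, hbC, hbT, hb'⟩ := fuse_out hT hQ 1
  intro s hs
  obtain ⟨hsC, hsV⟩ := mem_sylowSub.mp hs
  have key : ∀ c : K315, ∀ hc : (c : Equiv.Perm (Fin 315)) ∈ Cg, c ∈ T →
      blockHom ⟨_, hc⟩ = blockHom ⟨_, hsC⟩ → s ∈ T := by
    intro c hc hcT heq
    have hq : c⁻¹ * s ∈ Qk := mem_Qk_iff.mpr ⟨mul_mem (inv_mem hc) hsC, by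
      show blockHom ((⟨_, hc⟩ : Cg)⁻¹ * ⟨_, hsC⟩) = 1
      rw [map_mul, map_inv, heq, inv_mul_cancel]⟩
    have := mul_mem hcT (hQ hq)
    rwa [mul_inv_cancel_left] at this
  rcases hsV with h | h | h | h
  · exact key 1 (one_mem _) (one_mem T) (by rw [h]; exact map_one blockHom)
  · exact key a haC haT (by rw [h]; simpa using ha)
  · exact key b hbC hbT (by rw [h]; simpa using hb')
  · refine key (a * b) (mul_mem haC hbC) (mul_mem haT hbT) ?_
    show blockHom ((⟨_, haC⟩ : Cg) * ⟨_, hbC⟩) = _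
    rw [h, map_mul, ha, hb']
    rfl

theorem Cg_le_closure_two {g : K315} (hg : (g : Equiv.Perm (Fin 315)) ∈ Cg) :
    g ∈ Subgroup.closure {u : K315 | u ∈ Subgroup.normalizer (Qk : Set K315) ∧
      ∃ k : ℕ, orderOf u = 2 ^ k} := by
  set C := Subgroup.closure {u : K315 | u ∈ Subgroup.normalizer (Qk : Set K315) ∧
      ∃ k : ℕ, orderOf u = 2 ^ k}
  suffices Cg ≤ C.map K315.subtype by
    obtain ⟨x, hx, he⟩ := this hg
    exact (Subtype.ext he : x = g) ▸ hx
  rw [Cg, rep315.chainGroup_cons, Rep.span, Subgroup.closure_le]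
  rintro _ ⟨c, hc, rfl⟩
  obtain ⟨n, hn, rfl⟩ := List.getElem_of_mem hc
  have h := splitCheck_ok
  simp only [splitCheck, Bool.and_eq_true, Nat.beq_eq] at h
  have hw := allBelow_eq_true.mp h.2 n (h.1 ▸ hn)
  simp only [Bool.and_eq_true] at hw
  obtain ⟨⟨hprod, hb⟩, hc'⟩ := hw
  rw [List.getD_eq_getElem _ _ hn] at hprod
  set w := splitWit.getD n ((0, 0, 0), (0, 0, 0)) with hwdef
  have hiter : ∀ (v : ℕ × ℕ × ℕ) (m : ℕ) (x : Fin 315),
      ((fac3Prod v ^ m) x : ℕ) = iterN (app3 v) m x := by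
    intro v m x
    induction m generalizing x with
    | zero => rfl
    | succ m ih => rw [iterN_succ, pow_succ', Equiv.Perm.mul_apply, fac3Prod_apply, ih]
  have htwo : ∀ v, agree3 (iterN (app3 v) 8) (fun x => x) = true →
      (⟨fac3Prod v, Cg_le (fac3Prod_mem v)⟩ : K315) ∈ C := by
    intro v hv
    refine Subgroup.subset_closure ⟨Cg_normalizes (fac3Prod_mem v), ?_⟩
    have h8 : fac3Prod v ^ 2 ^ 3 = 1 :=
      agree3_eq (pow_mem (fac3Prod_mem v) _) (one_mem _) (fun x => hiter v 8 x) (fun _ => rfl) hv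
    obtain ⟨k, -, hk⟩ := (Nat.dvd_prime_pow Nat.prime_two).1
      (orderOf_dvd_of_pow_eq_one (x := (⟨fac3Prod v, Cg_le (fac3Prod_mem v)⟩ : K315))
        (show _ ^ 2 ^ 3 = 1 from Subtype.ext (by simpa using h8)))
    exact ⟨k, hk⟩
  refine ⟨_, mul_mem (htwo w.1 hb) (htwo w.2 hc'), ?_⟩
  refine (agree3_eq (rep315.den_mem_span hc) (mul_mem (fac3Prod_mem _) (fac3Prod_mem _))
    (fun x => den_apply (gen1_spec hc).1 x) (fun x => ?_) hprod).symm
  rw [Equiv.Perm.mul_apply, fac3Prod_apply, fac3Prod_apply]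

theorem zQ : tR 0 ∈ Qk := by
  obtain ⟨hz, hzb, -, -⟩ := es_facts
  have := mem_Qk hz hzb
  convert this using 1
  exact Subtype.ext zP_eq.symm

theorem tR0_ne_one : tR 0 ≠ 1 := fun h =>
  es_facts.2.2.1 (zP_eq.trans (congrArg Subtype.val h))

theorem sylowSub_ne_bot : sylowSub ≠ ⊥ := fun h =>
  tR0_ne_one (Subgroup.mem_bot.mp (h ▸ Qk_le zQ))

theorem normalizer_subset_radGens :
    ∀ g ∈ Subgroup.normalizer (sylowSub : Set K315), g ∈ radGens 2 sylowSub := by
  intro g hg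
  refine ⟨hg, Qk, ⟨Qk_le, fun m hm _ => ?_⟩,
    fun s hs => Cg_normalizes (mem_sylowSub.mp hs).1, ?_⟩
  · rcases cases_of_comm (g := m) fun q hq => (hm q hq).symm with h | h <;> rw [h]
    exacts [one_mem _, zQ]
  · refine Cg_le_closure_two (mem_Cg_iff.mpr ⟨g.2, (commute_tR0_iff g).mp ?_⟩)
    have hgz : g * tR 0 * g⁻¹ = tR 0 := by
      refine center_unique (fun s hs => ?_) (fun h => tR0_ne_one (conj_eq_one_iff.mp h))
      have hs' : g⁻¹ * s * g ∈ sylowSub := (Subgroup.mem_normalizer_iff''.1 hg s).1 hs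
      have hz' := (commute_tR0_iff _).mpr (sylowSub_fix hs')
      calc g * tR 0 * g⁻¹ * s = g * (tR 0 * (g⁻¹ * s * g)) * g⁻¹ := by group
        _ = g * ((g⁻¹ * s * g) * tR 0) * g⁻¹ := by rw [hz']
        _ = s * (g * tR 0 * g⁻¹) := by group
    exact mul_inv_eq_iff_eq_mul.mp hgz

theorem radGens_map {p : ℕ} {G H : Type*} [Group G] [Group H] [Finite G] [Finite H] [Fact p.Prime]
    (e : H ≃* G) {S₀ : Subgroup H} {g : H} (hg : g ∈ radGens p S₀) :
    e g ∈ radGens p (S₀.map e.toMonoidHom) := by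
  obtain ⟨hgN, R, hR, hSR, hgR⟩ := hg
  have hn : ∀ (A : Subgroup H) (x : H), x ∈ Subgroup.normalizer (A : Set H) →
      e x ∈ Subgroup.normalizer ((A.map e.toMonoidHom : Subgroup G) : Set G) := fun A x hx =>
    mem_normalizer_of_cj_le (by
      rintro _ ⟨_, ⟨a, ha, rfl⟩, rfl⟩
      exact ⟨x * a * x⁻¹, (Subgroup.mem_normalizer_iff.1 hx a).1 ha, by simp⟩)
  refine ⟨hn _ _ hgN, R.map e.toMonoidHom, ⟨Subgroup.map_mono hR.1, ?_⟩, ?_, ?_⟩
  · intro m hm ⟨k, hk⟩
    obtain ⟨m, rfl⟩ := e.surjective m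
    refine ⟨m, hR.2 m (fun r hr => e.injective ?_) ⟨k, e.injective (by simpa using hk)⟩, rfl⟩
    simpa using hm (e r) ⟨r, hr, rfl⟩
  · rintro _ ⟨s, hs, rfl⟩
    exact hn _ _ (hSR hs)
  · refine (Subgroup.closure_le
      (k := {u : H | u ∈ Subgroup.normalizer (R : Set H) ∧ ∃ k : ℕ, orderOf u = p ^ k})
      ((Subgroup.closure {u : G | u ∈ Subgroup.normalizer ((R.map e.toMonoidHom : Subgroup G) : Set G) ∧
        ∃ k : ℕ, orderOf u = p ^ k}).comap e.toMonoidHom)).mpr ?_ hgR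
    rintro u ⟨huN, k, hk⟩
    exact Subgroup.subset_closure ⟨hn _ _ huN, k, by rw [MulEquiv.coe_toMonoidHom, e.orderOf_eq, hk]⟩

theorem isSimple_of_iso {G : Type*} [Group G] [Finite G] (e : K315 ≃* G) (S : Sylow 2 G) :
    (Cfsg.groupFusionSystem (S : Subgroup G)).IsSimple 2 := by
  have : Fact (Nat.Prime 2) := ⟨Nat.prime_two⟩
  let T0 : Sylow 2 G := sylowJ.mapSurjective (f := e.toMonoidHom) e.surjective
  have hT0 : (T0 : Subgroup G) = sylowSub.map e.toMonoidHom := by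
    rw [← coe_sylowJ]; rfl
  refine isSimple_of_data T0 ?_ ?_ ?_ S <;> rw [hT0]
  · rw [Ne, Subgroup.map_eq_bot_iff_of_injective _ e.injective]
    exact sylowSub_ne_bot
  · intro T hT
    have h0 : EltClosed sylowSub (T.comap e.toMonoidHom) := by
      refine ⟨fun x hx => ?_, fun x hx g hg => ?_⟩
      · obtain ⟨y, hy, hye⟩ := hT.1 hx
        exact e.injective hye ▸ hy
      · have h := hT.2 (e x) hx (e g) ⟨g * x * g⁻¹, hg, by simp⟩
        show e (g * x * g⁻¹) ∈ T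
        simpa using h
    have hT' : (T.comap e.toMonoidHom).map e.toMonoidHom = T :=
      Subgroup.map_comap_eq_self_of_surjective e.surjective T
    rcases eq_of_eltClosed _ h0 with h | h <;> rw [← hT', h]
    exacts [Or.inl (Subgroup.map_bot _), Or.inr rfl]
  · intro g hg
    obtain ⟨x, rfl⟩ := e.surjective g
    refine Subgroup.mem_sup_right (Subgroup.subset_closure
      (radGens_map e (normalizer_subset_radGens x (Subgroup.mem_normalizer_iff.2 fun y => ?_))))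
    have h := Subgroup.mem_normalizer_iff.1 hg (e y)
    simp only [← map_inv, ← map_mul] at h
    constructor
    · intro hy
      obtain ⟨z, hz, hze⟩ := h.1 ⟨y, hy, rfl⟩
      exact e.injective hze ▸ hz
    · intro hy
      obtain ⟨z, hz, hze⟩ := h.2 ⟨_, hy, rfl⟩
      exact e.injective hze ▸ hz

end Cfsg.Agent.JankoTwo
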