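import Cfsg.Agent.JankoTwo.GroupData
import Cfsg.Agent.JankoTwo.Chunks

/-! Kernel checks of the stabiliser chain. -/

set_option autoImplicit false
set_option maxHeartbeats 0

namespace Cfsg.Agent.JankoTwo

open Cfsg.Agent.Compute

/-- Packed permutations of the 315 axes. -/
noncomputable def rep315 : Rep (Equiv.Perm (Fin 315)) (Fin 315) :=
  permRep 9 315 (Equiv.refl _) (by norm_num) (by norm_num)

theorem head0 : levelHead rep315 j2L0 [j2L1, j2L2, j2L3] = true := by decide +kernel
theorem size0 : Nat.beq j2L0.size 315 = true := by decide +kernel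

theorem entry0_0 :
    allRange 0 100 (rep315.checkEntry j2L0) = true := by decide +kernel

theorem entry0_100 :
    allRange 100 100 (rep315.checkEntry j2L0) = true := by decide +kernel

theorem entry0_200 :
    allRange 200 100 (rep315.checkEntry j2L0) = true := by decide +kernel

theorem entry0_300 :
    allRange 300 15 (rep315.checkEntry j2L0) = true := by decide +kernel

theorem entry0 : allBelow j2L0.size (rep315.checkEntry j2L0) = true := by
  refine allBelow_of_eq (Nat.eq_of_beq_eq_true size0).symm ?_
  refine allBelow_step (a := 300) (b := 15) (by norm_num) ?_ entry0_300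
  refine allBelow_step (a := 200) (b := 100) (by norm_num) ?_ entry0_200
  refine allBelow_step (a := 100) (b := 100) (by norm_num) ?_ entry0_100
  refine allBelow_step (a := 0) (b := 100) (by norm_num) ?_ entry0_0
  exact allBelow_zero _

theorem sch0_0 :
    allRange 0 35 (schreierAt rep315 j2L0 [j2L1, j2L2, j2L3]) = true := by decide +kernel

theorem sch0_35 :
    allRange 35 35 (schreierAt rep315 j2L0 [j2L1, j2L2, j2L3]) = true := by decide +kernel

theorem sch0_70 :
    allRange 70 35 (schreierAt rep315 j2L0 [j2L1, j2L2, j2L3]) = true := by decide +kernel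

theorem sch0_105 :
    allRange 105 35 (schreierAt rep315 j2L0 [j2L1, j2L2, j2L3]) = true := by decide +kernel

theorem sch0_140 :
    allRange 140 35 (schreierAt rep315 j2L0 [j2L1, j2L2, j2L3]) = true := by decide +kernel

theorem sch0_175 :
    allRange 175 35 (schreierAt rep315 j2L0 [j2L1, j2L2, j2L3]) = true := by decide +kernel

theorem sch0_210 :
    allRange 210 35 (schreierAt rep315 j2L0 [j2L1, j2L2, j2L3]) = true := by decide +kernel

theorem sch0_245 :
    allRange 245 35 (schreierAt rep315 j2L0 [j2L1, j2L2, j2L3]) = true := by decide +kernel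

theorem sch0_280 :
    allRange 280 35 (schreierAt rep315 j2L0 [j2L1, j2L2, j2L3]) = true := by decide +kernel

theorem sch0 : allBelow j2L0.size (schreierAt rep315 j2L0 [j2L1, j2L2, j2L3]) = true := by
  refine allBelow_of_eq (Nat.eq_of_beq_eq_true size0).symm ?_
  refine allBelow_step (a := 280) (b := 35) (by norm_num) ?_ sch0_280
  refine allBelow_step (a := 245) (b := 35) (by norm_num) ?_ sch0_245
  refine allBelow_step (a := 210) (b := 35) (by norm_num) ?_ sch0_210
  refine allBelow_step (a := 175) (b := 35) (by norm_num) ?_ sch0_175
  refine allBelow_step (a := 140) (b := 35) (by norm_num) ?_ sch0_140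
  refine allBelow_step (a := 105) (b := 35) (by norm_num) ?_ sch0_105
  refine allBelow_step (a := 70) (b := 35) (by norm_num) ?_ sch0_70
  refine allBelow_step (a := 35) (b := 35) (by norm_num) ?_ sch0_35
  refine allBelow_step (a := 0) (b := 35) (by norm_num) ?_ sch0_0
  exact allBelow_zero _

theorem head1 : levelHead rep315 j2L1 [j2L2, j2L3] = true := by decide +kernel
theorem size1 : Nat.beq j2L1.size 160 = true := by decide +kernel

theorem entry1_0 :
    allRange 0 100 (rep315.checkEntry j2L1) = true := by decide +kernel

theorem entry1_100 :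
    allRange 100 60 (rep315.checkEntry j2L1) = true := by decide +kernel

theorem entry1 : allBelow j2L1.size (rep315.checkEntry j2L1) = true := by
  refine allBelow_of_eq (Nat.eq_of_beq_eq_true size1).symm ?_
  refine allBelow_step (a := 100) (b := 60) (by norm_num) ?_ entry1_100
  refine allBelow_step (a := 0) (b := 100) (by norm_num) ?_ entry1_0
  exact allBelow_zero _

theorem sch1_0 :
    allRange 0 35 (schreierAt rep315 j2L1 [j2L2, j2L3]) = true := by decide +kernel

theorem sch1_35 :
    allRange 35 35 (schreierAt rep315 j2L1 [j2L2, j2L3]) = true := by decide +kernel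

theorem sch1_70 :
    allRange 70 35 (schreierAt rep315 j2L1 [j2L2, j2L3]) = true := by decide +kernel

theorem sch1_105 :
    allRange 105 35 (schreierAt rep315 j2L1 [j2L2, j2L3]) = true := by decide +kernel

theorem sch1_140 :
    allRange 140 20 (schreierAt rep315 j2L1 [j2L2, j2L3]) = true := by decide +kernel

theorem sch1 : allBelow j2L1.size (schreierAt rep315 j2L1 [j2L2, j2L3]) = true := by
  refine allBelow_of_eq (Nat.eq_of_beq_eq_true size1).symm ?_
  refine allBelow_step (a := 140) (b := 20) (by norm_num) ?_ sch1_140
  refine allBelow_step (a := 105) (b := 35) (by norm_num) ?_ sch1_105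
  refine allBelow_step (a := 70) (b := 35) (by norm_num) ?_ sch1_70
  refine allBelow_step (a := 35) (b := 35) (by norm_num) ?_ sch1_35
  refine allBelow_step (a := 0) (b := 35) (by norm_num) ?_ sch1_0
  exact allBelow_zero _

theorem head2 : levelHead rep315 j2L2 [j2L3] = true := by decide +kernel
theorem size2 : Nat.beq j2L2.size 4 = true := by decide +kernel

theorem entry2_0 :
    allRange 0 4 (rep315.checkEntry j2L2) = true := by decide +kernel

theorem entry2 : allBelow j2L2.size (rep315.checkEntry j2L2) = true := by
  refine allBelow_of_eq (Nat.eq_of_beq_eq_true size2).symm ?_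
  refine allBelow_step (a := 0) (b := 4) (by norm_num) ?_ entry2_0
  exact allBelow_zero _

theorem sch2_0 :
    allRange 0 4 (schreierAt rep315 j2L2 [j2L3]) = true := by decide +kernel

theorem sch2 : allBelow j2L2.size (schreierAt rep315 j2L2 [j2L3]) = true := by
  refine allBelow_of_eq (Nat.eq_of_beq_eq_true size2).symm ?_
  refine allBelow_step (a := 0) (b := 4) (by norm_num) ?_ sch2_0
  exact allBelow_zero _

theorem head3 : levelHead rep315 j2L3 [] = true := by decide +kernel
theorem size3 : Nat.beq j2L3.size 3 = true := by decide +kernel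

theorem entry3_0 :
    allRange 0 3 (rep315.checkEntry j2L3) = true := by decide +kernel

theorem entry3 : allBelow j2L3.size (rep315.checkEntry j2L3) = true := by
  refine allBelow_of_eq (Nat.eq_of_beq_eq_true size3).symm ?_
  refine allBelow_step (a := 0) (b := 3) (by norm_num) ?_ entry3_0
  exact allBelow_zero _

theorem sch3_0 :
    allRange 0 3 (schreierAt rep315 j2L3 []) = true := by decide +kernel

theorem sch3 : allBelow j2L3.size (schreierAt rep315 j2L3 []) = true := by
  refine allBelow_of_eq (Nat.eq_of_beq_eq_true size3).symm ?_
  refine allBelow_step (a := 0) (b := 3) (by norm_num) ?_ sch3_0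
  exact allBelow_zero _

theorem j2Chain_check : rep315.checkChain j2Chain = true := by
  simp only [j2Chain, Rep.checkChain_cons, Bool.and_eq_true]
  exact ⟨checkLevel_of_parts _ head0 entry0 sch0, checkLevel_of_parts _ head1 entry1 sch1,
    checkLevel_of_parts _ head2 entry2 sch2, checkLevel_of_parts _ head3 entry3 sch3, rfl⟩

theorem j2Slp_check : rep315.slpCheck j2Slp (rep315.one :: genCodes) j2L0.gens = true := by
  decide +kernel

theorem j2Chain_size : chainSize j2Chain = 604800 := by decide +kernel

theorem genCodes_ok : genCodes.all (codePermB 9 315) = true := by decide +kernel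

end Cfsg.Agent.JankoTwo
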