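import Cfsg.Agent.JankoTwo.Refl
import Cfsg.Agent.JankoTwo.GroupCheck

/-!
`2·J₂` acts on the 315 reflections by conjugation; the image is the group of a checked stabiliser
chain and the kernel is the centre.
-/

set_option autoImplicit false

namespace Cfsg.Agent.JankoTwo

open Cfsg.Spor Quaternion Cfsg.Agent.Compute

/-- Left-linear isometries of the lattice. -/
structure IsLin (g : Equiv.Perm icoLeech) : Prop where
  add : ∀ x y z : icoLeech, (z : Fin 3 → ℍ[ℝ]) = (x : Fin 3 → ℍ[ℝ]) + y →
    (g z : Fin 3 → ℍ[ℝ]) = (g x : Fin 3 → ℍ[ℝ]) + g y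
  smul : ∀ a ∈ icosians, ∀ x z : icoLeech,
    (z : Fin 3 → ℍ[ℝ]) = (fun t => a * (x : Fin 3 → ℍ[ℝ]) t) →
    (g z : Fin 3 → ℍ[ℝ]) = fun t => a * (g x : Fin 3 → ℍ[ℝ]) t
  ip : ∀ x y : icoLeech, qip (g x : Fin 3 → ℍ[ℝ]) (g y) = qip (x : Fin 3 → ℍ[ℝ]) y

theorem isLin_one : IsLin 1 :=
  ⟨fun _ _ _ h => h, fun _ _ _ _ h => h, fun _ _ => rfl⟩

theorem IsLin.mul {g h : Equiv.Perm icoLeech} (hg : IsLin g) (hh : IsLin h) : IsLin (g * h) :=
  ⟨fun x y z e => hg.add _ _ _ (hh.add x y z e),
    fun a ha x z e => hg.smul a ha _ _ (hh.smul a ha x z e),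
    fun x y => (hg.ip (h x) (h y)).trans (hh.ip x y)⟩

theorem IsLin.inv {g : Equiv.Perm icoLeech} (hg : IsLin g) : IsLin g⁻¹ := by
  have hi : ∀ x, g (g⁻¹ x) = x := fun x => Equiv.apply_symm_apply g x
  refine ⟨fun x y z e => ?_, fun a ha x z e => ?_, fun x y => ?_⟩
  · let w : icoLeech := ⟨_, icoLeech_add (g⁻¹ x).2 (g⁻¹ y).2⟩
    have hw := hg.add (g⁻¹ x) (g⁻¹ y) w rfl
    rw [hi, hi, ← e] at hw
    have : g⁻¹ z = w := by
      rw [← Subtype.ext hw]; exact Equiv.symm_apply_apply g w
    rw [this]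
  · let w : icoLeech := ⟨_, icoLeech_smul ha (g⁻¹ x).2⟩
    have hw := hg.smul a ha (g⁻¹ x) w rfl
    rw [hi, ← e] at hw
    have : g⁻¹ z = w := by
      rw [← Subtype.ext hw]; exact Equiv.symm_apply_apply g w
    rw [this]
  · rw [← hg.ip (g⁻¹ x) (g⁻¹ y), hi, hi]

theorem isLin_reflPerm (r : icoLeech) (hr : qip (r : Fin 3 → ℍ[ℝ]) r = 4) :
    IsLin (reflPerm r hr) := by
  refine ⟨fun x y z e => ?_, fun a _ x z e => ?_, fun x y => ?_⟩
  · simp only [reflPerm_apply, e, qrefl_add]
  · simp only [reflPerm_apply, e, qrefl_smul]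
  · simp only [reflPerm_apply, qip_qrefl hr]

theorem isLin_of_mem {g : Equiv.Perm icoLeech} (hg : g ∈ twoJ2) : IsLin g := by
  induction hg using Subgroup.closure_induction with
  | mem f hf =>
    obtain ⟨i, rfl⟩ := isIcoReflection_iff.mp hf
    exact isLin_reflPerm _ _
  | one => exact isLin_one
  | mul a b _ _ ha hb => exact ha.mul hb
  | inv a _ ha => exact ha.inv

theorem IsLin.norm_eq {g : Equiv.Perm icoLeech} (hg : IsLin g) {r : icoLeech}
    (hr : qip (r : Fin 3 → ℍ[ℝ]) r = 4) : qip (g r : Fin 3 → ℍ[ℝ]) (g r) = 4 :=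
  (hg.ip r r).trans hr

/-- Conjugating a reflection moves its vector. -/
theorem conj_reflPerm {g : Equiv.Perm icoLeech} (hg : IsLin g) {r : icoLeech}
    (hr : qip (r : Fin 3 → ℍ[ℝ]) r = 4) :
    g * reflPerm r hr * g⁻¹ = reflPerm (g r) (hg.norm_eq hr) := by
  ext x : 1
  apply Subtype.ext
  obtain ⟨y, rfl⟩ := g.surjective x
  rw [Equiv.Perm.mul_apply, Equiv.Perm.mul_apply, show g⁻¹ (g y) = y from g.symm_apply_apply y,
    reflPerm_apply]
  obtain ⟨a, ha, he⟩ := qip_even y.2 r.2
  let w : icoLeech := ⟨_, icoLeech_smul ha r.2⟩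
  have hy : (y : Fin 3 → ℍ[ℝ]) = (reflPerm r hr y : Fin 3 → ℍ[ℝ]) + w := by
    funext t
    simp only [reflPerm_apply, qrefl, he, Pi.add_apply, w, two_mul, ← two_smul ℝ, smul_smul]
    norm_num
  have h1 := hg.add _ _ _ hy
  rw [hg.smul a ha r w rfl] at h1
  funext t
  simp only [qrefl, hg.ip, he]
  rw [h1]
  simp only [Pi.add_apply, two_mul, ← two_smul ℝ, smul_smul]
  norm_num

/-- The reflections, as a type. -/
abbrev SR : Type := {f : Equiv.Perm icoLeech // IsIcoReflection f}

/-- The numbering of the reflections. -/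
noncomputable def eSR : Fin 315 ≃ SR :=
  Equiv.ofBijective (fun i => ⟨refl315 i, isIcoReflection_iff.mpr ⟨i, rfl⟩⟩)
    ⟨fun _ _ h => refl315_injective (congrArg Subtype.val h),
      fun f => (isIcoReflection_iff.mp f.2).imp fun _ h => Subtype.ext h.symm⟩

theorem eSR_coe (i : Fin 315) : (eSR i : Equiv.Perm icoLeech) = refl315 i := rfl

theorem refl315_mem (i : Fin 315) : refl315 i ∈ twoJ2 :=
  Subgroup.subset_closure (isIcoReflection_iff.mpr ⟨i, rfl⟩)

theorem conj_isIcoReflection {g : Equiv.Perm icoLeech} (hg : IsLin g) {f : Equiv.Perm icoLeech}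
    (hf : IsIcoReflection f) : IsIcoReflection (g * f * g⁻¹) := by
  obtain ⟨i, rfl⟩ := isIcoReflection_iff.mp hf
  rw [refl315, conj_reflPerm hg]
  exact isIcoReflection_reflPerm _ _

/-- Conjugation of reflections. -/
noncomputable def conjSR (g : twoJ2) : Equiv.Perm SR where
  toFun f := ⟨(g : Equiv.Perm icoLeech) * f * (g : Equiv.Perm icoLeech)⁻¹,
    conj_isIcoReflection (isLin_of_mem g.2) f.2⟩
  invFun f := ⟨(g : Equiv.Perm icoLeech)⁻¹ * f * g, by
    simpa using conj_isIcoReflection (isLin_of_mem g.2).inv f.2⟩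
  left_inv f := by ext1; simp [mul_assoc]
  right_inv f := by ext1; simp [mul_assoc]

/-- The action of `2·J₂` on the 315 axes. -/
noncomputable def piJ : twoJ2 →* Equiv.Perm (Fin 315) where
  toFun g := eSR.symm.permCongr (conjSR g)
  map_one' := by
    ext i : 1
    simp only [Equiv.permCongr_apply, Equiv.symm_symm, Equiv.Perm.one_apply, Equiv.symm_apply_eq]
    ext1
    simp [conjSR]
  map_mul' g h := by
    ext i : 1
    simp only [Equiv.permCongr_apply, Equiv.symm_symm, Equiv.Perm.mul_apply,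
      Equiv.apply_symm_apply]
    congr 1

theorem piJ_spec (g : twoJ2) (i : Fin 315) :
    refl315 (piJ g i) = (g : Equiv.Perm icoLeech) * refl315 i * (g : Equiv.Perm icoLeech)⁻¹ := by
  have h : eSR (piJ g i) = conjSR g (eSR i) := eSR.apply_symm_apply _
  exact congrArg Subtype.val h

theorem genAxes_lt (k : Fin 4) : genAxes.getD k 0 < 315 := by
  have := allBelow_eq_true.mp genAxes_bounds.2 k k.2
  simpa [Nat.blt_eq] using this

/-- The four generating reflections. -/
noncomputable def genR (k : Fin 4) : twoJ2 :=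
  ⟨refl315 ⟨genAxes.getD k 0, genAxes_lt k⟩, refl315_mem _⟩

/-- The code of a generator. -/
noncomputable def genC (k : Fin 4) : ℕ := genCodes.getD k 0

theorem genC_mem (k : Fin 4) : genC k ∈ genCodes := by
  have hk : (k : ℕ) < genCodes.length := genAxes_bounds.1.symm ▸ k.2
  rw [genC, List.getD_eq_getElem _ _ hk]
  exact List.getElem_mem hk

theorem genC_ok (k : Fin 4) : CodePerm 9 315 (genC k) :=
  codePerm_of_check (List.all_eq_true.mp genCodes_ok _ (genC_mem k))

theorem piJ_genR (k : Fin 4) : piJ (genR k) = rep315.den (genC k) := by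
  refine (denPerm_ext (Equiv.refl (Fin 315)) (genC_ok k) _ fun j => ?_).symm
  apply refl315_injective
  simp only [Equiv.refl_apply]
  rw [piJ_spec]
  have h := allBelow_eq_true.mp (allBelow_eq_true.mp genCheck_ok k k.2) j j.2
  unfold genAt at h
  simp only [Bool.and_eq_true, Nat.blt_eq, v3_beq_iff] at h
  obtain ⟨hu, he⟩ := h
  simp only [genR]
  conv_lhs => rw [refl315, refl315]
  rw [conj_reflPerm (isLin_reflPerm _ _)]
  refine refl_eq_of_unit ⟨_, hu⟩ _ ?_
  rw [reflPerm_apply, axP_coe, axP_coe, axP_coe,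
    ← q_refl (axis_spec (axI_mem (genAxes_lt k))).1 (axis_spec (axI_mem j.2)).1, he, v3_q_smul]
  rfl

/-- The subgroup generated by the four reflections. -/
noncomputable def genGroup : Subgroup twoJ2 := Subgroup.closure (Set.range genR)

theorem genAxes_zero : genAxes.getD 0 0 = 0 := by decide +kernel

theorem refl315_mem_genGroup : ∀ n (hn : n < 315),
    (⟨refl315 ⟨n, hn⟩, refl315_mem _⟩ : twoJ2) ∈ genGroup := by
  intro n
  induction n using Nat.strong_induction_on with
  | _ n ih =>
    intro hn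
    by_cases h0 : n = 0
    · subst h0
      have : (⟨refl315 ⟨0, hn⟩, refl315_mem _⟩ : twoJ2) = genR 0 := by
        apply Subtype.ext
        simp only [genR]
        congr 1
      rw [this]
      exact Subgroup.subset_closure ⟨0, rfl⟩
    · have h := allBelow_eq_true.mp parentCheck_ok (n - 1) (by omega)
      simp only [Bool.and_eq_true, Nat.blt_eq, Nat.beq_eq,
        show (n - 1).succ = n by omega] at h
      obtain ⟨⟨hp, hk⟩, he⟩ := h
      have hp' := ih _ hp (by omega)
      have hg : genR ⟨_, hk⟩ ∈ genGroup := Subgroup.subset_closure ⟨_, rfl⟩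
      convert mul_mem (mul_mem hg hp') (inv_mem hg) using 1
      apply Subtype.ext
      simp only [Subgroup.coe_mul, Subgroup.coe_inv]
      rw [← piJ_spec, piJ_genR]
      congr 1
      have := denPerm_apply (Equiv.refl (Fin 315)) (genC_ok ⟨_, hk⟩)
        ⟨getField 9 parentCode n, by omega⟩
      simp only [Equiv.refl_apply] at this
      rw [show rep315.den = denPerm 9 315 (Equiv.refl _) from rfl, this]
      exact Fin.ext he.symm

theorem genGroup_eq_top : genGroup = ⊤ := by
  rw [eq_top_iff]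
  rintro ⟨g, hg⟩ -
  induction hg using Subgroup.closure_induction with
  | mem f hf =>
    obtain ⟨i, rfl⟩ := isIcoReflection_iff.mp hf
    exact refl315_mem_genGroup i i.2
  | one => exact one_mem genGroup
  | mul a b ha hb iha ihb => exact genGroup.mul_mem (iha : (⟨a, ha⟩ : twoJ2) ∈ genGroup) ihb
  | inv a ha iha => exact genGroup.inv_mem (iha : (⟨a, ha⟩ : twoJ2) ∈ genGroup)

theorem gens_sift : allBelow 4 (fun k => Nat.beq (rep315.sift j2Chain (genCodes.getD k 0)) rep315.one) =
    true := by decide +kernel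

theorem topGens_eq : rep315.chainGroup j2Chain = rep315.span j2L0.gens := rfl

/-- The image is the group of the chain. -/
theorem range_piJ : piJ.range = rep315.chainGroup j2Chain := by
  have h1 : piJ.range = Subgroup.closure (Set.range fun k => rep315.den (genC k)) := by
    rw [MonoidHom.range_eq_map, ← genGroup_eq_top, genGroup, MonoidHom.map_closure,
      ← Set.range_comp]
    simp only [Function.comp_def, piJ_genR]
  rw [h1]
  refine le_antisymm ((Subgroup.closure_le _).mpr ?_) ?_
  · rintro _ ⟨k, rfl⟩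
    have := allBelow_eq_true.mp gens_sift k k.2
    exact rep315.mem_of_sift j2Chain j2Chain_check (genC_ok k) (Nat.eq_of_beq_eq_true this)
  · rw [topGens_eq, Rep.span, Subgroup.closure_le]
    rintro _ ⟨t, ht, rfl⟩
    refine (rep315.slp_sound j2Slp _ _ _ ?_ j2Slp_check t ht).2
    intro c hc
    rcases List.mem_cons.mp hc with rfl | hc
    · exact ⟨rep315.ok_one, by rw [rep315.den_one]; exact one_mem _⟩
    · obtain ⟨k, hk, rfl⟩ := List.getElem_of_mem hc
      have hk4 : k < 4 := genAxes_bounds.1 ▸ hk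
      refine ⟨codePerm_of_check (List.all_eq_true.mp genCodes_ok _ (List.getElem_mem hk)),
        Subgroup.subset_closure ⟨⟨k, hk4⟩, ?_⟩⟩
      simp only [genC, List.getD_eq_getElem _ _ hk]

theorem card_range_piJ : Nat.card piJ.range = 604800 := by
  rw [range_piJ, rep315.card_chainGroup _ j2Chain_check, j2Chain_size]

theorem ker_piJ : piJ.ker = Subgroup.center twoJ2 := by
  ext g
  rw [MonoidHom.mem_ker, Subgroup.mem_center_iff]
  constructor
  · intro hg h
    have hcomm : ∀ i, (g : Equiv.Perm icoLeech) * refl315 i = refl315 i * g := by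
      intro i
      have := piJ_spec g i
      rw [hg, Equiv.Perm.one_apply, eq_mul_inv_iff_mul_eq] at this
      exact this.symm
    obtain ⟨h, hh⟩ := h
    apply Subtype.ext
    change h * (g : Equiv.Perm icoLeech) = g * h
    have hc : h ∈ Subgroup.centralizer {(g : Equiv.Perm icoLeech)} := by
      refine (Subgroup.closure_le _).mpr ?_ hh
      intro f hf
      obtain ⟨i, rfl⟩ := isIcoReflection_iff.mp hf
      exact Subgroup.mem_centralizer_singleton_iff.mpr (hcomm i).symm
    exact Subgroup.mem_centralizer_singleton_iff.mp hc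
  · intro hg
    ext i : 1
    apply refl315_injective
    rw [piJ_spec, Equiv.Perm.one_apply]
    have := congrArg Subtype.val (hg ⟨refl315 i, refl315_mem i⟩)
    simp only [Subgroup.coe_mul] at this
    rw [← this, mul_inv_cancel_right]

/-- `J₂` as a permutation group of the axes. -/
noncomputable def j2Equiv : J2 ≃* piJ.range :=
  (QuotientGroup.quotientMulEquivOfEq ker_piJ.symm).trans (QuotientGroup.quotientKerEquivRange piJ)

theorem card_J2 : Nat.card J2 = 604800 := by
  rw [Nat.card_congr j2Equiv.toEquiv, card_range_piJ]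

theorem exists_piJ_zero : ∀ n (hn : n < 315), ∃ g : twoJ2, piJ g 0 = ⟨n, hn⟩ := by
  intro n
  induction n using Nat.strong_induction_on with
  | _ n ih =>
    intro hn
    by_cases h0 : n = 0
    · exact ⟨1, by subst h0; rw [map_one]; rfl⟩
    · have h := allBelow_eq_true.mp parentCheck_ok (n - 1) (by omega)
      simp only [Bool.and_eq_true, Nat.blt_eq, Nat.beq_eq,
        show (n - 1).succ = n by omega] at h
      obtain ⟨⟨hp, hk⟩, he⟩ := h
      obtain ⟨g, hg⟩ := ih _ hp (by omega)
      refine ⟨genR ⟨_, hk⟩ * g, ?_⟩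
      rw [map_mul, Equiv.Perm.mul_apply, hg, piJ_genR]
      have := denPerm_apply (Equiv.refl (Fin 315)) (genC_ok ⟨_, hk⟩)
        ⟨getField 9 parentCode n, by omega⟩
      simp only [Equiv.refl_apply] at this
      rw [show rep315.den = denPerm 9 315 (Equiv.refl _) from rfl, this]
      exact Fin.ext he

theorem piJ_trans (i j : Fin 315) : ∃ g : twoJ2, piJ g i = j := by
  obtain ⟨g, hg⟩ := exists_piJ_zero i i.2
  obtain ⟨h, hh⟩ := exists_piJ_zero j j.2
  exact ⟨h * g⁻¹, by
    rw [map_mul, Equiv.Perm.mul_apply, map_inv, Equiv.Perm.inv_eq_iff_eq.mpr hg.symm, hh]⟩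

theorem refl_conj {f f' : Equiv.Perm icoLeech} (hf : IsIcoReflection f) (hf' : IsIcoReflection f') :
    ∃ g ∈ twoJ2, g * f * g⁻¹ = f' := by
  obtain ⟨i, rfl⟩ := isIcoReflection_iff.mp hf
  obtain ⟨j, rfl⟩ := isIcoReflection_iff.mp hf'
  obtain ⟨g, rfl⟩ := piJ_trans i j
  exact ⟨g, g.2, (piJ_spec g i).symm⟩

end Cfsg.Agent.JankoTwo
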