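import Cfsg.Prelude.Def_Spor_J2

/-!
A computable model of the icosian ring: `a + b i + c ω + d iω` with coefficients in `ℤ[τ]`,
`ω = ½(1 + σi + τk)`, and of triples of icosians.
-/

set_option autoImplicit false

namespace Cfsg.Agent.JankoTwo

open Cfsg.Spor Quaternion

/-- `u + v τ`. -/
@[ext] structure Zt where
  u : ℤ
  v : ℤ
deriving DecidableEq

def Zt.add (a b : Zt) : Zt := ⟨a.u + b.u, a.v + b.v⟩
def Zt.sub (a b : Zt) : Zt := ⟨a.u - b.u, a.v - b.v⟩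
def Zt.mul (a b : Zt) : Zt :=
  ⟨a.u * b.u + a.v * b.v, a.u * b.v + a.v * b.u + a.v * b.v⟩
def Zt.neg (a : Zt) : Zt := ⟨-a.u, -a.v⟩
def Zt.ofInt (n : ℤ) : Zt := ⟨n, 0⟩
/-- `σ = 1 - τ`. -/
def Zt.sg : Zt := ⟨1, -1⟩

/-- The real embedding. -/
noncomputable def Zt.r (a : Zt) : ℝ := a.u + a.v * tau

/-- The conjugate real embedding. -/
noncomputable def Zt.r' (a : Zt) : ℝ := a.u + a.v * sig

theorem tau_sq : tau * tau = tau + 1 := by
  have h : Real.sqrt 5 * Real.sqrt 5 = 5 := Real.mul_self_sqrt (by norm_num)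
  simp only [tau]; linear_combination h / 4

theorem sig_sq : sig * sig = sig + 1 := by
  have h : Real.sqrt 5 * Real.sqrt 5 = 5 := Real.mul_self_sqrt (by norm_num)
  simp only [sig]; linear_combination h / 4

theorem sig_eq : sig = 1 - tau := by simp only [sig, tau]; ring

@[simp] theorem r_add (a b : Zt) : (a.add b).r = a.r + b.r := by simp [Zt.r, Zt.add]; ring
@[simp] theorem r_sub (a b : Zt) : (a.sub b).r = a.r - b.r := by simp [Zt.r, Zt.sub]; ring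
@[simp] theorem r_neg (a : Zt) : (a.neg).r = -a.r := by simp [Zt.r, Zt.neg]; ring
@[simp] theorem r_ofInt (n : ℤ) : (Zt.ofInt n).r = n := by simp [Zt.r, Zt.ofInt]
@[simp] theorem r_sg : Zt.sg.r = sig := by simp [Zt.r, Zt.sg, sig_eq]; ring
@[simp] theorem r_mul (a b : Zt) : (a.mul b).r = a.r * b.r := by
  simp only [Zt.r, Zt.mul, Int.cast_add, Int.cast_mul]
  linear_combination (-(a.v : ℝ) * b.v) * tau_sq

@[simp] theorem r'_add (a b : Zt) : (a.add b).r' = a.r' + b.r' := by simp [Zt.r', Zt.add]; ring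
@[simp] theorem r'_sub (a b : Zt) : (a.sub b).r' = a.r' - b.r' := by simp [Zt.r', Zt.sub]; ring
@[simp] theorem r'_mul (a b : Zt) : (a.mul b).r' = a.r' * b.r' := by
  simp only [Zt.r', Zt.mul, Int.cast_add, Int.cast_mul]
  linear_combination (-(a.v : ℝ) * b.v) * sig_sq

theorem r_inj {a b : Zt} (h : a.r = b.r) : a = b := by
  have h5 : Irrational (Real.sqrt 5) := by
    simpa using Nat.Prime.irrational_sqrt (p := 5) (by norm_num)
  have hv : a.v = b.v := by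
    by_contra hne
    apply h5
    refine ⟨((2 * (b.u - a.u) : ℤ) : ℚ) / (a.v - b.v : ℤ) - 1, ?_⟩
    have hd : ((a.v - b.v : ℤ) : ℝ) ≠ 0 := Int.cast_ne_zero.mpr (sub_ne_zero.mpr hne)
    push_cast at hd ⊢
    simp only [Zt.r, tau] at h
    field_simp
    linear_combination (2 : ℝ) * h.symm
  refine Zt.ext ?_ hv
  simp only [Zt.r, hv] at h
  exact_mod_cast add_right_cancel h

/-- An icosian by its coefficients with respect to `1, i, ω, iω`. -/
@[ext] structure Ico where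
  a : Zt
  b : Zt
  c : Zt
  d : Zt
deriving DecidableEq

def Ico.add (x y : Ico) : Ico := ⟨x.a.add y.a, x.b.add y.b, x.c.add y.c, x.d.add y.d⟩
def Ico.sub (x y : Ico) : Ico := ⟨x.a.sub y.a, x.b.sub y.b, x.c.sub y.c, x.d.sub y.d⟩
def Ico.neg (x : Ico) : Ico := ⟨x.a.neg, x.b.neg, x.c.neg, x.d.neg⟩
def Ico.ofInt (n : ℤ) : Ico := ⟨Zt.ofInt n, Zt.ofInt 0, Zt.ofInt 0, Zt.ofInt 0⟩
def Ico.unI : Ico := ⟨Zt.ofInt 0, Zt.ofInt 1, Zt.ofInt 0, Zt.ofInt 0⟩
def Ico.unW : Ico := ⟨Zt.ofInt 0, Zt.ofInt 0, Zt.ofInt 1, Zt.ofInt 0⟩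
/-- The icosian `h`. -/
def Ico.hI : Ico := ⟨⟨2, -2⟩, ⟨1, 0⟩, ⟨-1, 1⟩, ⟨1, -1⟩⟩

def Ico.mul (x y : Ico) : Ico :=
  ⟨((((((x.a.mul y.a).sub (x.b.mul y.b)).sub (x.c.mul y.c)).sub
      ((Zt.sg.mul x.c).mul y.b)).sub (x.d.mul y.b)).sub (x.d.mul y.d)),
    ((((((x.a.mul y.b).add (x.b.mul y.a)).add (x.c.mul y.b)).add (x.c.mul y.d)).sub
      ((Zt.sg.mul x.d).mul y.b)).sub (x.d.mul y.c)),
    ((((((x.a.mul y.c).add (x.c.mul y.a)).add (x.c.mul y.c)).sub (x.b.mul y.d)).add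
      (x.d.mul y.b)).sub ((Zt.sg.mul x.c).mul y.d)),
    ((((((x.a.mul y.d).add (x.d.mul y.a)).add (x.b.mul y.c)).sub (x.c.mul y.b)).add
      (x.d.mul y.c)).sub ((Zt.sg.mul x.d).mul y.d))⟩

def Ico.conj (x : Ico) : Ico :=
  ⟨(x.a.add x.c).sub (Zt.sg.mul x.d), x.b.neg, x.c.neg, x.d.neg⟩

/-- The reduced norm. -/
def Ico.nrm (x : Ico) : Zt := (x.mul x.conj).a

/-- The quaternion. -/
noncomputable def Ico.q (x : Ico) : ℍ[ℝ] :=
  ⟨x.a.r + x.c.r / 2 - x.d.r * sig / 2, x.b.r + x.c.r * sig / 2 + x.d.r / 2,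
    -(x.d.r * tau) / 2, x.c.r * tau / 2⟩

theorem q_re (x : Ico) : x.q.re = x.a.r + x.c.r / 2 - x.d.r * sig / 2 := rfl
theorem q_imI (x : Ico) : x.q.imI = x.b.r + x.c.r * sig / 2 + x.d.r / 2 := rfl
theorem q_imJ (x : Ico) : x.q.imJ = -(x.d.r * tau) / 2 := rfl
theorem q_imK (x : Ico) : x.q.imK = x.c.r * tau / 2 := rfl

@[simp] theorem q_add (x y : Ico) : (x.add y).q = x.q + y.q := by
  ext <;> simp [q_re, q_imI, q_imJ, q_imK, Ico.add] <;> ring
@[simp] theorem q_sub (x y : Ico) : (x.sub y).q = x.q - y.q := by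
  ext <;> simp [q_re, q_imI, q_imJ, q_imK, Ico.sub] <;> ring
@[simp] theorem q_neg (x : Ico) : (x.neg).q = -x.q := by
  ext <;> simp [q_re, q_imI, q_imJ, q_imK, Ico.neg] <;> ring
@[simp] theorem q_ofInt (n : ℤ) : (Ico.ofInt n).q = (n : ℍ[ℝ]) := by
  ext <;> simp [q_re, q_imI, q_imJ, q_imK, Ico.ofInt]
@[simp] theorem q_mul (x y : Ico) : (x.mul y).q = x.q * y.q := by
  ext <;> simp [q_re, q_imI, q_imJ, q_imK, Ico.mul, Quaternion.re_mul, Quaternion.imI_mul, Quaternion.imJ_mul,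
    Quaternion.imK_mul, sig_eq] <;> ring_nf <;> simp only [sq, tau_sq] <;> ring_nf <;>
    simp only [sq, tau_sq] <;> ring
@[simp] theorem q_conj (x : Ico) : x.conj.q = star x.q := by
  ext <;> simp [q_re, q_imI, q_imJ, q_imK, Ico.conj] <;> ring

theorem tau_ne_zero : tau ≠ 0 := by
  intro h
  have := tau_sq
  rw [h] at this
  norm_num at this

theorem q_inj {x y : Ico} (h : x.q = y.q) : x = y := by
  have h1 := congrArg (·.re) h
  have h2 := congrArg (·.imI) h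
  have h3 := congrArg (·.imJ) h
  have h4 := congrArg (·.imK) h
  simp only [q_re, q_imI, q_imJ, q_imK] at h1 h2 h3 h4
  have hd : x.d.r = y.d.r := mul_right_cancel₀ tau_ne_zero (by linear_combination (-2 : ℝ) * h3)
  have hc : x.c.r = y.c.r := mul_right_cancel₀ tau_ne_zero (by linear_combination (2 : ℝ) * h4)
  rw [hd, hc] at h1 h2
  exact Ico.ext (r_inj (by linarith)) (r_inj (by linarith)) (r_inj hc) (r_inj hd)

/-- A triple of icosians. -/
@[ext] structure V3 where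
  x : Ico
  y : Ico
  z : Ico
deriving DecidableEq

def V3.sub (v w : V3) : V3 := ⟨v.x.sub w.x, v.y.sub w.y, v.z.sub w.z⟩
def V3.add (v w : V3) : V3 := ⟨v.x.add w.x, v.y.add w.y, v.z.add w.z⟩
def V3.smul (a : Ico) (v : V3) : V3 := ⟨a.mul v.x, a.mul v.y, a.mul v.z⟩

/-- The Hermitian product. -/
def V3.ip (v w : V3) : Ico := ((v.x.mul w.x.conj).add (v.y.mul w.y.conj)).add (v.z.mul w.z.conj)

/-- The vector. -/
noncomputable def V3.q (v : V3) : Fin 3 → ℍ[ℝ] := ![v.x.q, v.y.q, v.z.q]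

theorem v3_q_inj {v w : V3} (h : v.q = w.q) : v = w := by
  have h0 := congrFun h 0
  have h1 := congrFun h 1
  have h2 := congrFun h 2
  simp [V3.q] at h0 h1 h2
  exact V3.ext (q_inj h0) (q_inj h1) (q_inj h2)

theorem v3_q_sub (v w : V3) : (v.sub w).q = v.q - w.q := by
  funext t; fin_cases t <;> simp [V3.q, V3.sub]

theorem v3_q_add (v w : V3) : (v.add w).q = v.q + w.q := by
  funext t; fin_cases t <;> simp [V3.q, V3.add]

theorem v3_q_smul (a : Ico) (v : V3) : (v.smul a).q = fun t => a.q * v.q t := by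
  funext t; fin_cases t <;> simp [V3.q, V3.smul]

theorem q_ip (v w : V3) : (v.ip w).q = qip v.q w.q := by
  simp [qip, V3.ip, V3.q, Fin.sum_univ_three]

end Cfsg.Agent.JankoTwo
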