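import Cfsg.Agent.JankoTwo.Ico

/-!
The icosian ring and the icosian Leech lattice in terms of the computable model.
-/

set_option autoImplicit false

namespace Cfsg.Agent.JankoTwo

open Cfsg.Spor Quaternion

theorem q_unI : Ico.unI.q = qI := by
  ext <;> simp [q_re, q_imI, q_imJ, q_imK, Ico.unI, qI] <;> ring

theorem q_unW : Ico.unW.q = ⟨1 / 2, sig / 2, 0, tau / 2⟩ := by
  ext <;> simp [q_re, q_imI, q_imJ, q_imK, Ico.unW] <;> ring

/-- The icosian `τ`. -/
def Ico.tauI : Ico := ⟨⟨0, 1⟩, Zt.ofInt 0, Zt.ofInt 0, Zt.ofInt 0⟩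

theorem decomp (x : Ico) : x =
    ((((Ico.ofInt x.a.u).add (Ico.tauI.mul (Ico.ofInt x.a.v))).add
      (((Ico.ofInt x.b.u).add (Ico.tauI.mul (Ico.ofInt x.b.v))).mul Ico.unI)).add
      (((Ico.ofInt x.c.u).add (Ico.tauI.mul (Ico.ofInt x.c.v))).mul Ico.unW)).add
      (((Ico.ofInt x.d.u).add (Ico.tauI.mul (Ico.ofInt x.d.v))).mul (Ico.unI.mul Ico.unW)) := by
  obtain ⟨⟨_, _⟩, ⟨_, _⟩, ⟨_, _⟩, ⟨_, _⟩⟩ := x
  simp [Ico.add, Ico.mul, Ico.tauI, Ico.ofInt, Ico.unI, Ico.unW, Zt.add, Zt.sub, Zt.mul,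
    Zt.ofInt, Zt.sg]

theorem tauI_eq : Ico.tauI = ((Ico.ofInt 1).sub Ico.unI).add
    ((Ico.unI.mul Ico.unW).add (Ico.unW.mul Ico.unI)) := by decide

/-- Every element of the model is an icosian. -/
theorem q_mem (x : Ico) : x.q ∈ icosians := by
  have hi : Ico.unI.q ∈ icosians := q_unI ▸ Subring.subset_closure (Or.inl rfl)
  have hw : Ico.unW.q ∈ icosians := q_unW ▸ Subring.subset_closure (Or.inr rfl)
  have hn : ∀ n : ℤ, (Ico.ofInt n).q ∈ icosians := fun n => by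
    rw [q_ofInt]; exact intCast_mem icosians n
  have ht : Ico.tauI.q ∈ icosians := by
    rw [tauI_eq]
    simp only [q_add, q_sub, q_mul]
    exact add_mem (sub_mem (hn 1) hi) (add_mem (mul_mem hi hw) (mul_mem hw hi))
  rw [decomp x]
  simp only [q_add, q_mul]
  repeat' (first | exact hn _ | exact hi | exact hw | exact ht | apply add_mem | apply mul_mem)

/-- Every icosian comes from the model. -/
theorem exists_q {z : ℍ[ℝ]} (hz : z ∈ icosians) : ∃ x : Ico, x.q = z := by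
  induction hz using Subring.closure_induction with
  | mem z hz =>
    rcases hz with rfl | rfl
    · exact ⟨_, q_unI⟩
    · exact ⟨_, q_unW⟩
  | zero => exact ⟨Ico.ofInt 0, by simp⟩
  | one => exact ⟨Ico.ofInt 1, by simp⟩
  | add a b _ _ ha hb =>
    obtain ⟨x, rfl⟩ := ha; obtain ⟨y, rfl⟩ := hb
    exact ⟨x.add y, q_add x y⟩
  | neg a _ ha => obtain ⟨x, rfl⟩ := ha; exact ⟨x.neg, q_neg x⟩
  | mul a b _ _ ha hb =>
    obtain ⟨x, rfl⟩ := ha; obtain ⟨y, rfl⟩ := hb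
    exact ⟨x.mul y, q_mul x y⟩

theorem q_hI : Ico.hI.q = icoH := by
  have h : Real.sqrt 5 = 2 * tau - 1 := by simp only [tau]; ring
  ext <;> simp [q_re, q_imI, q_imJ, q_imK, Ico.hI, icoH, Zt.r, h, sig_eq] <;>
    ring_nf <;> simp only [sq, tau_sq] <;> ring

theorem h_conj_mul : Ico.hI.conj.mul Ico.hI = Ico.ofInt 2 := by decide
theorem h_mul_conj : Ico.hI.mul Ico.hI.conj = Ico.ofInt 2 := by decide

/-- Parity bit of an integer. -/
def bit2 (n : ℤ) : ℕ := (n % 2).natAbs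

/-- The eight parity bits. -/
def Ico.bits (x : Ico) : ℕ :=
  bit2 x.a.u + 2 * bit2 x.a.v + 4 * bit2 x.b.u + 8 * bit2 x.b.v + 16 * bit2 x.c.u +
    32 * bit2 x.c.v + 64 * bit2 x.d.u + 128 * bit2 x.d.v

/-- All coordinates even. -/
def Ico.evenB (x : Ico) : Bool := Nat.beq x.bits 0

/-- Exact halving. -/
def Ico.half (x : Ico) : Ico :=
  ⟨⟨x.a.u / 2, x.a.v / 2⟩, ⟨x.b.u / 2, x.b.v / 2⟩, ⟨x.c.u / 2, x.c.v / 2⟩, ⟨x.d.u / 2, x.d.v / 2⟩⟩

theorem bit2_le (n : ℤ) : bit2 n ≤ 1 := by unfold bit2; omega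

theorem bit2_eq_zero {n : ℤ} : bit2 n = 0 ↔ n % 2 = 0 := by unfold bit2; omega

theorem evenB_iff {x : Ico} : x.evenB = true ↔ x = x.half.add x.half := by
  have := bit2_le x.a.u; have := bit2_le x.a.v; have := bit2_le x.b.u; have := bit2_le x.b.v
  have := bit2_le x.c.u; have := bit2_le x.c.v; have := bit2_le x.d.u; have := bit2_le x.d.v
  simp only [Ico.evenB, Nat.beq_eq, Ico.bits, Ico.ext_iff, Zt.ext_iff, Ico.half, Ico.add, Zt.add]
  constructor
  · intro h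
    have h1 := bit2_eq_zero.mp (show bit2 x.a.u = 0 by omega)
    have h2 := bit2_eq_zero.mp (show bit2 x.a.v = 0 by omega)
    have h3 := bit2_eq_zero.mp (show bit2 x.b.u = 0 by omega)
    have h4 := bit2_eq_zero.mp (show bit2 x.b.v = 0 by omega)
    have h5 := bit2_eq_zero.mp (show bit2 x.c.u = 0 by omega)
    have h6 := bit2_eq_zero.mp (show bit2 x.c.v = 0 by omega)
    have h7 := bit2_eq_zero.mp (show bit2 x.d.u = 0 by omega)
    have h8 := bit2_eq_zero.mp (show bit2 x.d.v = 0 by omega)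
    omega
  · rintro ⟨⟨h1, h2⟩, ⟨h3, h4⟩, ⟨h5, h6⟩, ⟨h7, h8⟩⟩
    have := bit2_eq_zero (n := x.a.u) |>.mpr (by omega)
    have := bit2_eq_zero (n := x.a.v) |>.mpr (by omega)
    have := bit2_eq_zero (n := x.b.u) |>.mpr (by omega)
    have := bit2_eq_zero (n := x.b.v) |>.mpr (by omega)
    have := bit2_eq_zero (n := x.c.u) |>.mpr (by omega)
    have := bit2_eq_zero (n := x.c.v) |>.mpr (by omega)
    have := bit2_eq_zero (n := x.d.u) |>.mpr (by omega)
    have := bit2_eq_zero (n := x.d.v) |>.mpr (by omega)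
    omega

theorem q_half {x : Ico} (h : x.evenB = true) : x.q = 2 * x.half.q := by
  conv_lhs => rw [evenB_iff.mp h]
  rw [q_add, two_mul]

theorem evenB_of_double {x y : Ico} (h : x.q = 2 * y.q) : x.evenB = true := by
  have : x = y.add y := q_inj (by rw [q_add, h, two_mul])
  subst this
  rw [evenB_iff]
  simp only [Ico.ext_iff, Zt.ext_iff, Ico.half, Ico.add, Zt.add]
  omega

theorem mem_leftIdeal_iff {x : Ico} {g g' : Ico} (hg : g.mul g' = Ico.ofInt 2)
    (hg' : g'.mul g = Ico.ofInt 2) : x.q ∈ leftIdeal g.q ↔ (x.mul g').evenB = true := by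
  have two_q : (Ico.ofInt 2).q = 2 := by simp
  constructor
  · rintro ⟨a, ha, he⟩
    obtain ⟨a, rfl⟩ := exists_q ha
    refine evenB_of_double (y := a) ?_
    rw [q_mul, he, mul_assoc, ← q_mul, hg, two_q, two_mul, mul_two]
  · intro h
    refine ⟨(x.mul g').half.q, q_mem _, ?_⟩
    have h1 : x.q * 2 = 2 * ((x.mul g').half.q * g.q) := by
      rw [← mul_assoc, ← q_half h, q_mul, mul_assoc, ← q_mul g' g, hg', two_q]
    have h2 : (2 : ℝ) • x.q = (2 : ℝ) • ((x.mul g').half.q * g.q) := by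
      rw [two_smul, two_smul, ← two_mul, ← two_mul, ← h1, mul_two, two_mul]
    exact smul_right_injective _ (two_ne_zero) h2

/-- Congruence key modulo `I h`. -/
def Ico.key (x : Ico) : ℕ := (x.mul Ico.hI.conj).bits

/-- Membership in the icosian Leech lattice. -/
def V3.lat (v : V3) : Bool :=
  ((v.x.sub v.y).mul Ico.hI.conj).evenB && ((v.y.sub v.z).mul Ico.hI.conj).evenB &&
    ((((v.x.add v.y).add v.z)).mul Ico.hI).evenB

theorem lat_iff {v : V3} : v.lat = true ↔ v.q ∈ icoLeech := by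
  have h1 : ∀ x : Ico, x.q ∈ leftIdeal icoH ↔ (x.mul Ico.hI.conj).evenB = true := fun x => by
    rw [← q_hI]; exact mem_leftIdeal_iff h_mul_conj h_conj_mul
  have h2 : ∀ x : Ico, x.q ∈ leftIdeal (star icoH) ↔ (x.mul Ico.hI).evenB = true := fun x => by
    rw [← q_hI, ← q_conj]; exact mem_leftIdeal_iff h_conj_mul h_mul_conj
  simp only [V3.lat, Bool.and_eq_true, ← h1, ← h2, q_sub, q_add]
  constructor
  · rintro ⟨⟨a, b⟩, c⟩
    exact ⟨fun t => by fin_cases t <;> simp [V3.q, q_mem], a, b, c⟩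
  · rintro ⟨-, a, b, c⟩
    exact ⟨⟨a, b⟩, c⟩

/-- The point of the lattice. -/
noncomputable def V3.pt (v : V3) (h : v.lat = true) : icoLeech := ⟨v.q, lat_iff.mp h⟩

theorem exists_v3 (p : icoLeech) : ∃ v : V3, v.lat = true ∧ v.q = (p : Fin 3 → ℍ[ℝ]) := by
  obtain ⟨f, hf⟩ := p
  obtain ⟨x, hx⟩ := exists_q (hf.1 0)
  obtain ⟨y, hy⟩ := exists_q (hf.1 1)
  obtain ⟨z, hz⟩ := exists_q (hf.1 2)
  have he : (V3.mk x y z).q = f := by
    funext t; fin_cases t <;> simp [V3.q, hx, hy, hz]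
  refine ⟨⟨x, y, z⟩, lat_iff.mpr ?_, he⟩
  rw [he]
  exact hf

end Cfsg.Agent.JankoTwo
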