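import Cfsg.Agent.JankoTwo.OuterRefl
import Cfsg.Prelude.Def_KGroupFacts

/-!
The automorphism group of `J₂` is the inner one extended by one outer automorphism.
-/

set_option autoImplicit false

namespace Cfsg.Agent.JankoTwo

open Cfsg.Spor Cfsg.Agent.Compute

/-- One reflection applied to another axis. -/
noncomputable def act2 (x y : Fin 315) : Fin 315 := (tR x : Equiv.Perm (Fin 315)) y

theorem autPerm_injective (α : MulAut K315) : Function.Injective (autPerm α) := fun x y h =>
  tR_injective (α.injective (by rw [autPerm_spec, autPerm_spec, h]))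

theorem autPerm_act2 (α : MulAut K315) (x y : Fin 315) :
    autPerm α (act2 x y) = act2 (autPerm α x) (autPerm α y) := by
  apply tR_injective
  rw [← autPerm_spec, act2, act2, ← tR_conj, ← tR_conj, map_mul, map_mul, map_inv, autPerm_spec,
    autPerm_spec]

theorem tbl_apply : ∀ n (hn : n < 315) (x : Fin 315),
    ((tR ⟨n, hn⟩ : Equiv.Perm (Fin 315)) x : ℕ) = getField 9 (tblAt n) x := by
  intro n
  induction n using Nat.strong_induction_on with
  | _ n ih =>
    intro hn x
    by_cases h0 : n = 0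
    · subst h0
      have hb := baseCheck4_ok
      simp only [baseCheck4, Bool.and_eq_true, Nat.beq_eq] at hb
      rw [hb.1.1.1.1.1.2]
      exact zCode_apply x
    · have hp := allBelow_eq_true.mp parentCheck_ok (n - 1) (by omega)
      simp only [Bool.and_eq_true, Nat.blt_eq, Nat.beq_eq,
        show (n - 1).succ = n by omega] at hp
      obtain ⟨⟨hlt, hk⟩, he⟩ := hp
      have hs := allBelow_eq_true.mp tblStep_ok (n - 1) (by omega)
      simp only [tblStep, show (n - 1).succ = n by omega] at hs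
      have hsx := Nat.eq_of_beq_eq_true (allBelow_eq_true.mp hs x x.2)
      rw [hsx]
      let k : Fin 4 := ⟨_, hk⟩
      let g : K315 := piJ.rangeRestrict (genR k)
      have hg : ∀ y : Fin 315, ((g : Equiv.Perm (Fin 315)) y : ℕ) =
          getField 9 (genCodes.getD k 0) y := fun y => by
        show (piJ (genR k) y : ℕ) = _
        rw [piJ_genR]
        exact den_apply (genC_ok k) y
      have hgp : (g : Equiv.Perm (Fin 315)) ⟨_, (by omega : getField 9 parentCode n < 315)⟩ = ⟨n, hn⟩ :=
        Fin.ext (by rw [hg]; exact he)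
      have hinv : g⁻¹ = g := tR_inv _
      rw [← hgp, ← tR_conj, hinv, Subgroup.coe_mul, Subgroup.coe_mul, Equiv.Perm.mul_apply,
        Equiv.Perm.mul_apply, hg, ih _ hlt, hg]

theorem act2_val (x y : Fin 315) : (act2 x y : ℕ) = getField 9 (tblAt x) y := tbl_apply x x.2 y

/-- The value of a word on a list of axes. -/
noncomputable def wPt (p : ℕ → Fin 315) (w : List ℕ × ℕ) : Fin 315 :=
  w.1.foldr (fun k r => act2 (p k) r) (p w.2)

theorem wPt_map (α : MulAut K315) (p : ℕ → Fin 315) (w : List ℕ × ℕ) :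
    autPerm α (wPt p w) = wPt (fun k => autPerm α (p k)) w := by
  obtain ⟨w, b⟩ := w
  induction w with
  | nil => rfl
  | cons k w ih =>
    show autPerm α (act2 (p k) (wPt p (w, b))) = _
    rw [autPerm_act2, ih]
    rfl

theorem wPt_val (l : List (Fin 315)) (w : List ℕ × ℕ) :
    (wPt (fun k => l.getD k 0) w : ℕ) = wValN (l.map Fin.val) w := by
  obtain ⟨w, b⟩ := w
  have hg : ∀ k, (l.map Fin.val).getD k 0 = (l.getD k 0 : ℕ) := fun k =>
    List.getD_map (n := k) l 0 Fin.val
  induction w with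
  | nil => exact (hg b).symm
  | cons k w ih =>
    show (act2 (l.getD k 0) (wPt _ (w, b)) : ℕ) =
      getField 9 (tblAt ((l.map Fin.val).getD k 0)) (wValN (l.map Fin.val) (w, b))
    rw [act2_val, hg, ih]

theorem eqN_map {α : MulAut K315} (h0 : autPerm α 0 = 0) (e : (List ℕ × ℕ) × (List ℕ × ℕ))
    (l : List (Fin 315)) (h : eqN e (l.map Fin.val) = true) :
    eqN e ((l.map (autPerm α)).map Fin.val) = true := by
  rw [eqN, Nat.beq_eq, ← wPt_val, ← wPt_val] at h ⊢
  have hp : (fun k => (l.map (autPerm α)).getD k 0) = fun k => autPerm α (l.getD k 0) := by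
    funext k
    conv_lhs => rw [← h0]
    exact List.getD_map (n := k) l 0 (autPerm α)
  rw [hp, ← wPt_map, ← wPt_map, Fin.ext h]

theorem autPerm_eq {α : MulAut K315} {x y : Fin 315} (h : α (tR x) = tR y) : autPerm α x = y :=
  tR_injective ((autPerm_spec α x).symm.trans h)

theorem autPerm_mul (α β : MulAut K315) (x : Fin 315) :
    autPerm (α * β) x = autPerm α (autPerm β x) :=
  autPerm_eq (by rw [MulAut.mul_apply, autPerm_spec, autPerm_spec])

theorem autPerm_conj (g : K315) (x : Fin 315) :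
    autPerm (MulAut.conj g) x = (g : Equiv.Perm (Fin 315)) x :=
  autPerm_eq (by rw [MulAut.conj_apply, tR_conj])

theorem closure_gens : Subgroup.closure (Set.range fun k => piJ.rangeRestrict (genR k)) = ⊤ := by
  have h : Subgroup.map piJ.rangeRestrict genGroup = ⊤ := by
    rw [genGroup_eq_top]
    exact Subgroup.map_top_of_surjective _ piJ.rangeRestrict_surjective
  rwa [genGroup, MonoidHom.map_closure, ← Set.range_comp] at h

/-- An automorphism fixing the four axes is trivial. -/
theorem eq_one_of_axes {α : MulAut K315} (h0 : autPerm α 0 = 0) (h3 : autPerm α 3 = 3)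
    (h7 : autPerm α 7 = 7) (h15 : autPerm α 15 = 15) : α = 1 := by
  have hl : ([0, 3, 7, 15] : List (Fin 315)).map (autPerm α) = [0, 3, 7, 15] := by
    simp [h0, h3, h7, h15]
  have hp : (fun k => autPerm α (([0, 3, 7, 15] : List (Fin 315)).getD k 0)) =
      fun k => ([0, 3, 7, 15] : List (Fin 315)).getD k 0 := by
    funext k
    have hm := List.getD_map (n := k) ([0, 3, 7, 15] : List (Fin 315)) 0 (autPerm α)
    rw [h0, hl] at hm
    exact hm.symm
  have hb := baseCheck4_ok
  simp only [baseCheck4, Bool.and_eq_true, Nat.beq_eq] at hb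
  have hw := allBelow_eq_true.mp hb.1.1.1.2
  have hfix : ∀ k : Fin 4, autPerm α ⟨genAxes.getD k 0, genAxes_lt k⟩ = ⟨genAxes.getD k 0, genAxes_lt k⟩ := by
    intro k
    have he : wPt (fun i => ([0, 3, 7, 15] : List (Fin 315)).getD i 0) (axWords.getD k ([], 0)) =
        ⟨genAxes.getD k 0, genAxes_lt k⟩ := Fin.ext (by
      rw [wPt_val]
      exact Nat.eq_of_beq_eq_true (hw k k.2))
    rw [← he, wPt_map, hp]
  refine MulEquiv.ext fun x => ?_
  have hx : x ∈ Subgroup.closure (Set.range fun k => piJ.rangeRestrict (genR k)) :=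
    closure_gens ▸ Subgroup.mem_top x
  exact MonoidHom.eqOn_closure (f := α.toMonoidHom) (g := MonoidHom.id K315) (by
    rintro _ ⟨k, rfl⟩
    exact (autPerm_spec α ⟨genAxes.getD k 0, genAxes_lt k⟩).trans (congrArg tR (hfix k))) hx

theorem outer_ok : CodePerm 9 315 outerCode := by
  have hb := baseCheck4_ok
  simp only [baseCheck4, Bool.and_eq_true] at hb
  exact codePerm_of_check hb.1.1.2

/-- The outer permutation. -/
noncomputable def outerP : Equiv.Perm (Fin 315) := rep315.den outerCode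

theorem outerP_apply (x : Fin 315) : (outerP x : ℕ) = getField 9 outerCode x := den_apply outer_ok x

theorem outerP_facts : outerP 0 = 0 ∧ outerP 3 = 8 := by
  have hb := baseCheck4_ok
  simp only [baseCheck4, Bool.and_eq_true, Nat.beq_eq] at hb
  exact ⟨Fin.ext ((outerP_apply 0).trans hb.1.2), Fin.ext ((outerP_apply 3).trans hb.2)⟩

theorem outer_conj_gen (k : Fin 4) :
    outerP * piJ (genR k) * outerP⁻¹ =
      (tR (outerP ⟨genAxes.getD k 0, genAxes_lt k⟩) : Equiv.Perm (Fin 315)) := by
  rw [mul_inv_eq_iff_eq_mul]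
  ext x : 1
  apply Fin.ext
  rw [Equiv.Perm.mul_apply, Equiv.Perm.mul_apply, piJ_genR, outerP_apply, den_apply (genC_ok k),
    tbl_apply _ (outerP _).2, outerP_apply, outerP_apply]
  exact Nat.eq_of_beq_eq_true (allBelow_eq_true.mp (allBelow_eq_true.mp outerAt_ok k k.2) x x.2)

theorem outer_conj_mem (g : Equiv.Perm (Fin 315)) (hg : g ∈ K315) :
    outerP * g * outerP⁻¹ ∈ K315 := by
  have hx : (⟨g, hg⟩ : K315) ∈ (⊤ : Subgroup K315) := Subgroup.mem_top _
  rw [← closure_gens] at hx
  suffices Subgroup.closure (Set.range fun k => piJ.rangeRestrict (genR k)) ≤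
      (K315.comap (MulAut.conj outerP).toMonoidHom).comap K315.subtype from this hx
  rw [Subgroup.closure_le]
  rintro _ ⟨k, rfl⟩
  show outerP * piJ (genR k) * outerP⁻¹ ∈ K315
  rw [outer_conj_gen]
  exact SetLike.coe_mem _

/-- Conjugation by the outer permutation. -/
noncomputable def outerHom : K315 →* K315 where
  toFun g := ⟨outerP * g * outerP⁻¹, outer_conj_mem g g.2⟩
  map_one' := Subtype.ext (by simp)
  map_mul' g h := Subtype.ext (by simp [mul_assoc])

/-- The outer automorphism. -/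
noncomputable def outerAut : MulAut K315 :=
  MulEquiv.ofBijective outerHom (Finite.injective_iff_bijective.mp fun g h e =>
    Subtype.ext (mul_left_cancel (mul_right_cancel (congrArg Subtype.val e))))

theorem outerAut_val (g : K315) :
    (outerAut g : Equiv.Perm (Fin 315)) = outerP * g * outerP⁻¹ := rfl

theorem autPerm_outer (x : Fin 315) : autPerm outerAut x = outerP x := by
  have h0 : autPerm outerAut 0 = 0 := by
    refine autPerm_eq (Subtype.ext ?_)
    have h := outer_conj_gen 0
    have hz : (⟨genAxes.getD (0 : Fin 4) 0, genAxes_lt 0⟩ : Fin 315) = 0 := Fin.ext genAxes_zero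
    rw [hz, outerP_facts.1, piJ_genR] at h
    rw [outerAut_val, ← zP_eq]
    exact h.trans zP_eq.symm
  obtain ⟨g, hg⟩ := piJ_trans 0 x
  refine autPerm_eq ?_
  have hx : tR x = piJ.rangeRestrict g * tR 0 * (piJ.rangeRestrict g)⁻¹ := by
    rw [tR_conj]; exact congrArg tR hg.symm
  rw [hx, map_mul, map_mul, map_inv, autPerm_spec, h0, tR_conj]
  congr 1
  rw [outerAut_val, Equiv.Perm.mul_apply, Equiv.Perm.mul_apply,
    show outerP⁻¹ 0 = 0 from Equiv.Perm.inv_eq_iff_eq.mpr outerP_facts.1.symm]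
  exact congrArg outerP hg

theorem mul_conj_comm (α : MulAut K315) (g : K315) :
    α * MulAut.conj g = MulAut.conj (α g) * α := by
  ext x : 1
  simp

theorem inv_autPerm {α : MulAut K315} {x y : Fin 315} (h : autPerm α x = y) :
    autPerm α⁻¹ y = x := by
  refine autPerm_eq ?_
  rw [← h, ← autPerm_spec]
  exact α.symm_apply_apply _

/-- An automorphism fixing two suitable axes is inner. -/
theorem inner_of_fix_two {γ : MulAut K315} (h0 : autPerm γ 0 = 0) (h3 : autPerm γ 3 = 3) :
    γ ∈ Cfsg.Inn K315 := by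
  have hb := baseCheck4_ok
  simp only [baseCheck4, Bool.and_eq_true] at hb
  obtain ⟨⟨⟨⟨⟨⟨⟨⟨⟨-, e2⟩, e3⟩, e4⟩, -⟩, -⟩, -⟩, -⟩, -⟩, -⟩ := hb
  have e2' : eqN eqn2 (([0, 3, 7] : List (Fin 315)).map Fin.val) = true := e2
  have e3' : eqN eqn3 (([0, 3, 7] : List (Fin 315)).map Fin.val) = true := e3
  have e4' : eqN eqn4 (([0, 3, 7, 15] : List (Fin 315)).map Fin.val) = true := e4
  have t2 := eqN_map h0 _ _ e2'
  have t3 := eqN_map h0 _ _ e3'
  have t4 := eqN_map h0 _ _ e4'
  simp only [List.map_cons, List.map_nil, h0, h3] at t2 t3 t4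
  have hne : ∀ a b : Fin 315, a ≠ b → ((autPerm γ a : ℕ) ≠ autPerm γ b) := fun a b hab h =>
    hab (autPerm_injective γ (Fin.ext h))
  have h := allBelow_eq_true.mp pairAt_ok _ (autPerm γ 7).2
  simp only [pairAt, Bool.or_eq_true, Bool.not_eq_true', Nat.beq_eq, Bool.and_eq_false_iff] at h
  have n70 := hne 7 0 (by decide)
  have n73 := hne 7 3 (by decide)
  rw [h0] at n70
  rw [h3] at n73
  rcases h with ((h | h) | h) | h
  · exact absurd h n70
  · exact absurd h n73
  · rcases h with h | h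
    · exact (Bool.false_ne_true (h.symm.trans t2)).elim
    · exact (Bool.false_ne_true (h.symm.trans t3)).elim
  have h' := allBelow_eq_true.mp h _ (autPerm γ 15).2
  simp only [Bool.or_eq_true, Bool.not_eq_true', Nat.beq_eq] at h'
  have m0 := hne 15 0 (by decide)
  have m3 := hne 15 3 (by decide)
  have m7 := hne 15 7 (by decide)
  rw [h0] at m0
  rw [h3] at m3
  rcases h' with (((h' | h') | h') | h') | h'
  · exact absurd h' m0
  · exact absurd h' m3
  · exact absurd h' m7
  · exact (Bool.false_ne_true (h'.symm.trans t4)).elim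
  obtain ⟨w, -, hw⟩ := anyL_spec h'
  simp only [Bool.and_eq_true, Nat.beq_eq] at hw
  obtain ⟨⟨w3, w7⟩, w15⟩ := hw
  let g : K315 := ⟨fac3Prod w, Cg_le (fac3Prod_mem w)⟩
  have g0 : (g : Equiv.Perm (Fin 315)) 0 = 0 := Cg_fix0 (fac3Prod_mem w)
  have g3 : (g : Equiv.Perm (Fin 315)) 3 = 3 := Fin.ext ((fac3Prod_apply w 3).trans w3)
  have g7 : (g : Equiv.Perm (Fin 315)) 7 = autPerm γ 7 := Fin.ext ((fac3Prod_apply w 7).trans w7)
  have g15 : (g : Equiv.Perm (Fin 315)) 15 = autPerm γ 15 :=
    Fin.ext ((fac3Prod_apply w 15).trans w15)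
  have hfx : ∀ x : Fin 315, (g : Equiv.Perm (Fin 315)) x = autPerm γ x →
      autPerm ((MulAut.conj g)⁻¹ * γ) x = x := fun x hx => by
    rw [autPerm_mul, ← hx]
    exact inv_autPerm (autPerm_conj g x)
  exact ⟨g, inv_mul_eq_one.mp (eq_one_of_axes (hfx 0 (by rw [g0, h0])) (hfx 3 (by rw [g3, h3]))
    (hfx 7 g7) (hfx 15 g15))⟩

/-- Every automorphism is inner up to the outer one. -/
theorem aut_cases (α : MulAut K315) :
    α ∈ Cfsg.Inn K315 ∨ ∃ g : K315, α = MulAut.conj g * outerAut := by
  obtain ⟨x, hx⟩ := piJ_trans (autPerm α 0) 0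
  set β := MulAut.conj (piJ.rangeRestrict x) * α with hβ
  have hβ0 : autPerm β 0 = 0 := by rw [hβ, autPerm_mul, autPerm_conj]; exact hx
  have key : β ∈ Cfsg.Inn K315 ∨ ∃ g : K315, β = MulAut.conj g * outerAut := by
    have hb := baseCheck4_ok
    simp only [baseCheck4, Bool.and_eq_true] at hb
    have t1 : eqN eqn1 [(0 : ℕ), (autPerm β 3 : ℕ)] = true := by
      have e : eqN eqn1 (([0, 3] : List (Fin 315)).map Fin.val) = true := hb.1.1.1.1.1.1.1.1.1
      have := eqN_map hβ0 _ _ e
      simpa [hβ0] using this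
    have h := allBelow_eq_true.mp secondAt_ok _ (autPerm β 3).2
    simp only [secondAt, Bool.or_eq_true, Bool.not_eq_true', Nat.beq_eq] at h
    rcases h with (h | h) | h
    · have he : autPerm β 3 = autPerm β 0 := by rw [hβ0]; exact Fin.ext h
      exact absurd (autPerm_injective β he) (by decide)
    · rw [t1] at h; exact absurd h (by simp)
    obtain ⟨⟨j, k, l, f⟩, -, hw⟩ := anyL_spec h
    rw [Nat.beq_eq] at hw
    let g : K315 := ⟨fac3Prod (j, k, l), Cg_le (fac3Prod_mem _)⟩
    have g0 : (g : Equiv.Perm (Fin 315)) 0 = 0 := Cg_fix0 (fac3Prod_mem _)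
    have hgi : ∀ y, autPerm (MulAut.conj g)⁻¹ ((g : Equiv.Perm (Fin 315)) y) = y := fun y =>
      inv_autPerm (autPerm_conj g y)
    cases f with
    | false =>
      have g3 : (g : Equiv.Perm (Fin 315)) 3 = autPerm β 3 :=
        Fin.ext ((fac3Prod_apply _ _).trans hw)
      obtain ⟨m, hm⟩ := inner_of_fix_two (γ := (MulAut.conj g)⁻¹ * β)
        (by rw [autPerm_mul, hβ0]; conv_lhs => rw [← g0]
            exact hgi 0)
        (by rw [autPerm_mul, ← g3]; exact hgi 3)
      exact Or.inl ⟨g * m, by rw [map_mul, hm, mul_inv_cancel_left]⟩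
    | true =>
      have g8 : (g : Equiv.Perm (Fin 315)) 8 = autPerm β 3 :=
        Fin.ext ((fac3Prod_apply _ _).trans hw)
      obtain ⟨m, hm⟩ := inner_of_fix_two (γ := outerAut⁻¹ * ((MulAut.conj g)⁻¹ * β))
        (by rw [autPerm_mul, autPerm_mul, hβ0]; conv_lhs => rw [← g0]
            rw [hgi]
            exact inv_autPerm ((autPerm_outer 0).trans outerP_facts.1))
        (by rw [autPerm_mul, autPerm_mul, ← g8, hgi]
            exact inv_autPerm ((autPerm_outer 3).trans outerP_facts.2))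
      refine Or.inr ⟨g * outerAut m, ?_⟩
      rw [map_mul, mul_assoc, ← mul_conj_comm, hm, mul_inv_cancel_left, mul_inv_cancel_left]
  have hα : α = MulAut.conj (piJ.rangeRestrict x)⁻¹ * β := by
    rw [hβ, map_inv, inv_mul_cancel_left]
  rcases key with ⟨g, hg⟩ | ⟨g, hg⟩
  · exact Or.inl ⟨(piJ.rangeRestrict x)⁻¹ * g, by rw [map_mul, hg, hα]⟩
  · exact Or.inr ⟨(piJ.rangeRestrict x)⁻¹ * g, by rw [map_mul, mul_assoc, ← hg, hα]⟩

theorem outerAut_not_inner : outerAut ∉ Cfsg.Inn K315 := by
  rintro ⟨g, hg⟩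
  have hpt : ∀ x, (g : Equiv.Perm (Fin 315)) x = outerP x := fun x => by
    rw [← autPerm_conj, ← autPerm_outer]
    exact congrArg (fun a => autPerm a x) hg
  have g0 : (g : Equiv.Perm (Fin 315)) 0 = 0 := (hpt 0).trans outerP_facts.1
  obtain ⟨j, hj, k, hk, l, hl, e⟩ := exists_fac3 (mem_Cg_iff.mpr ⟨g.2, g0⟩)
  have h := allBelow_eq_true.mp (allBelow_eq_true.mp (allBelow_eq_true.mp outCheck_ok j hj) k hk) l hl
  simp only [Bool.not_eq_true'] at h
  have h8 : app3 (j, k, l) 3 = 8 := by
    have := fac3Prod_apply (j, k, l) (3 : Fin 315)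
    rw [← e, hpt, outerP_facts.2] at this
    exact this.symm
  rw [h8] at h
  simp at h

theorem card_out_K315 : Nat.card (Cfsg.Out K315) = 2 := by
  let f : Bool → Cfsg.Out K315 := fun b => cond b (QuotientGroup.mk outerAut) 1
  have hsurj : Function.Surjective f := by
    intro q
    obtain ⟨α, rfl⟩ := QuotientGroup.mk_surjective q
    rcases aut_cases α with h | ⟨g, rfl⟩
    · exact ⟨false, ((QuotientGroup.eq_one_iff α).mpr h).symm⟩
    · refine ⟨true, ?_⟩
      show (QuotientGroup.mk outerAut : Cfsg.Out K315) = _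
      rw [QuotientGroup.mk_mul, (QuotientGroup.eq_one_iff (MulAut.conj g)).mpr (⟨g, rfl⟩ :
        MulAut.conj g ∈ Cfsg.Inn K315), one_mul]
  have hinj : Function.Injective f := by
    have hne : f true ≠ f false := fun h => outerAut_not_inner ((QuotientGroup.eq_one_iff _).mp h)
    intro a b h
    cases a <;> cases b <;> first | rfl | exact absurd h hne | exact absurd h.symm hne
  rw [← Nat.card_eq_of_bijective f ⟨hinj, hsurj⟩]
  simp

theorem card_out_congr {G H : Type} [Group G] [Group H] (e : G ≃* H) :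
    Nat.card (Cfsg.Out G) = Nat.card (Cfsg.Out H) := by
  refine Nat.card_congr (QuotientGroup.congr (Cfsg.Inn G) (Cfsg.Inn H) (MulAut.congr e) ?_).toEquiv
  ext a
  constructor
  · rintro ⟨_, ⟨x, rfl⟩, rfl⟩
    exact ⟨e x, MulEquiv.ext fun y => by simp⟩
  · rintro ⟨y, rfl⟩
    exact ⟨MulAut.conj (e.symm y), ⟨_, rfl⟩, MulEquiv.ext fun z => by simp⟩

theorem card_out_J2 : Nat.card (Cfsg.Out J2) = 2 :=
  (card_out_congr j2Equiv).trans card_out_K315

end Cfsg.Agent.JankoTwo
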