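import Mathlib

/-!
The field with nine elements, as `𝔽₃[i]`, with kernel-computable arithmetic.
-/

set_option autoImplicit false

namespace Cfsg.Agent.JankoTwo

/-- The code of a sum. -/
def add9 (a b : ℕ) : ℕ := (a % 3 + b % 3) % 3 + 3 * ((a / 3 + b / 3) % 3)

/-- The code of a product (`2 = -1`). -/
def mul9 (a b : ℕ) : ℕ :=
  ((a % 3) * (b % 3) + 2 * ((a / 3) * (b / 3))) % 3 + 3 * (((a % 3) * (b / 3) + (a / 3) * (b % 3)) % 3)

/-- The code of the negative. -/
def neg9 (a : ℕ) : ℕ := (3 - a % 3) % 3 + 3 * ((3 - a / 3) % 3)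

/-- The field `𝔽₃[i]`. -/
structure F9 where
  /-- the code `x + 3y` -/
  val : Fin 9
deriving DecidableEq

/-- The element with a given code. -/
def nine (k : ℕ) : F9 := ⟨⟨k % 9, Nat.mod_lt _ (by norm_num)⟩⟩

namespace F9

/-- Codes and elements. -/
def equivFin : Fin 9 ≃ F9 := ⟨F9.mk, F9.val, fun _ => rfl, fun _ => rfl⟩

instance : Fintype F9 := Fintype.ofEquiv _ equivFin

theorem card : Fintype.card F9 = 9 := Fintype.card_congr equivFin.symm

instance : Zero F9 := ⟨nine 0⟩
instance : One F9 := ⟨nine 1⟩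
instance : Add F9 := ⟨fun a b => nine (add9 a.val.val b.val.val)⟩
instance : Mul F9 := ⟨fun a b => nine (mul9 a.val.val b.val.val)⟩
instance : Neg F9 := ⟨fun a => nine (neg9 a.val.val)⟩
/-- The inverse is the seventh power. -/
instance : Inv F9 := ⟨fun a => let b := a * a * a; b * b * a⟩

theorem add_assoc' : ∀ a b c : F9, a + b + c = a + (b + c) := by decide +kernel
theorem mul_assoc' : ∀ a b c : F9, a * b * c = a * (b * c) := by decide +kernel
theorem left_distrib' : ∀ a b c : F9, a * (b + c) = a * b + a * c := by decide +kernel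
theorem add_comm' : ∀ a b : F9, a + b = b + a := by decide +kernel
theorem mul_comm' : ∀ a b : F9, a * b = b * a := by decide +kernel
theorem zero_add' : ∀ a : F9, 0 + a = a := by decide +kernel
theorem zero_mul' : ∀ a : F9, 0 * a = 0 := by decide +kernel
theorem one_mul' : ∀ a : F9, 1 * a = a := by decide +kernel
theorem neg_add_cancel' : ∀ a : F9, -a + a = 0 := by decide +kernel
theorem mul_inv_cancel' : ∀ a : F9, a ≠ 0 → a * a⁻¹ = 1 := by decide +kernel
theorem inv_zero' : (0 : F9)⁻¹ = 0 := by decide +kernel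

instance : CommRing F9 where
  add_assoc := add_assoc'
  zero_add := zero_add'
  add_zero a := (add_comm' a 0).trans (zero_add' a)
  add_comm := add_comm'
  left_distrib := left_distrib'
  right_distrib a b c := by rw [mul_comm', left_distrib', mul_comm' a, mul_comm' b]
  zero_mul := zero_mul'
  mul_zero a := (mul_comm' a 0).trans (zero_mul' a)
  mul_assoc := mul_assoc'
  one_mul := one_mul'
  mul_one a := (mul_comm' a 1).trans (one_mul' a)
  neg_add_cancel := neg_add_cancel'
  mul_comm := mul_comm'
  nsmul := nsmulRec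
  zsmul := zsmulRec

instance : Field F9 where
  exists_pair_ne := ⟨0, 1, by decide⟩
  mul_inv_cancel := mul_inv_cancel'
  inv_zero := inv_zero'
  nnqsmul := _
  nnqsmul_def := fun _ _ => rfl
  qsmul := _
  qsmul_def := fun _ _ => rfl

theorem val_lt (a : F9) : a.val.val < 9 := a.val.isLt

theorem nine_val (a : F9) : nine a.val.val = a := by
  obtain ⟨⟨n, hn⟩⟩ := a
  simp [nine, Nat.mod_eq_of_lt hn]

theorem val_nine {k : ℕ} (h : k < 9) : (nine k).val.val = k := Nat.mod_eq_of_lt h

end F9

end Cfsg.Agent.JankoTwo
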