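import Cfsg.Agent.JankoTwo.OrderDefs
import Cfsg.Agent.JankoTwo.Chunks

/-! Kernel evaluation: exponents of the coset elements. -/

set_option autoImplicit false
set_option maxHeartbeats 0

namespace Cfsg.Agent.JankoTwo

open Cfsg.Agent.Compute

theorem ordCheck0_0 : allRange 0 40 (ordAt 0 ordTab0) = true := by decide +kernel

theorem ordCheck0_40 : allRange 40 40 (ordAt 0 ordTab0) = true := by decide +kernel

theorem ordCheck0_80 : allRange 80 40 (ordAt 0 ordTab0) = true := by decide +kernel

theorem ordCheck0_120 : allRange 120 40 (ordAt 0 ordTab0) = true := by decide +kernel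

theorem ordCheck0 : allBelow 160 (ordAt 0 ordTab0) = true := by
  refine allBelow_step (a := 120) (b := 40) (by norm_num) ?_ ordCheck0_120
  refine allBelow_step (a := 80) (b := 40) (by norm_num) ?_ ordCheck0_80
  refine allBelow_step (a := 40) (b := 40) (by norm_num) ?_ ordCheck0_40
  refine allBelow_step (a := 0) (b := 40) (by norm_num) ?_ ordCheck0_0
  exact allBelow_zero _

theorem ordCheck1_0 : allRange 0 40 (ordAt 1 ordTab1) = true := by decide +kernel

theorem ordCheck1_40 : allRange 40 40 (ordAt 1 ordTab1) = true := by decide +kernel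

theorem ordCheck1_80 : allRange 80 40 (ordAt 1 ordTab1) = true := by decide +kernel

theorem ordCheck1_120 : allRange 120 40 (ordAt 1 ordTab1) = true := by decide +kernel

theorem ordCheck1 : allBelow 160 (ordAt 1 ordTab1) = true := by
  refine allBelow_step (a := 120) (b := 40) (by norm_num) ?_ ordCheck1_120
  refine allBelow_step (a := 80) (b := 40) (by norm_num) ?_ ordCheck1_80
  refine allBelow_step (a := 40) (b := 40) (by norm_num) ?_ ordCheck1_40
  refine allBelow_step (a := 0) (b := 40) (by norm_num) ?_ ordCheck1_0
  exact allBelow_zero _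

theorem ordCheck2_0 : allRange 0 40 (ordAt 2 ordTab2) = true := by decide +kernel

theorem ordCheck2_40 : allRange 40 40 (ordAt 2 ordTab2) = true := by decide +kernel

theorem ordCheck2_80 : allRange 80 40 (ordAt 2 ordTab2) = true := by decide +kernel

theorem ordCheck2_120 : allRange 120 40 (ordAt 2 ordTab2) = true := by decide +kernel

theorem ordCheck2 : allBelow 160 (ordAt 2 ordTab2) = true := by
  refine allBelow_step (a := 120) (b := 40) (by norm_num) ?_ ordCheck2_120
  refine allBelow_step (a := 80) (b := 40) (by norm_num) ?_ ordCheck2_80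
  refine allBelow_step (a := 40) (b := 40) (by norm_num) ?_ ordCheck2_40
  refine allBelow_step (a := 0) (b := 40) (by norm_num) ?_ ordCheck2_0
  exact allBelow_zero _

theorem ordCheck3_0 : allRange 0 40 (ordAt 3 ordTab3) = true := by decide +kernel

theorem ordCheck3_40 : allRange 40 40 (ordAt 3 ordTab3) = true := by decide +kernel

theorem ordCheck3_80 : allRange 80 40 (ordAt 3 ordTab3) = true := by decide +kernel

theorem ordCheck3_120 : allRange 120 40 (ordAt 3 ordTab3) = true := by decide +kernel

theorem ordCheck3 : allBelow 160 (ordAt 3 ordTab3) = true := by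
  refine allBelow_step (a := 120) (b := 40) (by norm_num) ?_ ordCheck3_120
  refine allBelow_step (a := 80) (b := 40) (by norm_num) ?_ ordCheck3_80
  refine allBelow_step (a := 40) (b := 40) (by norm_num) ?_ ordCheck3_40
  refine allBelow_step (a := 0) (b := 40) (by norm_num) ?_ ordCheck3_0
  exact allBelow_zero _

theorem ordCheck4_0 : allRange 0 40 (ordAt 6 ordTab4) = true := by decide +kernel

theorem ordCheck4_40 : allRange 40 40 (ordAt 6 ordTab4) = true := by decide +kernel

theorem ordCheck4_80 : allRange 80 40 (ordAt 6 ordTab4) = true := by decide +kernel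

theorem ordCheck4_120 : allRange 120 40 (ordAt 6 ordTab4) = true := by decide +kernel

theorem ordCheck4 : allBelow 160 (ordAt 6 ordTab4) = true := by
  refine allBelow_step (a := 120) (b := 40) (by norm_num) ?_ ordCheck4_120
  refine allBelow_step (a := 80) (b := 40) (by norm_num) ?_ ordCheck4_80
  refine allBelow_step (a := 40) (b := 40) (by norm_num) ?_ ordCheck4_40
  refine allBelow_step (a := 0) (b := 40) (by norm_num) ?_ ordCheck4_0
  exact allBelow_zero _

theorem ordCheck5_0 : allRange 0 40 (ordAt 8 ordTab5) = true := by decide +kernel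

theorem ordCheck5_40 : allRange 40 40 (ordAt 8 ordTab5) = true := by decide +kernel

theorem ordCheck5_80 : allRange 80 40 (ordAt 8 ordTab5) = true := by decide +kernel

theorem ordCheck5_120 : allRange 120 40 (ordAt 8 ordTab5) = true := by decide +kernel

theorem ordCheck5 : allBelow 160 (ordAt 8 ordTab5) = true := by
  refine allBelow_step (a := 120) (b := 40) (by norm_num) ?_ ordCheck5_120
  refine allBelow_step (a := 80) (b := 40) (by norm_num) ?_ ordCheck5_80
  refine allBelow_step (a := 40) (b := 40) (by norm_num) ?_ ordCheck5_40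
  refine allBelow_step (a := 0) (b := 40) (by norm_num) ?_ ordCheck5_0
  exact allBelow_zero _

theorem witCheck_ok : witCheck = true := by decide +kernel

theorem baseCheck_ok : (Nat.beq j2L0.base 0 && Nat.beq j2L1.base 1 && Nat.beq j2L2.base 2 && Nat.beq j2L3.base 3 && Nat.beq j2L1.size 160 && Nat.beq j2L2.size 4 && Nat.beq j2L3.size 3 &&
    allL subRoots (fun r => Nat.beq (getField 9 (moveTo r) 0) r)) = true := by decide +kernel

theorem ordWit_orders : (ordWit.map fun e => e.1) = maxOrd := by decide +kernel

end Cfsg.Agent.JankoTwo
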