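import Cfsg.Agent.JankoTwo.Simple
import Cfsg.Agent.JankoTwo.OrderData

/-!
Checkers for the element orders of `J₂`.
-/

set_option autoImplicit false

namespace Cfsg.Agent.JankoTwo

open Cfsg.Agent.Compute

/-- A factor of a coset element. -/
noncomputable def fac1 (j : ℕ) : ℕ := (rep315.entry j2L1 j).u
noncomputable def fac2 (k : ℕ) : ℕ := (rep315.entry j2L2 k).u
noncomputable def fac3 (l : ℕ) : ℕ := (rep315.entry j2L3 l).u

/-- Image of a point under a product of five factors. -/
noncomputable def step4 (a b c d x : ℕ) : ℕ :=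
  getField 9 a (getField 9 b (getField 9 c (getField 9 d x)))

/-- Iterate. -/
noncomputable def iterN (f : ℕ → ℕ) (n x : ℕ) : ℕ :=
  Nat.rec (motive := fun _ => ℕ) x (fun _ r => f r) n

theorem iterN_succ (f : ℕ → ℕ) (n x : ℕ) : iterN f (n + 1) x = f (iterN f n x) := rfl

/-- The `n`-th power of the element fixes the base points. -/
noncomputable def fixBase (a b c d n : ℕ) : Bool :=
  allBelow 4 fun x => Nat.beq (iterN (step4 a b c d) n x) x

/-- The maximal element orders. -/
def maxOrd : List ℕ := [7, 8, 10, 12, 15]

/-- One coset element has one of the exponents. -/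
noncomputable def ordAt (r tab j : ℕ) : Bool :=
  let a := moveTo r
  let b := fac1 j
  allBelow 4 fun k => allBelow 3 fun l =>
    let c := fac2 k
    let d := fac3 l
    let i := getField 3 tab (Nat.add (Nat.mul j 12) (Nat.add (Nat.mul k 3) l))
    Nat.blt i 5 && fixBase a b c d (maxOrd.getD i 0)

/-- The witnesses have the orders listed. -/
noncomputable def witCheck : Bool :=
  allL ordWit fun e =>
    let a := moveTo e.2.1
    let b := fac1 e.2.2.1
    let c := fac2 e.2.2.2.1
    let d := fac3 e.2.2.2.2
    fixBase a b c d e.1 &&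
      allBelow e.1 (fun m => Nat.beq m 0 || !fixBase a b c d m)

end Cfsg.Agent.JankoTwo
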