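import Cfsg.Agent.JankoTwo.Centralizer
import Cfsg.Agent.JankoTwo.OuterData

/-! Checks for the automorphisms of `J₂`. -/

set_option autoImplicit false
set_option maxHeartbeats 0

namespace Cfsg.Agent.JankoTwo

open Cfsg.Agent.Compute

/-- The code of a reflection. -/
noncomputable def tblAt (n : ℕ) : ℕ := (tblData.getD (Nat.div n 15) []).getD (Nat.mod n 15) 0

/-- The table entry follows from the parent entry. -/
noncomputable def tblStep (j : ℕ) : Bool :=
  let i := Nat.succ j
  let p := getField 9 parentCode i
  let k := getField 2 parentGen i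
  allBelow 315 fun x =>
    Nat.beq (getField 9 (tblAt i) x)
      (getField 9 (genCodes.getD k 0)
        (getField 9 (tblAt p) (getField 9 (genCodes.getD k 0) x)))

/-- A word in the reflections of four axes, applied to one of the axes. -/
noncomputable def wValN (a : List ℕ) (w : List ℕ × ℕ) : ℕ :=
  List.rec (motive := fun _ => ℕ) (a.getD w.2 0)
    (fun k _ r => getField 9 (tblAt (a.getD k 0)) r) w.1

/-- An equation between words. -/
noncomputable def eqN (e : (List ℕ × ℕ) × (List ℕ × ℕ)) (a : List ℕ) : Bool :=
  Nat.beq (wValN a e.1) (wValN a e.2)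

/-- The equation for the second axis. -/
def eqn1 : (List ℕ × ℕ) × (List ℕ × ℕ) := (([0, 1], 0), ([1, 0], 1))
/-- The first equation for the third axis. -/
def eqn2 : (List ℕ × ℕ) × (List ℕ × ℕ) := (([2, 0, 2, 1], 0), ([1, 2, 0], 1))
/-- The second equation for the third axis. -/
def eqn3 : (List ℕ × ℕ) × (List ℕ × ℕ) := (([0], 2), ([2], 0))
/-- The equation for the fourth axis. -/
def eqn4 : (List ℕ × ℕ) × (List ℕ × ℕ) := (([3, 0, 1], 3), ([2, 1], 3))

/-- The four axes. -/
def axes4 : List ℕ := [0, 3, 7, 15]

/-- The words giving the axes of the generators. -/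
def axWords : List (List ℕ × ℕ) := [([], 0), ([3, 2], 0), ([3], 2), ([0, 1], 0)]

/-- The facts about the four axes and the outer permutation. -/
noncomputable def baseCheck4 : Bool :=
  eqN eqn1 axes4 && eqN eqn2 axes4 && eqN eqn3 axes4 && eqN eqn4 axes4 &&
    Nat.beq (tblAt 0) (genCodes.getD 0 0) && Nat.beq (genAxes.getD 0 0) 0 &&
    allBelow 4 (fun k => Nat.beq (wValN axes4 (axWords.getD k ([], 0))) (genAxes.getD k 0)) &&
    codePermB 9 315 outerCode && Nat.beq (getField 9 outerCode 0) 0 &&
    Nat.beq (getField 9 outerCode 3) 8

/-- The outer permutation maps the generators to reflections. -/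
noncomputable def outerAt (k : ℕ) : Bool :=
  allBelow 315 fun x =>
    Nat.beq (getField 9 outerCode (getField 9 (genCodes.getD k 0) x))
      (getField 9 (tblAt (getField 9 outerCode (genAxes.getD k 0))) (getField 9 outerCode x))

/-- Only the axis 0 is fixed by the stabiliser. -/
noncomputable def fixCheck : Bool :=
  allBelow 315 fun x =>
    Nat.beq x 0 || anyL j2L1.gens (fun g => !Nat.beq (getField 9 g x) x)

/-- The outer permutation moves the second axis out of its orbit. -/
noncomputable def outCheck : Bool :=
  allBelow 160 fun j => allBelow 4 fun k => allBelow 3 fun l =>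
    !Nat.beq (app3 (j, k, l) 3) 8

/-- An element commuting with the kernel of the block action is central there. -/
noncomputable def centAt (j : ℕ) : Bool :=
  allBelow 4 fun k => allBelow 3 fun l =>
    agree3 (app3 (j, k, l)) (fun x => x) || agree3 (app3 (j, k, l)) (getField 9 zCode) ||
      anyL kerWit fun b =>
        !agree3 (fun x => app3 (j, k, l) (app3 b x)) (fun x => app3 b (app3 (j, k, l) x))

/-- The candidates for the second axis. -/
noncomputable def secondAt (b : ℕ) : Bool :=
  Nat.beq b 0 || !eqN eqn1 [0, b] ||
    anyL secondWit (fun w => Nat.beq (app3 (w.1, w.2.1, w.2.2.1) (cond w.2.2.2 8 3)) b)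

/-- The candidates for the third and fourth axis. -/
noncomputable def pairAt (b : ℕ) : Bool :=
  Nat.beq b 0 || Nat.beq b 3 || !(eqN eqn2 [0, 3, b] && eqN eqn3 [0, 3, b]) ||
    allBelow 315 fun c =>
      Nat.beq c 0 || Nat.beq c 3 || Nat.beq c b || !eqN eqn4 [0, 3, b, c] ||
        anyL pairWit (fun w => Nat.beq (app3 w 3) 3 && Nat.beq (app3 w 7) b && Nat.beq (app3 w 15) c)

theorem baseCheck4_ok : baseCheck4 = true := by decide +kernel

theorem outerAt_ok : allBelow 4 outerAt = true := by decide +kernel

theorem fixCheck_ok : fixCheck = true := by decide +kernel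

theorem outCheck_ok : outCheck = true := by decide +kernel

theorem centAt_ok : allBelow 160 centAt = true := by decide +kernel

theorem secondAt_ok : allBelow 315 secondAt = true := by decide +kernel

theorem pairAt_ok : allBelow 315 pairAt = true := by decide +kernel

theorem tblStep_0 : allRange 0 80 tblStep = true := by decide +kernel

theorem tblStep_80 : allRange 80 80 tblStep = true := by decide +kernel

theorem tblStep_160 : allRange 160 80 tblStep = true := by decide +kernel

theorem tblStep_240 : allRange 240 74 tblStep = true := by decide +kernel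

theorem tblStep_ok : allBelow 314 tblStep = true := by
  refine allBelow_step (a := 240) (b := 74) (by norm_num) ?_ tblStep_240
  refine allBelow_step (a := 160) (b := 80) (by norm_num) ?_ tblStep_160
  refine allBelow_step (a := 80) (b := 80) (by norm_num) ?_ tblStep_80
  refine allBelow_step (a := 0) (b := 80) (by norm_num) ?_ tblStep_0
  exact allBelow_zero _

end Cfsg.Agent.JankoTwo
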