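import Cfsg.Agent.JankoTwo.OuterCheck

/-!
Automorphisms of `J₂` permute the 315 reflections: a reflection is the non-trivial central
element of a Sylow 2-subgroup.
-/

set_option autoImplicit false

namespace Cfsg.Agent.JankoTwo

open Cfsg.Spor Cfsg.Agent.Compute

theorem exists_fac3 {σ : Equiv.Perm (Fin 315)} (h : σ ∈ Cg) :
    ∃ j, j < 160 ∧ ∃ k, k < 4 ∧ ∃ l, l < 3 ∧ σ = fac3Prod (j, k, l) := by
  obtain ⟨-, -, -, -, s1, s2, s3, -⟩ := base_facts
  obtain ⟨j, hj, y, hy, rfl⟩ := rep315.decompose chain_tail1 h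
  obtain ⟨k, hk, z, hz, rfl⟩ := rep315.decompose chain_tail2 hy
  obtain ⟨l, hl, w, hw, rfl⟩ := rep315.decompose chain_tail3 hz
  have hw1 : w = 1 := by
    rw [Rep.chainGroup, Rep.span] at hw
    simpa [topGens] using hw
  subst hw1
  exact ⟨j, s1 ▸ hj, k, s2 ▸ hk, l, s3 ▸ hl, by rw [mul_one]; rfl⟩

theorem zCode_apply (x : Fin 315) :
    ((tR 0 : Equiv.Perm (Fin 315)) x : ℕ) = getField 9 zCode x := by
  rw [← zP_eq]; exact zP_apply x

/-- The kernel of the block action, inside the group. -/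
noncomputable def Qk : Subgroup K315 := (blockHom.ker.map Cg.subtype).subgroupOf K315

theorem isPGroup_Qk : IsPGroup 2 Qk := by
  have h1 : IsPGroup 2 blockHom.ker :=
    IsPGroup.of_card (n := 5) (by rw [card_ker_blockHom]; norm_num)
  have hle : blockHom.ker.map Cg.subtype ≤ K315 := by
    rintro _ ⟨x, -, rfl⟩
    exact Cg_le x.2
  exact (h1.map Cg.subtype).of_equiv (Subgroup.subgroupOfEquivOfLe hle).symm

theorem mem_Qk {σ : Equiv.Perm (Fin 315)} (h : σ ∈ Cg) (hk : ∀ k : Fin 5, blkIdx (σ (pP k)) = k) :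
    (⟨σ, Cg_le h⟩ : K315) ∈ Qk := by
  refine Subgroup.mem_subgroupOf.mpr ⟨⟨σ, h⟩, ?_, rfl⟩
  rw [SetLike.mem_coe, MonoidHom.mem_ker]
  ext k
  rw [blockHom_val, Equiv.Perm.one_apply]
  exact hk k

theorem cases_of_comm {g : K315} (hg : ∀ q ∈ Qk, g * q = q * g) : g = 1 ∨ g = tR 0 := by
  obtain ⟨hz, hzb, -, -⟩ := es_facts
  have hzq : tR 0 ∈ Qk := by
    have := mem_Qk hz hzb
    convert this using 1
    exact Subtype.ext zP_eq.symm
  have hC : (g : Equiv.Perm (Fin 315)) ∈ Cg :=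
    mem_Cg_iff.mpr ⟨g.2, (commute_tR0_iff g).mp (hg _ hzq)⟩
  obtain ⟨j, hj, k, hk, l, hl, e⟩ := exists_fac3 hC
  have hval : ∀ x : Fin 315, ((g : Equiv.Perm (Fin 315)) x : ℕ) = app3 (j, k, l) x :=
    fun x => by rw [e, fac3Prod_apply]
  have h := allBelow_eq_true.mp (allBelow_eq_true.mp (allBelow_eq_true.mp centAt_ok j hj) k hk) l hl
  simp only [Bool.or_eq_true] at h
  rcases h with (h | h) | h
  · exact Or.inl (Subtype.ext (agree3_eq hC (one_mem _) hval (fun _ => rfl) h))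
  · exact Or.inr (Subtype.ext (agree3_eq hC (mem_Cg_iff.mpr ⟨(tR 0).2, Cg_fix0 (zP_eq ▸ hz)⟩)
      hval zCode_apply h))
  · exfalso
    obtain ⟨b, hb, hb'⟩ := anyL_spec h
    have hbk : ∀ k : Fin 5, blkIdx (fac3Prod b (pP k)) = k := fun k => by
      rw [fac3Prod_apply]
      exact Nat.eq_of_beq_eq_true (allBelow_eq_true.mp (allL_spec wit_facts.2.2.2.2 b hb) k k.2)
    have hc := congrArg Subtype.val (hg _ (mem_Qk (fac3Prod_mem b) hbk))
    simp only [Subgroup.coe_mul] at hc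
    rw [agree3_of_eq (σ := (g : Equiv.Perm (Fin 315)) * fac3Prod b)
      (τ := fac3Prod b * (g : Equiv.Perm (Fin 315)))
      (fun x => by rw [Equiv.Perm.mul_apply, hval, fac3Prod_apply])
      (fun x => by rw [Equiv.Perm.mul_apply, fac3Prod_apply, hval]) hc] at hb'
    simp at hb'

theorem exists_auto_refl_zero (α : MulAut K315) : ∃ j, α (tR 0) = tR j := by
  have : Fact (Nat.Prime 2) := ⟨Nat.prime_two⟩
  obtain ⟨S, hS⟩ := isPGroup_Qk.exists_le_sylow
  have hcomm : ∀ c : K315, (∀ s ∈ (S : Subgroup K315), c * s = s * c) → c ≠ 1 → c = tR 0 :=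
    fun c hc hc1 => (cases_of_comm fun q hq => hc q (hS hq)).resolve_left hc1
  obtain ⟨h0S, h0c⟩ : tR 0 ∈ (S : Subgroup K315) ∧
      ∀ s ∈ (S : Subgroup K315), tR 0 * s = s * tR 0 := by
    have : Nontrivial (S : Subgroup K315) := by
      rw [Subgroup.nontrivial_iff_ne_bot]
      intro h
      obtain ⟨hz, hzb, hz1, -⟩ := es_facts
      have := hS (mem_Qk hz hzb)
      rw [h, Subgroup.mem_bot] at this
      exact hz1 (congrArg Subtype.val this)
    have := S.isPGroup'.center_nontrivial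
    obtain ⟨⟨c, hc⟩, hc1⟩ := exists_ne (1 : Subgroup.center (S : Subgroup K315))
    have hcs : ∀ s ∈ (S : Subgroup K315), (c : K315) * s = s * c := fun s hs =>
      (congrArg Subtype.val (Subgroup.mem_center_iff.mp hc ⟨s, hs⟩)).symm
    have he : (c : K315) = tR 0 := hcomm _ hcs fun h => hc1 (Subtype.ext (Subtype.ext h))
    exact ⟨he ▸ c.2, fun s hs => he ▸ hcs s hs⟩
  let S1 : Sylow 2 K315 := S.mapSurjective (f := α.toMonoidHom) α.surjective
  obtain ⟨g, hg⟩ := MulAction.exists_smul_eq K315 S1 S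
  have hne : α (tR 0) ≠ 1 := by
    intro h
    have h' := α.injective (h.trans (map_one α).symm)
    obtain ⟨-, -, hz1, -⟩ := es_facts
    exact hz1 (zP_eq.trans (congrArg Subtype.val h'))
  have key : g * α (tR 0) * g⁻¹ = tR 0 := by
    refine hcomm _ (fun s hs => ?_) fun h => hne ?_
    · rw [← hg, Sylow.coe_subgroup_smul, Subgroup.mem_pointwise_smul_iff_inv_smul_mem] at hs
      obtain ⟨t, ht, hts⟩ := hs
      simp only [MulAut.smul_def, MulEquiv.coe_toMonoidHom,
        MulAut.conj_inv_apply] at hts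
      rw [show s = g * α t * g⁻¹ by rw [hts]; group]
      rw [conj_mul, conj_mul, ← map_mul, h0c t ht, map_mul]
    · exact conj_eq_one_iff.mp h
  refine ⟨(g⁻¹ : K315).1 0, ?_⟩
  rw [← tR_conj]
  conv_rhs => rw [← key]
  group

theorem exists_auto_refl (α : MulAut K315) (i : Fin 315) : ∃ j, α (tR i) = tR j := by
  obtain ⟨g, hg⟩ := piJ_trans 0 i
  obtain ⟨j, hj⟩ := exists_auto_refl_zero α
  refine ⟨(α (piJ.rangeRestrict g)).1 j, ?_⟩
  rw [← tR_conj, ← hj, ← map_inv, ← map_mul, ← map_mul, tR_conj]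
  exact congrArg (fun x => α (tR x)) hg.symm

/-- The permutation of the axes induced by an automorphism. -/
noncomputable def autPerm (α : MulAut K315) (i : Fin 315) : Fin 315 :=
  (exists_auto_refl α i).choose

theorem autPerm_spec (α : MulAut K315) (i : Fin 315) : α (tR i) = tR (autPerm α i) :=
  (exists_auto_refl α i).choose_spec

end Cfsg.Agent.JankoTwo
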