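import Cfsg.Agent.JankoTwo.EnumDefs
import Cfsg.Agent.JankoTwo.GroupData
import Cfsg.Agent.JankoTwo.SigData

/-!
Checkers for the action of the reflections on the axes.
-/

set_option autoImplicit false

namespace Cfsg.Agent.JankoTwo

open Cfsg.Agent.Compute

/-- The axis number `i`. -/
def axI (i : ℕ) : V3 := V3.ofCodes (axisCodes.getD i (0, 0, 0))

/-- The reflection in `r`, on the model. -/
def V3.refl (r v : V3) : V3 := v.sub (r.smul (v.ip r).half)

/-- Equality test for triples. -/
def V3.beq (v w : V3) : Bool := v.x.beq w.x && v.y.beq w.y && v.z.beq w.z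

theorem v3_beq_iff {v w : V3} : v.beq w = true ↔ v = w := by
  simp [V3.beq, V3.ext_iff, ico_beq_iff, and_assoc]

/-- `2 e_t`. -/
def twoE : ℕ → V3
  | 0 => ⟨Ico.ofInt 2, Ico.ofInt 0, Ico.ofInt 0⟩
  | 1 => ⟨Ico.ofInt 0, Ico.ofInt 2, Ico.ofInt 0⟩
  | _ => ⟨Ico.ofInt 0, Ico.ofInt 0, Ico.ofInt 2⟩

/-- Append a code. -/
def cat40 (a : ℕ) (x : Ico) : ℕ := Nat.shiftLeft a 40 + x.code

/-- A number determined by the reflection in `r`. -/
def sigOf (r : V3) : ℕ :=
  let p := V3.refl r (twoE 0)
  let q := V3.refl r (twoE 1)
  let s := V3.refl r (twoE 2)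
  cat40 (cat40 (cat40 (cat40 (cat40 (cat40 (cat40 (cat40 (cat40 0 p.x) p.y) p.z) q.x) q.y) q.z)
    s.x) s.y) s.z

/-- One signature is as listed. -/
noncomputable def sigAt (i : ℕ) : Bool := Nat.beq (sigOf (axI i)) (reflSigs.getD i 0)

/-- The signatures are as listed. -/
noncomputable def sigCheck : Bool := allBelow 315 sigAt

/-- The listed signatures are distinct. -/
noncomputable def nodupB (l : List ℕ) : Bool :=
  List.rec (motive := fun _ => Bool) true (fun a t r => !memB a t && r) l

/-- One image of an axis under a generator is as listed. -/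
noncomputable def genAt (k j : ℕ) : Bool :=
  let u := getField 7 (genUnits.getD k 0) j
  Nat.blt u 120 && (V3.refl (axI (genAxes.getD k 0)) (axI j)).beq
    ((axI (getField 9 (genCodes.getD k 0) j)).smul (unitI u))

/-- The generators permute the axes as listed. -/
noncomputable def genCheck : Bool := allBelow 4 fun k => allBelow 315 (genAt k)

/-- Each axis other than the first is reached from an earlier one by a generator. -/
noncomputable def parentCheck : Bool :=
  allBelow 314 fun j =>
    let i := Nat.succ j
    let p := getField 9 parentCode i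
    let k := getField 2 parentGen i
    Nat.blt p i && Nat.blt k 4 && Nat.beq (getField 9 (genCodes.getD k 0) p) i

end Cfsg.Agent.JankoTwo
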