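import Cfsg.Agent.JankoTwo.SymEight

/-!
Extensions of `A₈` by a power of the six-dimensional section of the permutation module over `𝔽₂`:
their element orders are the divisors of 7, 8, 10, 12 and 15.
-/

set_option autoImplicit false

namespace Cfsg.Agent.JankoTwo

open Equiv

/-- Differences of a function on pairs; it kills the constants. -/
def dPair (v : Fin 8 → ZMod 2) : Fin 8 × Fin 8 → ZMod 2 := fun p => v p.1 + v p.2

/-- The even functions modulo constants. -/
def heartV : AddSubgroup (Fin 8 × Fin 8 → ZMod 2) where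
  carrier := {f | ∃ v : Fin 8 → ZMod 2, ∑ a, v a = 0 ∧ f = dPair v}
  zero_mem' := ⟨0, by simp, by funext p; simp [dPair]⟩
  add_mem' := by
    rintro _ _ ⟨v, hv, rfl⟩ ⟨w, hw, rfl⟩
    exact ⟨v + w, by simp [Finset.sum_add_distrib, hv, hw], by funext p; simp [dPair]; abel⟩
  neg_mem' := by
    rintro _ ⟨v, hv, rfl⟩
    exact ⟨-v, by simp [hv], by funext p; simp [dPair]; abel⟩

/-- Moving a pair function by a permutation. -/
def movePair (g : Perm (Fin 8)) (f : heartV) : heartV :=
  ⟨fun p => (f : Fin 8 × Fin 8 → ZMod 2) (g⁻¹ p.1, g⁻¹ p.2), by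
    obtain ⟨v, hv, he⟩ := f.2
    refine ⟨fun a => v (g⁻¹ a), by rw [Equiv.sum_comp g⁻¹ v, hv], ?_⟩
    funext p
    rw [he]; rfl⟩

theorem movePair_apply (g : Perm (Fin 8)) (f : heartV) (p : Fin 8 × Fin 8) :
    (movePair g f : Fin 8 × Fin 8 → ZMod 2) p = (f : Fin 8 × Fin 8 → ZMod 2) (g⁻¹ p.1, g⁻¹ p.2) :=
  rfl

theorem movePair_one (f : heartV) : movePair 1 f = f := by
  apply Subtype.ext; funext p; simp [movePair_apply]

theorem movePair_mul (g h : Perm (Fin 8)) (f : heartV) :
    movePair (g * h) f = movePair g (movePair h f) := by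
  apply Subtype.ext; funext p; simp [movePair_apply]

theorem movePair_add (g : Perm (Fin 8)) (f f' : heartV) :
    movePair g (f + f') = movePair g f + movePair g f' := by
  apply Subtype.ext; funext p; simp [movePair_apply]

variable (k : ℕ)

/-- The normal subgroup. -/
abbrev Base : Type := Multiplicative (Fin k → heartV)

/-- The action of `A₈`. -/
noncomputable def actA8 : alternatingGroup (Fin 8) →* MulAut (Base k) where
  toFun g :=
    { toFun := fun F => Multiplicative.ofAdd fun i => movePair g (Multiplicative.toAdd F i)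
      invFun := fun F => Multiplicative.ofAdd fun i =>
        movePair (g : Perm (Fin 8))⁻¹ (Multiplicative.toAdd F i)
      left_inv := fun F => by
        apply Multiplicative.toAdd.injective
        funext i
        simp [← movePair_mul, movePair_one]
      right_inv := fun F => by
        apply Multiplicative.toAdd.injective
        funext i
        simp [← movePair_mul, movePair_one]
      map_mul' := fun F F' => by
        apply Multiplicative.toAdd.injective
        funext i
        simp [movePair_add] }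
  map_one' := by
    ext F : 1
    apply Multiplicative.toAdd.injective
    funext i
    simp [movePair_one]
  map_mul' g h := by
    ext F : 1
    apply Multiplicative.toAdd.injective
    funext i
    simp [movePair_mul]

theorem actA8_apply (g : alternatingGroup (Fin 8)) (F : Base k) (i : Fin k) :
    Multiplicative.toAdd (actA8 k g F) i = movePair g (Multiplicative.toAdd F i) := rfl

/-- The extension. -/
abbrev ExtA8 : Type := Base k ⋊[actA8 k] alternatingGroup (Fin 8)

variable {k}

theorem pow_right' (x : ExtA8 k) (n : ℕ) : (x ^ n).right = x.right ^ n :=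
  map_pow (SemidirectProduct.rightHom) x n

theorem pow_left' (x : ExtA8 k) (n : ℕ) (i : Fin k) (p : Fin 8 × Fin 8) :
    (Multiplicative.toAdd (x ^ n).left i : Fin 8 × Fin 8 → ZMod 2) p =
      ∑ j ∈ Finset.range n, (Multiplicative.toAdd x.left i : Fin 8 × Fin 8 → ZMod 2)
        (((x.right : Perm (Fin 8)) ^ j)⁻¹ p.1, ((x.right : Perm (Fin 8)) ^ j)⁻¹ p.2) := by
  induction n with
  | zero => simp
  | succ n ih =>
    rw [pow_succ, SemidirectProduct.mul_left, toAdd_mul, Pi.add_apply, AddSubgroup.coe_add,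
      Pi.add_apply, ih, actA8_apply, pow_right', movePair_apply, SubgroupClass.coe_pow,
      Finset.sum_range_succ]

/-- The norm map of a permutation on functions. -/
def normSum (g : Perm (Fin 8)) (n : ℕ) (v : Fin 8 → ZMod 2) (a : Fin 8) : ZMod 2 :=
  ∑ j ∈ Finset.range n, v ((g ^ j)⁻¹ a)

theorem pow_eq_one_of_const (x : ExtA8 k) {n : ℕ} (hn : x.right ^ n = 1)
    (h : ∀ v : Fin 8 → ZMod 2, ∑ a, v a = 0 → ∀ a b,
      normSum x.right n v a = normSum x.right n v b) : x ^ n = 1 := by
  refine SemidirectProduct.ext ?_ (by rw [pow_right', hn]; rfl)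
  apply Multiplicative.toAdd.injective
  funext i
  apply Subtype.ext
  funext p
  rw [pow_left']
  obtain ⟨v, hv, he⟩ := (Multiplicative.toAdd x.left i).2
  rw [he]
  simp only [dPair, Finset.sum_add_distrib]
  have := h v hv p.1 p.2
  simp only [normSum] at this
  rw [this]
  simp [CharTwo.add_self_eq_zero]

theorem pow_two_mul_eq_one (x : ExtA8 k) {n : ℕ} (hn : x.right ^ n = 1) : x ^ (2 * n) = 1 := by
  have hr : (x ^ n).right = 1 := by rw [pow_right', hn]
  rw [mul_comm, pow_mul, pow_two]
  refine SemidirectProduct.ext ?_ (by rw [SemidirectProduct.mul_right, hr, one_mul]; rfl)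
  rw [SemidirectProduct.mul_left, hr, map_one, MulAut.one_apply]
  apply Multiplicative.toAdd.injective
  funext i
  apply Subtype.ext
  funext p
  simp [CharTwo.add_self_eq_zero]

theorem const_w7 : ∀ v : Fin 8 → ZMod 2, ∑ a, v a = 0 → ∀ a b,
    normSum w7 7 v a = normSum w7 7 v b := by
  decide +kernel

theorem const_w15 : ∀ v : Fin 8 → ZMod 2, ∑ a, v a = 0 → ∀ a b,
    normSum w15 15 v a = normSum w15 15 v b := by
  decide +kernel

theorem const_conj {g w : Perm (Fin 8)} {n : ℕ} (hc : IsConj w g)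
    (h : ∀ v : Fin 8 → ZMod 2, ∑ a, v a = 0 → ∀ a b, normSum w n v a = normSum w n v b) :
    ∀ v : Fin 8 → ZMod 2, ∑ a, v a = 0 → ∀ a b, normSum g n v a = normSum g n v b := by
  obtain ⟨c, rfl⟩ := isConj_iff.mp hc
  intro v hv a b
  have e : ∀ a, normSum (c * w * c⁻¹) n v a = normSum w n (fun x => v (c x)) (c⁻¹ a) := by
    intro a
    simp only [normSum, conj_pow, mul_inv_rev, inv_inv, Equiv.Perm.mul_apply]
  rw [e, e]
  exact h _ (by rw [Equiv.sum_comp c v, hv]) _ _

theorem eq_zero_of_sum_le_one {m : Multiset ℕ} (h2 : ∀ a ∈ m, 2 ≤ a) (h : m.sum ≤ 1) : m = 0 := by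
  refine Multiset.eq_zero_of_forall_notMem fun a ha => ?_
  have := h2 a ha
  have := Multiset.single_le_sum (fun x _ => Nat.zero_le x) a ha
  omega

theorem cycle_facts (g : Perm (Fin 8)) :
    g.cycleType.sum ≤ 8 ∧ (∀ a ∈ g.cycleType, 2 ≤ a ∧ a ≤ 8) := by
  have h : g.cycleType.sum ≤ 8 := by
    rw [Perm.sum_cycleType]
    exact (Finset.card_le_univ _).trans (le_of_eq (Fintype.card_fin 8))
  exact ⟨h, fun a ha => ⟨Perm.two_le_of_mem_cycleType ha,
    (Multiset.single_le_sum (fun x _ => Nat.zero_le x) a ha).trans h⟩⟩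

theorem pow_eq_one_iff_parts (g : Perm (Fin 8)) (n : ℕ) :
    g ^ n = 1 ↔ ∀ a ∈ g.cycleType, a ∣ n := by
  rw [← orderOf_dvd_iff_pow_eq_one, ← Perm.lcm_cycleType, Multiset.lcm_dvd]

theorem cycleType_pair {g : Perm (Fin 8)} {a b : ℕ} (hab : a ≠ b) (h7 : 7 ≤ a + b)
    (ha : a ∈ g.cycleType) (hb : b ∈ g.cycleType) : g.cycleType = {a, b} := by
  obtain ⟨hs, h2⟩ := cycle_facts g
  obtain ⟨m, hm⟩ := Multiset.exists_cons_of_mem ha
  have hb' : b ∈ m := by
    rw [hm] at hb
    exact (Multiset.mem_cons.mp hb).resolve_left (Ne.symm hab)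
  obtain ⟨m', rfl⟩ := Multiset.exists_cons_of_mem hb'
  rw [hm, Multiset.sum_cons, Multiset.sum_cons] at hs
  have : m' = 0 := eq_zero_of_sum_le_one
    (fun x hx => (h2 x (by simp [hm, hx])).1) (by omega)
  rw [hm, this]; rfl

theorem cycleType_single {g : Perm (Fin 8)} {a : ℕ} (h7 : 7 ≤ a) (ha : a ∈ g.cycleType) :
    g.cycleType = {a} := by
  obtain ⟨hs, h2⟩ := cycle_facts g
  obtain ⟨m, hm⟩ := Multiset.exists_cons_of_mem ha
  rw [hm, Multiset.sum_cons] at hs
  have : m = 0 := eq_zero_of_sum_le_one (fun x hx => (h2 x (by simp [hm, hx])).1) (by omega)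
  rw [hm, this]; rfl

theorem even_cycleType {g : Perm (Fin 8)} (hg : g ∈ alternatingGroup (Fin 8)) :
    Even (g.cycleType.sum + g.cycleType.card) := by
  have := Perm.mem_alternatingGroup.mp hg
  rw [Perm.sign_of_cycleType, neg_one_pow_eq_one_iff_even] at this
  · exact this
  · decide

/-- Every element has one of the exponents. -/
theorem ext_exponent (x : ExtA8 k) : ∃ n ∈ [7, 8, 10, 12, 15], x ^ n = 1 := by
  obtain ⟨hs, hb⟩ := cycle_facts (x.right : Perm (Fin 8))
  have hev := even_cycleType x.right.2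
  have lift : ∀ {m n : ℕ}, (x.right : Perm (Fin 8)) ^ m = 1 → 2 * m = n → x ^ n = 1 := by
    intro m n h hmn
    rw [← hmn]
    exact pow_two_mul_eq_one x (Subtype.ext (by rw [SubgroupClass.coe_pow, h]; rfl))
  obtain ⟨n, hn, h⟩ := s8_exponent (x.right : Perm (Fin 8))
  have hp := (pow_eq_one_iff_parts _ n).mp h
  simp only [List.mem_cons, List.not_mem_nil, or_false] at hn
  rcases hn with rfl | rfl | rfl | rfl | rfl
  · -- order 1 or 7
    by_cases h1 : (x.right : Perm (Fin 8)) = 1
    · exact ⟨8, by simp, lift (m := 4) (by rw [h1, one_pow]) rfl⟩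
    refine ⟨7, by simp, pow_eq_one_of_const x (Subtype.ext (by rw [SubgroupClass.coe_pow, h]; rfl))
      (const_conj ?_ const_w7)⟩
    obtain ⟨a, ha⟩ := Multiset.exists_mem_of_ne_zero (Perm.cycleType_eq_zero.not.mpr h1)
    obtain ⟨_, _⟩ := hb a ha
    have hda := hp a ha
    have ha7 : a = 7 := by revert hda; interval_cases a <;> decide
    subst ha7
    rw [Perm.isConj_iff_cycleType_eq, cycleType_single (by norm_num) ha]
    decide +kernel
  · -- order dividing 8
    refine ⟨8, by simp, lift (m := 4) ((pow_eq_one_iff_parts _ 4).mpr fun a ha => ?_) rfl⟩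
    obtain ⟨_, _⟩ := hb a ha
    have h8 := hp a ha
    by_contra hne
    have ha8 : a = 8 := by revert h8 hne; interval_cases a <;> decide
    subst ha8
    rw [cycleType_single (by norm_num) ha] at hev
    simp [Nat.even_iff] at hev
  · -- order dividing 10
    by_cases h2 : (x.right : Perm (Fin 8)) ^ 2 = 1
    · exact ⟨8, by simp, lift (m := 4) (by rw [show 4 = 2 * 2 from rfl, pow_mul, h2, one_pow]) rfl⟩
    refine ⟨10, by simp, lift (m := 5) ((pow_eq_one_iff_parts _ 5).mpr fun a ha => ?_) rfl⟩
    rw [pow_eq_one_iff_parts] at h2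
    push Not at h2
    obtain ⟨b, hb5, hb2⟩ := h2
    obtain ⟨_, _⟩ := hb a ha
    obtain ⟨_, _⟩ := hb b hb5
    have hda := hp a ha
    have hdb := hp b hb5
    by_contra hne
    have ha2 : a = 2 := by revert hda hne; interval_cases a <;> decide
    have hb5' : b = 5 := by revert hdb hb2; interval_cases b <;> decide
    subst ha2 hb5'
    rw [cycleType_pair (by norm_num) (by norm_num) hb5 ha] at hev
    simp [Nat.even_iff] at hev
  · -- order dividing 12
    by_cases h4 : (x.right : Perm (Fin 8)) ^ 4 = 1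
    · exact ⟨8, by simp, lift h4 rfl⟩
    refine ⟨12, by simp, lift (m := 6) ((pow_eq_one_iff_parts _ 6).mpr fun a ha => ?_) rfl⟩
    rw [pow_eq_one_iff_parts] at h4
    push Not at h4
    obtain ⟨b, hb3, hb4⟩ := h4
    obtain ⟨_, _⟩ := hb a ha
    obtain ⟨_, _⟩ := hb b hb3
    have hda := hp a ha
    have hdb := hp b hb3
    by_contra hne
    have ha4 : a = 4 := by revert hda hne; interval_cases a <;> decide
    subst ha4
    have hb36 : b = 3 ∨ b = 6 := by revert hdb hb4; interval_cases b <;> decide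
    rcases hb36 with rfl | rfl
    · rw [cycleType_pair (by norm_num) (by norm_num) ha hb3] at hev
      simp [Nat.even_iff] at hev
    · rw [cycleType_pair (by norm_num) (by norm_num) ha hb3] at hs
      simp at hs
  · -- order dividing 15
    by_cases h3 : (x.right : Perm (Fin 8)) ^ 3 = 1
    · exact ⟨12, by simp, lift (m := 6) (by rw [show 6 = 3 * 2 from rfl, pow_mul, h3, one_pow]) rfl⟩
    by_cases h5 : (x.right : Perm (Fin 8)) ^ 5 = 1
    · exact ⟨10, by simp, lift h5 rfl⟩
    refine ⟨15, by simp, pow_eq_one_of_const x (Subtype.ext (by rw [SubgroupClass.coe_pow, h]; rfl))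
      (const_conj ?_ const_w15)⟩
    rw [pow_eq_one_iff_parts] at h3 h5
    push Not at h3 h5
    obtain ⟨a, ha, ha3⟩ := h3
    obtain ⟨b, hb', hb5⟩ := h5
    obtain ⟨_, _⟩ := hb a ha
    obtain ⟨_, _⟩ := hb b hb'
    have hda := hp a ha
    have hdb := hp b hb'
    have ha5 : a = 5 := by revert hda ha3; interval_cases a <;> decide
    have hb3' : b = 3 := by revert hdb hb5; interval_cases b <;> decide
    subst ha5 hb3'
    rw [Perm.isConj_iff_cycleType_eq, cycleType_pair (by norm_num) (by norm_num) ha hb']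
    decide +kernel

end Cfsg.Agent.JankoTwo
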