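import Cfsg.Agent.JankoTwo.SameOrders

/-!
Witnesses for the element orders of the extensions of `A₈`.
-/

set_option autoImplicit false

namespace Cfsg.Agent.JankoTwo

open Equiv

theorem exists_double_order {k : ℕ} (g : Perm (Fin 8)) (hg : g ∈ alternatingGroup (Fin 8))
    (o : ℕ) (ho : 0 < o) (v : Fin 8 → ZMod 2) (hv : ∑ a, v a = 0)
    (hgo : g ^ o = 1 ∧ ∀ m < 2 * o, 0 < m → g ^ m = 1 → m = o)
    (hne : ∃ p : Fin 8 × Fin 8, ∑ j ∈ Finset.range o, dPair v ((g ^ j)⁻¹ p.1, (g ^ j)⁻¹ p.2) ≠ 0) :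
    ∃ x : ExtA8 (k + 1), orderOf x = 2 * o := by
  let x : ExtA8 (k + 1) :=
    ⟨Multiplicative.ofAdd fun _ => ⟨dPair v, v, hv, rfl⟩, ⟨g, hg⟩⟩
  refine ⟨x, (orderOf_eq_iff (by omega)).mpr ⟨?_, fun m hm hm0 hx => ?_⟩⟩
  · exact pow_two_mul_eq_one x (Subtype.ext (by rw [SubgroupClass.coe_pow]; exact hgo.1))
  · have hr : g ^ m = 1 := by
      have := congrArg (fun y : ExtA8 (k + 1) => (y.right : Perm (Fin 8))) hx
      simpa [pow_right', x] using this
    obtain rfl := hgo.2 m hm hm0 hr
    obtain ⟨p, hp⟩ := hne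
    refine hp ?_
    have := pow_left' x m 0 p
    rw [hx] at this
    simpa [x] using this.symm

theorem exists_same_order {k : ℕ} (g : Perm (Fin 8)) (hg : g ∈ alternatingGroup (Fin 8)) :
    ∃ x : ExtA8 k, orderOf x = orderOf g :=
  ⟨SemidirectProduct.inr ⟨g, hg⟩, by
    rw [orderOf_injective _ SemidirectProduct.inr_injective, ← Subgroup.orderOf_coe]⟩

/-- An element with a given order, for each maximal order. -/
theorem ext_witness {k n : ℕ} (hn : n ∈ [7, 8, 10, 12, 15]) :
    ∃ x : ExtA8 (k + 1), orderOf x = n := by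
  simp only [List.mem_cons, List.not_mem_nil, or_false] at hn
  rcases hn with rfl | rfl | rfl | rfl | rfl
  · obtain ⟨x, hx⟩ := exists_same_order (k := k + 1) w7 (Perm.mem_alternatingGroup.mpr (by decide +kernel))
    exact ⟨x, hx.trans ((orderOf_eq_iff (by norm_num)).mpr ⟨by decide +kernel, by decide +kernel⟩)⟩
  · exact exists_double_order (List.formPerm [0, 1, 2, 3] * List.formPerm [4, 5]) (Perm.mem_alternatingGroup.mpr (by decide +kernel))
      4 (by norm_num) (fun a => if a = 0 ∨ a = 4 then 1 else 0) (by decide +kernel)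
      (by decide +kernel) (by decide +kernel)
  · exact exists_double_order (List.formPerm [0, 1, 2, 3, 4]) (Perm.mem_alternatingGroup.mpr (by decide +kernel))
      5 (by norm_num) (fun a => if a = 0 ∨ a = 5 then 1 else 0) (by decide +kernel)
      (by decide +kernel) (by decide +kernel)
  · exact exists_double_order
      (List.formPerm [0, 1, 2] * List.formPerm [3, 4] * List.formPerm [5, 6])
      (Perm.mem_alternatingGroup.mpr (by decide +kernel))
      6 (by norm_num) (fun a => if a = 0 ∨ a = 3 then 1 else 0) (by decide +kernel)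
      (by decide +kernel) (by decide +kernel)
  · obtain ⟨x, hx⟩ := exists_same_order (k := k + 1) w15 (Perm.mem_alternatingGroup.mpr (by decide +kernel))
    exact ⟨x, hx.trans ((orderOf_eq_iff (by norm_num)).mpr ⟨by decide +kernel, by decide +kernel⟩)⟩

noncomputable instance instFintypeExtA8 (k : ℕ) : Fintype (ExtA8 k) := by
  classical
  exact Fintype.ofEquiv _ SemidirectProduct.equivProd.symm

theorem lt_card_ext (N : ℕ) : N < Fintype.card (ExtA8 (N + 1)) := by
  classical
  rw [← Nat.card_eq_fintype_card, SemidirectProduct.card]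
  refine lt_of_lt_of_le ?_ (Nat.le_mul_of_pos_right _ Nat.card_pos)
  rw [Nat.card_congr Multiplicative.toAdd, Nat.card_fun, Nat.card_fin]
  have h2 : 2 ≤ Nat.card heartV := by
    have : Nontrivial heartV := by
      refine ⟨⟨0, ⟨dPair fun a => if a = 0 ∨ a = 1 then 1 else 0, _, by decide +kernel, rfl⟩, ?_⟩⟩
      intro h
      have := congrArg (fun f : heartV => (f : Fin 8 × Fin 8 → ZMod 2) (0, 2)) h
      simp [dPair] at this
    exact Finite.one_lt_card
  calc N < 2 ^ N := Nat.lt_two_pow_self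
    _ ≤ 2 ^ (N + 1) := Nat.pow_le_pow_right (by norm_num) (Nat.le_succ N)
    _ ≤ Nat.card heartV ^ (N + 1) := Nat.pow_le_pow_left h2 _

end Cfsg.Agent.JankoTwo
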