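import Cfsg.Agent.JankoTwo.Simple
import Cfsg.Agent.JankoTwo.CosetData

/-!
Sets of axes coded as bit masks.
-/

set_option autoImplicit false

namespace Cfsg.Agent.JankoTwo

open Cfsg.Agent.Compute
open scoped Pointwise

/-- The image of a mask. -/
noncomputable def imgSet (g m : ℕ) : ℕ :=
  Nat.rec (motive := fun _ => ℕ) 0
    (fun i r => cond (Nat.beq (Nat.land (Nat.shiftRight m i) 1) 1)
      (Nat.lor r (Nat.shiftLeft 1 (getField 9 g i))) r) 315

/-- The set of a mask. -/
def decSet (m : ℕ) : Set (Fin 315) := {x | m.testBit x = true}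

theorem land_one_beq (m i : ℕ) : Nat.beq (Nat.land (Nat.shiftRight m i) 1) 1 = m.testBit i := by
  have e : Nat.land (Nat.shiftRight m i) 1 = (m >>> i) % 2 := Nat.and_one_is_mod _
  rw [Bool.eq_iff_iff, Nat.beq_eq, e, Nat.testBit_eq_decide_div_mod_eq, decide_eq_true_eq,
    Nat.shiftRight_eq_div_pow]

theorem testBit_imgRec (g m j n : ℕ) :
    (Nat.rec (motive := fun _ => ℕ) 0
      (fun i r => cond (Nat.beq (Nat.land (Nat.shiftRight m i) 1) 1)
        (Nat.lor r (Nat.shiftLeft 1 (getField 9 g i))) r) n).testBit j = true ↔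
      ∃ i < n, m.testBit i = true ∧ getField 9 g i = j := by
  induction n with
  | zero => simp
  | succ n ih =>
    change (cond (Nat.beq (Nat.land (Nat.shiftRight m n) 1) 1) _ _ : ℕ).testBit j = true ↔ _
    rw [land_one_beq]
    cases hb : m.testBit n
    · rw [cond_false, ih]
      refine ⟨fun ⟨i, hi, h⟩ => ⟨i, by omega, h⟩, fun ⟨i, hi, h1, h2⟩ => ⟨i, ?_, h1, h2⟩⟩
      rcases Nat.lt_succ_iff_lt_or_eq.mp hi with h | h
      · exact h
      · rw [h, hb] at h1; simp at h1
    · rw [cond_true]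
      change (_ ||| (1 <<< getField 9 g n) : ℕ).testBit j = true ↔ _
      rw [Nat.testBit_or, Bool.or_eq_true, ih, Nat.one_shiftLeft, Nat.testBit_two_pow,
        decide_eq_true_eq]
      constructor
      · rintro (⟨i, hi, h⟩ | h)
        · exact ⟨i, by omega, h⟩
        · exact ⟨n, by omega, hb, h⟩
      · rintro ⟨i, hi, h1, h2⟩
        rcases Nat.lt_succ_iff_lt_or_eq.mp hi with h | h
        · exact Or.inl ⟨i, h, h1, h2⟩
        · exact Or.inr (h ▸ h2)

theorem imgSet_lt {g : ℕ} (hg : CodePerm 9 315 g) (m : ℕ) : imgSet g m < 2 ^ 315 := by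
  refine Nat.lt_pow_two_of_testBit _ fun j hj => ?_
  by_contra hb
  rw [Bool.not_eq_false] at hb
  obtain ⟨i, hi, -, hij⟩ := (testBit_imgRec g m j 315).mp hb
  have := hg.choose i hi
  omega

theorem decSet_img {g : ℕ} (hg : CodePerm 9 315 g) (m : ℕ) :
    rep315.den g • decSet m = decSet (imgSet g m) := by
  ext y
  rw [Set.mem_smul_set]
  constructor
  · rintro ⟨x, hx, rfl⟩
    exact (testBit_imgRec g m _ 315).mpr ⟨x, x.2, hx, by rw [Equiv.Perm.smul_def, den_apply hg]⟩
  · intro hy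
    obtain ⟨i, hi, hm, he⟩ := (testBit_imgRec g m _ 315).mp hy
    exact ⟨⟨i, hi⟩, hm, Fin.ext (by rw [Equiv.Perm.smul_def, den_apply hg, he])⟩

theorem decSet_inj {a b : ℕ} (ha : a < 2 ^ 315) (hb : b < 2 ^ 315) (h : decSet a = decSet b) :
    a = b := by
  refine Nat.eq_of_testBit_eq fun i => ?_
  by_cases hi : i < 315
  · have := Set.ext_iff.mp h ⟨i, hi⟩
    exact Bool.eq_iff_iff.mpr this
  · rw [Nat.testBit_lt_two_pow (lt_of_lt_of_le ha (Nat.pow_le_pow_right (by norm_num) (by omega))),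
      Nat.testBit_lt_two_pow (lt_of_lt_of_le hb (Nat.pow_le_pow_right (by norm_num) (by omega)))]

theorem rep315_ok : rep315.Ok = CodePerm 9 315 := by simp only [rep315, permRep]

/-- Masks as an object. -/
noncomputable def setObj : Obj rep315 (Set (Fin 315)) where
  act := imgSet
  Good m := m < 2 ^ 315
  dec := decSet
  act_good g a hg _ := imgSet_lt (rep315_ok ▸ hg) a
  act_dec g a hg _ := decSet_img (rep315_ok ▸ hg) a
  dec_inj _ _ := decSet_inj

end Cfsg.Agent.JankoTwo
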