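import Mathlib

/-!
The element orders of the symmetric group of degree 8.
-/

set_option autoImplicit false

namespace Cfsg.Agent.JankoTwo

open Equiv

theorem small_set_exponent : ∀ S ∈ (Finset.range 9).powerset, S.sum id ≤ 8 →
    ∃ n ∈ [7, 8, 10, 12, 15], ∀ a ∈ S, 0 < a → a ∣ n := by
  decide +kernel

theorem s8_exponent (σ : Perm (Fin 8)) : ∃ n ∈ [7, 8, 10, 12, 15], σ ^ n = 1 := by
  have hsum : σ.cycleType.sum ≤ 8 := by
    rw [Perm.sum_cycleType]
    exact (Finset.card_le_univ _).trans (le_of_eq (Fintype.card_fin 8))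
  have hle : ∀ a ∈ σ.cycleType, a ≤ 8 := fun a ha =>
    (Multiset.single_le_sum (fun x _ => Nat.zero_le x) a ha).trans hsum
  obtain ⟨n, hn, h⟩ := small_set_exponent σ.cycleType.toFinset
    (Finset.mem_powerset.mpr fun a ha => Finset.mem_range.mpr
      (Nat.lt_succ_of_le (hle a (Multiset.mem_toFinset.mp ha)))) (by
    refine le_trans ?_ hsum
    conv_rhs => rw [Finset.sum_multiset_count]
    refine Finset.sum_le_sum fun a ha => ?_
    rw [smul_eq_mul, id]
    exact Nat.le_mul_of_pos_left _ (Multiset.count_pos.mpr (Multiset.mem_toFinset.mp ha)))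
  refine ⟨n, hn, orderOf_dvd_iff_pow_eq_one.mp ?_⟩
  rw [← Perm.lcm_cycleType, Multiset.lcm_dvd]
  exact fun a ha => h a (Multiset.mem_toFinset.mpr ha) (by
    have := Perm.two_le_of_mem_cycleType ha; omega)

def w7 : Perm (Fin 8) := List.formPerm [0, 1, 2, 3, 4, 5, 6]
def w8 : Perm (Fin 8) := List.formPerm [0, 1, 2, 3, 4, 5, 6, 7]
def w10 : Perm (Fin 8) := List.formPerm [0, 1, 2, 3, 4] * List.formPerm [5, 6]
def w12 : Perm (Fin 8) := List.formPerm [0, 1, 2, 3] * List.formPerm [4, 5, 6]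
def w15 : Perm (Fin 8) := List.formPerm [0, 1, 2, 3, 4] * List.formPerm [5, 6, 7]

theorem s8_witness {n : ℕ} (hn : n ∈ [7, 8, 10, 12, 15]) : ∃ σ : Perm (Fin 8), orderOf σ = n := by
  simp only [List.mem_cons, List.not_mem_nil, or_false] at hn
  rcases hn with rfl | rfl | rfl | rfl | rfl
  · exact ⟨w7, (orderOf_eq_iff (by norm_num)).mpr ⟨by decide +kernel, by decide +kernel⟩⟩
  · exact ⟨w8, (orderOf_eq_iff (by norm_num)).mpr ⟨by decide +kernel, by decide +kernel⟩⟩
  · exact ⟨w10, (orderOf_eq_iff (by norm_num)).mpr ⟨by decide +kernel, by decide +kernel⟩⟩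
  · exact ⟨w12, (orderOf_eq_iff (by norm_num)).mpr ⟨by decide +kernel, by decide +kernel⟩⟩
  · exact ⟨w15, (orderOf_eq_iff (by norm_num)).mpr ⟨by decide +kernel, by decide +kernel⟩⟩

end Cfsg.Agent.JankoTwo
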