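import Cfsg.Prelude.Def_Classical
import Cfsg.Agent.Classical.HermGroup
import Cfsg.Agent.JankoTwo.Nine

/-!
`SU(3,3)` over the field with nine elements: order 6048, trivial centre.
-/

set_option autoImplicit false

namespace Cfsg.Agent.JankoTwo

open Cfsg Matrix

/-- The unitary condition on columns. -/
def colsUnitary9 (M : Matrix (Fin 3) (Fin 3) F9) : Prop :=
  ∀ a b, M 0 a * M 0 b ^ 3 + M 1 a * M 1 b ^ 3 + M 2 a * M 2 b ^ 3 = if a = b then 1 else 0

instance (M : Matrix (Fin 3) (Fin 3) F9) : Decidable (colsUnitary9 M) := by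
  unfold colsUnitary9; infer_instance

theorem mem_SU9_of_cols (g : Matrix.SpecialLinearGroup (Fin 3) F9)
    (h : colsUnitary9 (g : Matrix (Fin 3) (Fin 3) F9)) : g ∈ SU 3 F9 3 := by
  obtain ⟨σ, hσq, -⟩ :=
    Classical.exists_powHom (F := F9) (q := 3) (by rw [F9.card]; norm_num)
  rw [Classical.mem_SU_iff hσq, Classical.preserves_iff_cols]
  intro i j
  simp only [Classical.hermB_apply, Matrix.mulVec_single, hσq, Fin.sum_univ_three]
  have := h j i
  simp only [eq_comm (a := i)]
  rw [← this]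
  simp
  ring

theorem card_SU9 : Nat.card (SU 3 F9 3) = 6048 := by
  obtain ⟨σ, hσq, hσ, hq, -⟩ := Classical.exists_powHom (F := F9) (q := 3) (by rw [F9.card]; norm_num)
  have h := Classical.card_SU_mul_eq_GU (n := 3) hσ hσq hq (by norm_num)
  rw [Classical.card_GU_formula hσ hσq hq] at h
  simp [Finset.prod_range_succ, Nat.even_iff] at h
  omega

theorem center_SU9 : Subgroup.center (SU 3 F9 3) = ⊥ := by
  obtain ⟨σ, hσq, hσ, hq, -⟩ := Classical.exists_powHom (F := F9) (q := 3) (by rw [F9.card]; norm_num)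
  have h := Classical.card_center_SU (n := 3) hσ hσq hq (by norm_num)
  exact Subgroup.card_eq_one.mp (h.trans (by norm_num))

/-- `PSU(3,3) = SU(3,3)`. -/
noncomputable def psu9Equiv : PSU 3 F9 3 ≃* SU 3 F9 3 :=
  (QuotientGroup.quotientMulEquivOfEq center_SU9).trans QuotientGroup.quotientBot

end Cfsg.Agent.JankoTwo
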